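import Cfsg.Agent.Solvable.PGroupBasic
import Mathlib.GroupTheory.Sylow
import Mathlib.GroupTheory.Perm.Cycle.Type

/-!
A 2-group `P` without normal elementary abelian subgroups of order 8 and an automorphism `φ` of odd
prime power order: the subgroup moved by `φ` and the fixed elements.
-/

set_option autoImplicit false
set_option linter.unusedSectionVars false
set_option linter.style.haveILetI false

namespace CfsgLib.NormalRankTwo

open Subgroup
open scoped commutatorElement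

variable {P : Type*} [Group P]

/-- No normal elementary abelian subgroup of order 8; an automorphism of odd prime power order. -/
structure Hyp (φ : MulAut P) : Prop where
  two : IsPGroup 2 P
  small : ∀ A : Subgroup P, A.Normal → IsMulCommutative A → (∀ a ∈ A, a ^ 2 = 1) → Nat.card A ≤ 4
  order : ∃ p k : ℕ, p.Prime ∧ p ≠ 2 ∧ φ ^ p ^ k = 1

/-- The subgroup generated by the `x⁻¹ φ x`. -/
def moved (φ : MulAut P) : Subgroup P := closure (Set.range fun x : P => x⁻¹ * φ x)

/-- A normal subgroup invariant under `φ`. -/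
structure Inv (φ : MulAut P) (N : Subgroup P) : Prop where
  nrm : N.Normal
  inv : ∀ x ∈ N, φ x ∈ N

/-- The commutator `x y x⁻¹ y⁻¹`. -/
def br (x y : P) : P := x * y * x⁻¹ * y⁻¹

theorem br_eq_one {x y : P} : br x y = 1 ↔ x * y = y * x := by
  rw [br, mul_inv_eq_one, mul_inv_eq_iff_eq_mul]

theorem br_swap (x y : P) : br y x = (br x y)⁻¹ := by rw [br, br]; group

theorem map_br (φ : MulAut P) (x y : P) : φ (br x y) = br (φ x) (φ y) := by
  simp [br]

theorem mem_moved (φ : MulAut P) (x : P) : x⁻¹ * φ x ∈ moved φ := subset_closure ⟨x, rfl⟩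

theorem moved_inv (φ : MulAut P) : Inv φ (moved φ) := by
  refine ⟨⟨fun n hn g => ?_⟩, fun x hx => ?_⟩
  · induction hn using closure_induction with
    | mem x hx =>
      obtain ⟨y, rfl⟩ := hx
      have e : g * (y⁻¹ * φ y) * g⁻¹ =
          ((y * g⁻¹)⁻¹ * φ (y * g⁻¹)) * ((g⁻¹)⁻¹ * φ g⁻¹)⁻¹ := by
        simp only [map_mul, map_inv]; group
      rw [e]
      exact mul_mem (mem_moved φ _) (inv_mem (mem_moved φ _))
    | one => simp
    | mul x y _ _ hx hy =>
      rw [show g * (x * y) * g⁻¹ = g * x * g⁻¹ * (g * y * g⁻¹) by group]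
      exact mul_mem hx hy
    | inv x _ hx =>
      rw [show g * x⁻¹ * g⁻¹ = (g * x * g⁻¹)⁻¹ by group]
      exact inv_mem hx
  · have hle : (moved φ).map φ.toMonoidHom ≤ moved φ := by
      rw [moved, MonoidHom.map_closure, closure_le]
      rintro _ ⟨_, ⟨y, rfl⟩, rfl⟩
      show φ (y⁻¹ * φ y) ∈ _
      rw [map_mul, map_inv]
      exact mem_moved φ _
    exact hle (mem_map_of_mem φ.toMonoidHom hx)

theorem bot_inv (φ : MulAut P) : Inv φ ⊥ :=
  ⟨inferInstance, fun x hx => by rw [mem_bot] at hx ⊢; rw [hx, map_one]⟩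

namespace Inv

variable {φ : MulAut P} {N K : Subgroup P}

theorem inf (hN : Inv φ N) (hK : Inv φ K) : Inv φ (N ⊓ K) :=
  haveI := hN.nrm
  haveI := hK.nrm
  ⟨inferInstance, fun x hx => ⟨hN.inv x hx.1, hK.inv x hx.2⟩⟩

theorem pow_mem (hN : Inv φ N) : ∀ (j : ℕ) {x : P}, x ∈ N → (φ ^ j) x ∈ N
  | 0, _, hx => hx
  | j + 1, x, hx => by rw [pow_succ', MulAut.mul_apply]; exact hN.inv _ (hN.pow_mem j hx)

theorem map_eq [Finite P] (hN : Inv φ N) : N.map φ.toMonoidHom = N :=
  eq_of_le_of_card_ge (by rintro _ ⟨x, hx, rfl⟩; exact hN.inv x hx)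
    (card_map_of_injective φ.injective).ge

theorem mem_iff [Finite P] (hN : Inv φ N) (x : P) : φ x ∈ N ↔ x ∈ N := by
  refine ⟨fun hx => ?_, hN.inv x⟩
  rw [← hN.map_eq] at hx
  obtain ⟨y, hy, he⟩ := hx
  rwa [← φ.injective he]

theorem centralizer [Finite P] (hN : Inv φ N) : Inv φ (Subgroup.centralizer (N : Set P)) := by
  haveI := hN.nrm
  refine ⟨normal_centralizer, fun x hx => mem_centralizer_iff.2 fun n hn => ?_⟩
  obtain ⟨m, rfl⟩ := φ.surjective n
  rw [← map_mul, ← map_mul, mem_centralizer_iff.1 hx m ((hN.mem_iff m).1 hn)]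

theorem commutator (hN : Inv φ N) (hK : Inv φ K) : Inv φ ⁅N, K⁆ := by
  haveI := hN.nrm
  haveI := hK.nrm
  refine ⟨commutator_normal N K, fun x hx => ?_⟩
  have h : (⁅N, K⁆).map φ.toMonoidHom ≤ ⁅N, K⁆ := by
    rw [map_commutator]
    exact commutator_mono (by rintro _ ⟨y, hy, rfl⟩; exact hN.inv y hy)
      (by rintro _ ⟨y, hy, rfl⟩; exact hK.inv y hy)
  exact h (mem_map_of_mem φ.toMonoidHom hx)

end Inv

/-- The elements commuting modulo `N` with all elements of `X`. -/
def centModIn (X N : Subgroup P) [hN : N.Normal] : Subgroup P where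
  carrier := {x | ∀ y ∈ X, br x y ∈ N}
  one_mem' := fun y _ => by simp [br]
  mul_mem' := fun {a b} ha hb y hy => by
    have e : br (a * b) y = a * br b y * a⁻¹ * br a y := by simp only [br]; group
    rw [e]
    exact mul_mem (hN.conj_mem _ (hb y hy) a) (ha y hy)
  inv_mem' := fun {a} ha y hy => by
    have e : br a⁻¹ y = a⁻¹ * (br a y)⁻¹ * a⁻¹⁻¹ := by simp only [br]; group
    rw [e]
    exact hN.conj_mem _ (inv_mem (ha y hy)) a⁻¹

theorem mem_centModIn {X N : Subgroup P} [N.Normal] {x : P} :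
    x ∈ centModIn X N ↔ ∀ y ∈ X, br x y ∈ N := Iff.rfl

theorem Inv.centModIn [Finite P] {φ : MulAut P} {X N : Subgroup P} (hX : Inv φ X) (hN : Inv φ N) :
    haveI := hN.nrm
    Inv φ (NormalRankTwo.centModIn X N) := by
  haveI := hN.nrm
  refine ⟨⟨fun x hx g y hy => ?_⟩, fun x hx y hy => ?_⟩
  · have h1 := hN.nrm.conj_mem _ (hx (g⁻¹ * y * g⁻¹⁻¹) (hX.nrm.conj_mem y hy g⁻¹)) g
    have e : g * br x (g⁻¹ * y * g⁻¹⁻¹) * g⁻¹ = br (g * x * g⁻¹) y := by simp only [br]; group
    rwa [e] at h1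
  · obtain ⟨w, rfl⟩ := φ.surjective y
    rw [← map_br]
    exact hN.inv _ (hx w ((hX.mem_iff w).1 hy))

/-- Membership in a product with a cyclic subgroup of order two modulo `E`. -/
theorem mem_sup_invol {E : Subgroup P} [E.Normal] {c : P} (hc : c ^ 2 ∈ E) {x : P}
    (hx : x ∈ E ⊔ zpowers c) : ∃ e ∈ E, x = e ∨ x = e * c := by
  rw [mem_sup_of_normal_left] at hx
  obtain ⟨e, he, y, hy, rfl⟩ := hx
  obtain ⟨j, rfl⟩ := mem_zpowers_iff.1 hy
  rcases Int.even_or_odd j with ⟨i, rfl⟩ | ⟨i, rfl⟩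
  · refine ⟨e * c ^ (i + i), mul_mem he ?_, Or.inl rfl⟩
    rw [← two_mul, zpow_mul, zpow_ofNat]
    exact zpow_mem hc i
  · refine ⟨e * (c ^ 2) ^ i, mul_mem he (zpow_mem hc i), Or.inr ?_⟩
    rw [mul_assoc]; congr 1
    rw [zpow_add, zpow_mul, zpow_ofNat, zpow_one]

theorem card_sup_invol [Finite P] {E : Subgroup P} {c : P} (hc : c ∉ E) :
    2 * Nat.card E ≤ Nat.card ↥(E ⊔ zpowers c) := by
  classical
  let f : Bool × E → ↥(E ⊔ zpowers c) := fun p =>
    ⟨(p.2 : P) * (if p.1 then c else 1), mul_mem (mem_sup_left p.2.2)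
      (by split_ifs <;> first | exact mem_sup_right (mem_zpowers c) | exact one_mem _)⟩
  have hf : Function.Injective f := by
    rintro ⟨a, u⟩ ⟨b, v⟩ he
    have he' : (u : P) * (if a then c else 1) = v * (if b then c else 1) := congrArg Subtype.val he
    cases a <;> cases b <;> simp at he' ⊢
    · exact he'
    · exact absurd (by
        have : c = (v : P)⁻¹ * u := by rw [he']; group
        rw [this]; exact mul_mem (inv_mem v.2) u.2) hc
    · exact absurd (by
        have : c = (u : P)⁻¹ * v := by rw [← he']; group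
        rw [this]; exact mul_mem (inv_mem u.2) v.2) hc
    · exact he'
  have := Nat.card_le_card_of_injective f hf
  rwa [Nat.card_prod, Nat.card_eq_fintype_card (α := Bool), Fintype.card_bool] at this

/-- Elements of 2-power order with an odd power in `N` lie in `N`. -/
theorem mem_of_odd_pow (hP : IsPGroup 2 P) {N : Subgroup P} {x : P} {m : ℕ} (hm : Odd m)
    (h : x ^ m ∈ N) : x ∈ N := by
  obtain ⟨k, hk⟩ := hP x
  have hcop : Nat.Coprime m (orderOf x) := by
    obtain ⟨j, -, hj⟩ := (Nat.dvd_prime_pow Nat.prime_two).1 (orderOf_dvd_of_pow_eq_one hk)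
    rw [hj]
    exact (Nat.coprime_two_right.2 hm).pow_right j
  obtain ⟨j, hj⟩ := exists_pow_eq_self_of_coprime hcop
  rw [← hj]
  exact pow_mem h j

/-- A subgroup between `N` and a normal subgroup `K` meets the centre of `P` modulo `N`. -/
theorem exists_central [Finite P] (hP : IsPGroup 2 P) (N K : Subgroup P) [N.Normal] [K.Normal]
    (h : N < K) : ∃ x ∈ K, x ∉ N ∧ ∀ g : P, br x g ∈ N := by
  haveI : Fact (Nat.Prime 2) := ⟨Nat.prime_two⟩
  haveI := hP.isNilpotent
  exact CfsgLib.PGroupBasic.exists_central_mod N K h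

namespace Hyp

variable {φ : MulAut P}

theorem exists_odd_period (h : Hyp φ) : ∃ m : ℕ, Odd m ∧ φ ^ m = 1 := by
  obtain ⟨p, k, hp, hp2, hk⟩ := h.order
  exact ⟨p ^ k, (hp.odd_of_ne_two hp2).pow, hk⟩

theorem fixed_of_sq (h : Hyp φ) {x : P} (hx : φ (φ x) = x) : φ x = x := by
  obtain ⟨m, ⟨l, rfl⟩, hm⟩ := h.exists_odd_period
  have key : ∀ j : ℕ, (φ ^ (2 * j)) x = x := fun j => by
    induction j with
    | zero => rfl
    | succ j ih =>
      rw [show 2 * (j + 1) = (2 * j + 1) + 1 by ring, pow_succ, MulAut.mul_apply, pow_succ,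
        MulAut.mul_apply, hx, ih]
  have e := congrArg (fun f : MulAut P => f x) hm
  simp only [MulAut.one_apply] at e
  rw [pow_succ', MulAut.mul_apply, key] at e
  exact e

variable [Finite P]

/-- A coset of an invariant subgroup fixed by `φ` contains a fixed element. -/
theorem fix_coset (h : Hyp φ) {N : Subgroup P} (hN : ∀ n ∈ N, φ n ∈ N) {x : P}
    (hx : x⁻¹ * φ x ∈ N) : ∃ c : P, φ c = c ∧ x⁻¹ * c ∈ N := by
  obtain ⟨p, k, hp, hp2, hk⟩ := h.order
  haveI : Fact p.Prime := ⟨hp⟩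
  haveI := Fintype.ofFinite N
  let f : N → N := fun n => ⟨x⁻¹ * φ x * φ n, mul_mem hx (hN n n.2)⟩
  have key : ∀ (j : ℕ) (n : N), x * (((f^[j]) n : N) : P) = (φ ^ j) (x * n) := fun j => by
    induction j with
    | zero => intro n; rfl
    | succ j ih =>
      intro n
      rw [Function.iterate_succ_apply', pow_succ', MulAut.mul_apply, ← ih]
      show x * (x⁻¹ * φ x * φ _) = _
      rw [map_mul]; group
  have hinj : Function.Injective f := fun n m e =>
    Subtype.ext (φ.injective (mul_left_cancel (congrArg Subtype.val e)))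
  let σ : Equiv.Perm N := Equiv.ofBijective f (Finite.injective_iff_bijective.1 hinj)
  have hnd : ¬ p ∣ Fintype.card N := fun hd => by
    obtain ⟨j, hj⟩ := (h.two.to_subgroup N).exists_card_eq
    rw [Fintype.card_eq_nat_card, hj] at hd
    exact hp2 ((Nat.prime_dvd_prime_iff_eq hp Nat.prime_two).1 (hp.dvd_of_dvd_pow hd))
  obtain ⟨n, hn⟩ := Equiv.Perm.exists_fixed_point_of_prime (p := p) (n := k) (σ := σ) hnd
    (Equiv.ext fun n => Subtype.ext (mul_left_cancel (a := x) (by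
      rw [← Equiv.Perm.iterate_eq_pow]
      show x * (((f^[p ^ k]) n : N) : P) = x * (n : P)
      rw [key, hk]; rfl)))
  refine ⟨x * n, ?_, by simp⟩
  have h1 := key 1 n
  rw [Function.iterate_one, pow_one, show f n = n from hn] at h1
  exact h1.symm

/-- `P` is `moved φ` times the fixed elements. -/
theorem exists_fixed_mul (h : Hyp φ) (x : P) : ∃ c : P, φ c = c ∧ x * c⁻¹ ∈ moved φ := by
  obtain ⟨c, hc, hxc⟩ := h.fix_coset (moved_inv φ).inv (mem_moved φ x)
  refine ⟨c, hc, ?_⟩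
  have := (moved_inv φ).nrm.conj_mem _ hxc x
  rw [show x * (x⁻¹ * c) * x⁻¹ = (x * c⁻¹)⁻¹ by group] at this
  exact inv_mem_iff.1 this

/-- `[P, φ, φ] = [P, φ]`. -/
theorem moved_eq (h : Hyp φ) :
    closure ((fun x : P => x⁻¹ * φ x) '' (moved φ : Set P)) = moved φ := by
  set Y := closure ((fun x : P => x⁻¹ * φ x) '' (moved φ : Set P))
  refine le_antisymm ((closure_le _).2 ?_) ((closure_le _).2 ?_)
  · rintro _ ⟨x, hx, rfl⟩
    exact mul_mem (inv_mem hx) ((moved_inv φ).inv x hx)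
  rintro _ ⟨x, rfl⟩
  obtain ⟨c, hc, hxc⟩ := h.exists_fixed_mul x
  have hmem : c⁻¹ * (x * c⁻¹) * c⁻¹⁻¹ ∈ moved φ := (moved_inv φ).nrm.conj_mem _ hxc c⁻¹
  have : x⁻¹ * φ x = (c⁻¹ * (x * c⁻¹) * c⁻¹⁻¹)⁻¹ * φ (c⁻¹ * (x * c⁻¹) * c⁻¹⁻¹) := by
    simp only [map_mul, map_inv, hc]; group
  show x⁻¹ * φ x ∈ Y
  rw [this]
  exact subset_closure ⟨_, hmem, rfl⟩

/-- A subgroup containing all `x⁻¹ φ x`, `x` moved, contains the moved subgroup. -/
theorem moved_le (h : Hyp φ) {N : Subgroup P} (hN : ∀ x ∈ moved φ, x⁻¹ * φ x ∈ N) :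
    moved φ ≤ N := by
  rw [← h.moved_eq, closure_le]
  rintro _ ⟨x, hx, rfl⟩
  exact hN x hx

/-- A fixed element of the moved subgroup lies in each invariant subgroup with abelian quotient. -/
theorem fixed_mem (h : Hyp φ) {E : Subgroup P} (hE : Inv φ E) (hcom : ⁅moved φ, moved φ⁆ ≤ E)
    {x : P} (hx : x ∈ moved φ) (hfx : φ x = x) : x ∈ E := by
  haveI := hE.nrm
  set q := QuotientGroup.mk' E
  have hc : ∀ a ∈ moved φ, ∀ b ∈ moved φ, q a * q b = q b * q a := fun a ha b hb => by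
    have h1 : q ⁅a, b⁆ = 1 := (QuotientGroup.eq_one_iff _).2 (hcom (commutator_mem_commutator ha hb))
    rw [map_commutatorElement] at h1
    exact commutatorElement_eq_one_iff_mul_comm.1 h1
  let S : Subgroup P :=
    { carrier := {a | a ∈ moved φ ∧ ∃ y ∈ moved φ, q a = q (y⁻¹ * φ y)}
      one_mem' := ⟨one_mem _, 1, one_mem _, by simp⟩
      mul_mem' := by
        rintro a b ⟨ha, y, hy, hay⟩ ⟨hb, w, hw, hbw⟩
        refine ⟨mul_mem ha hb, y * w, mul_mem hy hw, ?_⟩
        have hyy : y⁻¹ * φ y ∈ moved φ := mul_mem (inv_mem hy) ((moved_inv φ).inv y hy)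
        rw [map_mul, hay, hbw, show (y * w)⁻¹ * φ (y * w) = w⁻¹ * (y⁻¹ * φ y) * φ w by
          rw [map_mul]; group]
        simp only [map_mul q]
        rw [← mul_assoc, show q y⁻¹ * q (φ y) = q (y⁻¹ * φ y) from (map_mul q _ _).symm,
          hc _ hyy _ (inv_mem hw)]
      inv_mem' := by
        rintro a ⟨ha, y, hy, hay⟩
        refine ⟨inv_mem ha, y⁻¹, inv_mem hy, ?_⟩
        rw [map_inv, hay, ← map_inv, mul_inv_rev, inv_inv, map_inv φ]
        simp only [map_mul q]
        exact hc _ (inv_mem ((moved_inv φ).inv y hy)) _ hy }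
  have hle : moved φ ≤ S := h.moved_le fun y hy =>
    ⟨mul_mem (inv_mem hy) ((moved_inv φ).inv y hy), y, hy, rfl⟩
  obtain ⟨-, y, hy, hxy⟩ := hle hx
  have hj : ∀ j : ℕ, q ((φ ^ j) y) = q y * q x ^ j := fun j => by
    induction j with
    | zero => simp
    | succ j ih =>
      obtain ⟨e, he, hje⟩ : ∃ e ∈ E, (φ ^ j) y = y * x ^ j * e :=
        ⟨(y * x ^ j)⁻¹ * (φ ^ j) y, (QuotientGroup.eq (a := y * x ^ j)).1 (by
          show q (y * x ^ j) = q ((φ ^ j) y)
          rw [ih, map_mul, map_pow]), by group⟩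
      rw [pow_succ', MulAut.mul_apply, hje]
      simp only [map_mul, map_pow, hfx]
      rw [show q (φ e) = 1 from (QuotientGroup.eq_one_iff _).2 (hE.inv e he), mul_one]
      have : q (φ y) = q y * q x := by rw [hxy, map_mul, map_inv, mul_inv_cancel_left]
      rw [this, mul_assoc, ← pow_succ']
  obtain ⟨m, hm, hm1⟩ := h.exists_odd_period
  have e := hj m
  rw [hm1, MulAut.one_apply, left_eq_mul, ← map_pow] at e
  exact mem_of_odd_pow h.two hm ((QuotientGroup.eq_one_iff _).1 e)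

/-- The moved subgroup centralizes an invariant subgroup fixed elementwise. -/
theorem fixed_comm (_h : Hyp φ) {N : Subgroup P} (hN : Inv φ N) (hfix : ∀ n ∈ N, φ n = n) :
    moved φ ≤ Subgroup.centralizer (N : Set P) := by
  refine (closure_le _).2 ?_
  rintro _ ⟨x, rfl⟩
  refine mem_centralizer_iff.2 fun n hn => ?_
  have e := hfix _ (hN.nrm.conj_mem n hn x)
  rw [map_mul, map_mul, map_inv, hfix n hn] at e
  show n * (x⁻¹ * φ x) = x⁻¹ * φ x * n
  calc n * (x⁻¹ * φ x) = x⁻¹ * (x * n * x⁻¹) * φ x := by group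
    _ = x⁻¹ * (φ x * n * (φ x)⁻¹) * φ x := by rw [e]
    _ = _ := by group

/-- An automorphism fixing the involutions of an invariant abelian subgroup fixes it. -/
theorem fix_of_invol (h : Hyp φ) {N : Subgroup P} (hN : Inv φ N)
    (hc : ∀ a ∈ N, ∀ b ∈ N, a * b = b * a) (hom : ∀ e ∈ N, e ^ 2 = 1 → φ e = e) :
    ∀ n ∈ N, φ n = n := by
  intro n hn
  obtain ⟨k, hk⟩ := h.two n
  induction k generalizing n with
  | zero => rw [pow_zero, pow_one] at hk; rw [hk, map_one]
  | succ k ih =>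
    have h2 := ih (n ^ 2) (pow_mem hn 2) (by rw [← pow_mul, ← pow_succ']; exact hk)
    set d := φ n * n⁻¹ with hd
    have hd2 : d ^ 2 = 1 := by
      rw [hd, Commute.mul_pow (hc _ (hN.inv n hn) _ (inv_mem hn)), ← map_pow, h2, inv_pow,
        mul_inv_cancel]
    have hdN : d ∈ N := mul_mem (hN.inv n hn) (inv_mem hn)
    have key : ∀ j : ℕ, (φ ^ j) n = d ^ j * n := fun j => by
      induction j with
      | zero => simp
      | succ j ihj =>
        rw [pow_succ', MulAut.mul_apply, ihj, map_mul, map_pow, hom d hdN hd2, pow_succ, mul_assoc]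
        congr 1
        rw [hd, inv_mul_cancel_right]
    obtain ⟨m, ⟨l, rfl⟩, hm⟩ := h.exists_odd_period
    have h3 := key (2 * l + 1)
    rw [hm, MulAut.one_apply, pow_succ, pow_mul, hd2, one_pow, one_mul, hd,
      inv_mul_cancel_right] at h3
    exact h3.symm

end Hyp

end CfsgLib.NormalRankTwo
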