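import Cfsg.Agent.NormalRankTwo.Rotated

/-!
Subgroups with elementary quotient over a maximal invariant abelian subgroup, in the rotated case.
-/

set_option autoImplicit false
set_option linter.unusedSectionVars false
set_option linter.style.haveILetI false

namespace CfsgLib.NormalRankTwo

open Subgroup
open scoped IsMulCommutative

variable {P : Type*} [Group P] [Finite P] {φ : MulAut P} {M : Subgroup P}

/-- A maximal invariant abelian subgroup of the moved subgroup containing its centre. -/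
structure MaxAb (φ : MulAut P) (M : Subgroup P) : Prop where
  inv : Inv φ M
  le : M ≤ moved φ
  comm : ∀ a ∈ M, ∀ b ∈ M, a * b = b * a
  zle : zc φ ≤ M
  max : ∀ N : Subgroup P, Inv φ N → N ≤ moved φ → (∀ a ∈ N, ∀ b ∈ N, a * b = b * a) → M ≤ N → N = M

theorem vz_le_zc {φ : MulAut P} (r : Rotated φ) : vz P ≤ zc φ := fun _ hv =>
  ⟨r.vz_le_moved hv, mem_centralizer_iff.2 fun g _ => mem_center_iff.1 hv.1 g⟩

namespace MaxAb

variable (r : Rotated φ) (hm : MaxAb φ M)
include r hm

theorem vz_le : vz P ≤ M := (vz_le_zc r).trans hm.zle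

theorem eq_vz_or_root :
    M = vz P ∨ ∀ v ∈ vz P, ∃ q ∈ M, q ^ 2 = v := by
  by_cases hMV : M = vz P
  · exact Or.inl hMV
  right
  haveI : IsMulCommutative M := ⟨⟨fun a b => Subtype.ext (hm.comm a a.2 b b.2)⟩⟩
  have R := r.rot3 hm.inv
  haveI : Nontrivial M := by
    refine M.nontrivial_iff_ne_bot.2 fun hb => ?_
    have := card_le_of_le (hm.vz_le r)
    rw [r.card_vz, hb, card_bot] at this
    omega
  obtain ⟨n, hn⟩ := CfsgLib.ScnThree.exists_expo R.two
  have hn1 : 1 ≤ n := Nat.one_le_iff_ne_zero.2 fun h0 => hMV (le_antisymm (fun m hm' =>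
    r.invol_mem hm.inv hm.comm hm' (by simpa [h0] using congrArg Subtype.val (hn.1 ⟨m, hm'⟩)))
    (hm.vz_le r))
  intro v hv
  obtain ⟨q, hq⟩ := R.exists_root_top hn ⟨v, hm.vz_le r hv⟩ (Subtype.ext hv.2)
  obtain ⟨k, rfl⟩ : ∃ k, n = k + 1 := ⟨n - 1, by omega⟩
  refine ⟨((q ^ 2 ^ k : M) : P), (q ^ 2 ^ k).2, ?_⟩
  rw [← Subgroup.coe_pow, ← pow_mul, ← pow_succ, hq]

/-- An involution modulo `M`, central modulo `M` and with a square root in `M` lies in `M`. -/
theorem mem_of_sq {k q : P} (hc : ∀ m ∈ M, k * m = m * k) (hcen : ∀ g : P, br k g ∈ M) (hq : q ∈ M)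
    (hq2 : k ^ 2 = q ^ 2) : k ∈ M := by
  haveI := hm.inv.nrm
  set u := k * q⁻¹ with hu
  have hu2 : u ^ 2 = 1 := by
    rw [hu, Commute.mul_pow (hc _ (inv_mem hq)), inv_pow, hq2, mul_inv_cancel]
  have huc : ∀ m ∈ M, Commute u m := fun m hm' =>
    Commute.mul_left (hc m hm') (Commute.inv_left (hm.comm q hq m hm'))
  have hub : ∀ g, br u g ∈ vz P := fun g => by
    have hbm : br u g ∈ M := by
      have e : br (k * q⁻¹) g = k * br q⁻¹ g * k⁻¹ * br k g := by simp only [br]; group
      rw [hu, e]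
      exact mul_mem (hm.inv.nrm.conj_mem _ (br_mem_of_mem (inv_mem hq) g) k) (hcen g)
    refine r.invol_mem hm.inv hm.comm hbm ?_
    have e1 : u * br u g * u⁻¹ = br u g := by rw [(huc _ hbm).eq, mul_inv_cancel_right]
    calc br u g ^ 2 = u * br u g * u⁻¹ * br u g := by rw [e1, pow_two]
      _ = u ^ 2 * g * (u ^ 2)⁻¹ * g⁻¹ := by simp only [br, pow_two]; group
      _ = 1 := by rw [hu2]; group
  have := r.hyp.mem_of_four vz_le_center (fun e he => he.2) r.card_vz hu2 hub
  have h' := mul_mem (hm.vz_le r this) hq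
  rwa [hu, inv_mul_cancel_right] at h'

/-- The block lemma. -/
theorem block {K : Subgroup P} (hK : Inv φ K) (hMK : M ≤ K) (hKX : K ≤ moved φ)
    (hcent : ∀ k ∈ K, ∀ m ∈ M, k * m = m * k) (hsq : ∀ k ∈ K, k ^ 2 ∈ M)
    (hX : ∀ k ∈ K, ∀ x ∈ moved φ, br k x ∈ M) : K = M ∨ (M = vz P ∧ Nat.card K = 64) := by
  classical
  haveI := hm.inv.nrm
  haveI := hK.nrm
  -- no fixed cosets
  have hfix : ∀ x ∈ K, x⁻¹ * φ x ∈ M → x ∈ M := by
    let L : Subgroup P :=
      { carrier := {x | x ∈ K ∧ x⁻¹ * φ x ∈ M}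
        one_mem' := ⟨one_mem _, by simp [one_mem]⟩
        mul_mem' := fun {a b} ha hb => ⟨mul_mem ha.1 hb.1, by
          rw [map_mul, mul_inv_rev, show b⁻¹ * a⁻¹ * (φ a * φ b) = b⁻¹ * (a⁻¹ * φ a) * φ b by group,
            hcent _ (inv_mem hb.1) _ ha.2, mul_assoc]
          exact mul_mem ha.2 hb.2⟩
        inv_mem' := fun {a} ha => ⟨inv_mem ha.1, by
          rw [inv_inv, map_inv]
          have e := hcent a ha.1 _ (inv_mem ha.2)
          rw [show a * (φ a)⁻¹ = a * (a⁻¹ * φ a)⁻¹ * a⁻¹ by group, e, mul_inv_cancel_right]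
          exact inv_mem ha.2⟩ }
    have hLinv : ∀ x ∈ L, φ x ∈ L := fun x hx => ⟨hK.inv x hx.1, by
      rw [← map_inv, ← map_mul]; exact hm.inv.inv _ hx.2⟩
    have hML : M ≤ L := fun m hm' => ⟨hMK hm', mul_mem (inv_mem hm') (hm.inv.inv m hm')⟩
    have hLn : L.Normal := ⟨fun a ha g => by
      obtain ⟨c, hc, hgc⟩ := r.hyp.exists_fixed_mul g
      set x := g * c⁻¹ with hx
      have hb : c * a * c⁻¹ ∈ L := ⟨hK.nrm.conj_mem a ha.1 c, by
        rw [map_mul, map_mul, map_inv, hc,
          show (c * a * c⁻¹)⁻¹ * (c * φ a * c⁻¹) = c * (a⁻¹ * φ a) * c⁻¹ by group]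
        exact hm.inv.nrm.conj_mem _ ha.2 c⟩
      rw [show g * a * g⁻¹ = (br (c * a * c⁻¹) x)⁻¹ * (c * a * c⁻¹) by rw [hx, br]; group]
      exact mul_mem (hML (inv_mem (hX _ hb.1 x hgc))) hb⟩
    have hdec : ∀ a ∈ L, ∃ c ∈ K, φ c = c ∧ ∃ m ∈ M, a = c * m := fun a ha => by
      obtain ⟨c, hc, hac⟩ := r.hyp.fix_coset hm.inv.inv ha.2
      refine ⟨c, ?_, hc, c⁻¹ * a, ?_, (mul_inv_cancel_left c a).symm⟩
      · have := mul_mem ha.1 (hMK hac); rwa [mul_inv_cancel_left] at this
      · have := inv_mem hac; rwa [mul_inv_rev, inv_inv] at this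
    have hLc : ∀ a ∈ L, ∀ b ∈ L, a * b = b * a := by
      intro a ha b hb
      obtain ⟨c, hcK, hc, m, hm', rfl⟩ := hdec a ha
      obtain ⟨d, hdK, hd, m', hm'', rfl⟩ := hdec b hb
      have hcd : Commute c d := br_eq_one.1 (r.fpf hm.inv hm.comm (hX c hcK d (hKX hdK))
        (by rw [map_br, hc, hd]))
      exact (Commute.mul_left (hcd.mul_right (hcent c hcK m' hm''))
        (Commute.mul_right (hcent d hdK m hm').symm (hm.comm m hm' m' hm''))).eq
    intro x hx hx'
    have := hm.max L ⟨hLn, hLinv⟩ (fun y hy => hKX hy.1) hLc hML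
    exact this ▸ (⟨hx, hx'⟩ : x ∈ L)
  have hfour : Nat.card K = 4 * Nat.card M → False := by
    intro h4
    obtain ⟨x, hx, hxM⟩ : ∃ x ∈ K, x ∉ M := by
      by_contra hno
      push Not at hno
      have := card_le_of_le (show K ≤ M from hno)
      have : 0 < Nat.card M := Nat.card_pos
      omega
    obtain ⟨-, hyy, four⟩ := r.hyp.four_cosets hm.inv hK.inv hMK h4 hfix hx hxM
    set y := φ x with hy
    have hyK : y ∈ K := hK.inv x hx
    have hxy : Commute x y := by
      refine br_eq_one.1 (r.fpf hm.inv hm.comm (hX x hx y (hKX hyK)) (r.hyp.fixed_of_sq ?_))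
      have e1 : φ (br x y) = (br x y)⁻¹ := by
        rw [map_br, ← hy, ← mul_inv_cancel_left (x * y) (φ y), ← br_swap]
        have hmc : ∀ k ∈ K, Commute k ((x * y)⁻¹ * φ y) := fun k hk => hcent k hk _ hyy
        calc br y (x * y * ((x * y)⁻¹ * φ y))
            = y * (x * y) * (((x * y)⁻¹ * φ y) * y⁻¹) * ((x * y)⁻¹ * φ y)⁻¹ * (x * y)⁻¹ := by
              simp only [br]; group
          _ = y * (x * y) * y⁻¹ * (x * y)⁻¹ := by
              rw [← (hmc _ (inv_mem hyK)).eq, mul_assoc (y * (x * y)) (y⁻¹ * _), mul_inv_cancel_right]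
          _ = br y x := by simp only [br]; group
      rw [e1, map_inv, e1, inv_inv]
    have hKc : ∀ a ∈ K, ∀ b ∈ K, a * b = b * a := by
      have hgen : K ≤ closure ((M : Set P) ∪ {x, y}) := by
        intro u hu
        have hM' : ∀ m ∈ M, m ∈ closure ((M : Set P) ∪ {x, y}) := fun m hm' => subset_closure (Or.inl hm')
        have hx' : x ∈ closure ((M : Set P) ∪ {x, y}) := subset_closure (Or.inr (Or.inl rfl))
        have hy' : y ∈ closure ((M : Set P) ∪ {x, y}) := subset_closure (Or.inr (Or.inr rfl))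
        obtain ⟨a, ha, e | e | e | e⟩ := four u hu <;> rw [e]
        · exact hM' a ha
        · exact mul_mem hx' (hM' a ha)
        · exact mul_mem hy' (hM' a ha)
        · exact mul_mem (mul_mem hx' hy') (hM' a ha)
      have hc := comm_closure (S := (M : Set P) ∪ {x, y}) (by
        rintro a (ha | rfl | rfl) b (hb | rfl | rfl)
        exacts [hm.comm a ha b hb, (hcent _ hx a ha).symm, (hcent _ hyK a ha).symm,
          hcent _ hx b hb, rfl, hxy.eq, hcent _ hyK b hb, hxy.eq.symm, rfl])
      exact fun a ha b hb => hc a (hgen ha) b (hgen hb)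
    have := hm.max K hK hKX hKc hMK
    rw [this] at h4
    have : 0 < Nat.card M := Nat.card_pos
    omega
  obtain ⟨i, hi⟩ := exists_two_pow r.hyp.two hMK
  by_cases hi0 : i = 0
  · exact Or.inl (eq_of_le_of_card_ge hMK (by rw [hi, hi0]; simp)).symm
  have hi1 : i ≠ 1 := fun e => r.hyp.no_step hm.inv hK.inv hMK (by rw [hi, e, pow_one]) hfix
  have hi2 : i ≠ 2 := fun e => hfour (by rw [hi, e]; norm_num)
  rcases hm.eq_vz_or_root r with hMV | hroot
  · right
    refine ⟨hMV, ?_⟩
    have hcM : Nat.card M = 4 := hMV ▸ r.card_vz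
    have hle := r.hyp.card_le_of_sq hMK hsq
    rw [hcM] at hi hle
    have hi4 : i ≤ 4 := by
      by_contra hi4
      have := Nat.mul_le_mul_right 4 (Nat.pow_le_pow_right (show 0 < 2 by norm_num) (show 5 ≤ i by omega))
      rw [← hi] at this
      norm_num at this
      omega
    have hi3 : i ≠ 3 := by
      intro e
      obtain ⟨k, hk⟩ := r.three
      haveI : Fact (Nat.Prime 3) := ⟨Nat.prime_three⟩
      haveI := Fintype.ofFinite P
      let σ : Equiv.Perm {x : P // x ∈ K ∧ x ∉ M} :=
        Equiv.subtypeEquiv φ.toEquiv fun x => by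
          show x ∈ K ∧ x ∉ M ↔ φ x ∈ K ∧ φ x ∉ M
          rw [hK.mem_iff, hm.inv.mem_iff]
      have hσ : σ ^ 3 ^ k = 1 := by
        have key : ∀ (j : ℕ) (x : {x : P // x ∈ K ∧ x ∉ M}), (((σ ^ j) x).1) = (φ ^ j) x.1 := fun j => by
          induction j with
          | zero => intro x; rfl
          | succ j ih =>
            intro x
            rw [pow_succ', pow_succ', Equiv.Perm.mul_apply, MulAut.mul_apply, ← ih]
            rfl
        exact Equiv.ext fun x => Subtype.ext (by rw [key, hk]; rfl)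
      have hcard : Fintype.card {x : P // x ∈ K ∧ x ∉ M} = 28 := by
        have hKc : Nat.card K = 32 := by rw [hi, e]; norm_num
        rw [Fintype.card_subtype, show (Finset.univ.filter fun x : P => x ∈ K ∧ x ∉ M) =
          (Finset.univ.filter fun x : P => x ∈ K) \ (Finset.univ.filter fun x : P => x ∈ M) by
            ext; simp, Finset.card_sdiff_of_subset (by intro; simp; exact fun h => hMK h),
          ← Fintype.card_subtype, ← Fintype.card_subtype]
        rw [Nat.card_eq_fintype_card] at hKc hcM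
        simp only [hKc, hcM]
      obtain ⟨x, hx⟩ := Equiv.Perm.exists_fixed_point_of_prime (p := 3) (n := k) (σ := σ)
        (by rw [hcard]; decide) hσ
      refine x.2.2 (hfix x.1 x.2.1 ?_)
      rw [show φ x.1 = x.1 from congrArg Subtype.val hx, inv_mul_cancel]
      exact one_mem _
    rw [hi, show i = 4 by omega]
    norm_num
  · exfalso
    -- squares in the squares of `M`
    let L : Subgroup P :=
      { carrier := {k | k ∈ K ∧ ∃ q ∈ M, k ^ 2 = q ^ 2}
        one_mem' := ⟨one_mem _, 1, one_mem _, rfl⟩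
        mul_mem' := by
          rintro a b ⟨ha, q, hq, haq⟩ ⟨hb, q', hq', hbq⟩
          have hbr : br b a ∈ vz P := by
            have hbm := hX b hb a (hKX ha)
            refine r.invol_mem hm.inv hm.comm hbm ?_
            have e1 : b * br b a * b⁻¹ = br b a := by
              rw [hcent b hb _ hbm, mul_inv_cancel_right]
            calc br b a ^ 2 = b * br b a * b⁻¹ * br b a := by rw [e1, pow_two]
              _ = b ^ 2 * a * (b ^ 2)⁻¹ * a⁻¹ := by simp only [br, pow_two]; group
              _ = 1 := by rw [← hcent a ha _ (hsq b hb), mul_inv_cancel_right, mul_inv_cancel]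
          obtain ⟨s, hs, hs2⟩ := hroot _ hbr
          refine ⟨mul_mem ha hb, s * (q * q'), mul_mem hs (mul_mem hq hq'), ?_⟩
          rw [Commute.mul_pow (hm.comm s hs _ (mul_mem hq hq')), Commute.mul_pow (hm.comm q hq q' hq'),
            hs2, ← haq, ← hbq]
          calc (a * b) ^ 2 = a * br b a * a * b * b := by rw [pow_two, br]; group
            _ = br b a * a * a * b * b := by rw [hcent a ha _ (hX b hb a (hKX ha))]
            _ = _ := by simp only [pow_two, mul_assoc]
        inv_mem' := by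
          rintro a ⟨ha, q, hq, haq⟩
          exact ⟨inv_mem ha, q⁻¹, inv_mem hq, by rw [inv_pow, inv_pow, haq]⟩ }
    have hL : Inv φ L := by
      refine ⟨⟨?_⟩, ?_⟩
      · rintro a ⟨ha, q, hq, haq⟩ g
        exact ⟨hK.nrm.conj_mem a ha g, g * q * g⁻¹, hm.inv.nrm.conj_mem q hq g, by
          rw [conj_pow, conj_pow, haq]⟩
      · rintro a ⟨ha, q, hq, haq⟩
        exact ⟨hK.inv a ha, φ q, hm.inv.inv q hq, by rw [← map_pow, ← map_pow, haq]⟩
    have hML : M ≤ L := fun m hm' => ⟨hMK hm', m, hm', rfl⟩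
    have hLM : L = M := by
      by_contra hne
      haveI := hL.nrm
      obtain ⟨k, ⟨hkK, q, hq, hkq⟩, hkM, hkc⟩ := exists_central r.hyp.two M L (lt_of_le_of_ne hML (Ne.symm hne))
      exact hkM (hm.mem_of_sq r (hcent k hkK) hkc hq hkq)
    haveI : IsMulCommutative M := ⟨⟨fun a b => Subtype.ext (hm.comm a a.2 b b.2)⟩⟩
    set π := (powMonoidHom 2 : M →* M) with hπ
    let f : K →* M ⧸ π.range :=
      { toFun := fun k => QuotientGroup.mk' π.range ⟨(k : P) ^ 2, hsq k k.2⟩
        map_one' := by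
          rw [show (⟨((1 : K) : P) ^ 2, _⟩ : M) = 1 from Subtype.ext (one_pow 2), map_one]
        map_mul' := fun a b => by
          rw [← map_mul]
          refine (QuotientGroup.eq).2 ?_
          have hbm := hX b b.2 a (hKX a.2)
          have hbr : (br (b : P) a) ^ 2 = 1 := by
            have e1 : (b : P) * br (b : P) a * (b : P)⁻¹ = br (b : P) a := by
              rw [hcent b b.2 _ hbm, mul_inv_cancel_right]
            calc br (b : P) a ^ 2 = (b : P) * br (b : P) a * (b : P)⁻¹ * br (b : P) a := by rw [e1, pow_two]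
              _ = (b : P) ^ 2 * a * ((b : P) ^ 2)⁻¹ * (a : P)⁻¹ := by simp only [br, pow_two]; group
              _ = 1 := by rw [← hcent a a.2 _ (hsq b b.2), mul_inv_cancel_right, mul_inv_cancel]
          obtain ⟨s, hs, hs2⟩ := hroot _ (r.invol_mem hm.inv hm.comm hbm hbr)
          refine ⟨⟨s, hs⟩⁻¹, ?_⟩
          apply Subtype.ext
          rw [powMonoidHom_apply]
          have hab : ((a : P) * b) ^ 2 = br (b : P) a * ((a : P) ^ 2 * (b : P) ^ 2) := by
            calc ((a : P) * b) ^ 2 = a * br (b : P) a * a * b * b := by rw [pow_two, br]; group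
              _ = br (b : P) a * a * a * b * b := by rw [hcent a a.2 _ hbm]
              _ = _ := by simp only [pow_two, mul_assoc]
          simp only [Subgroup.coe_mul, Subgroup.coe_inv, SubmonoidClass.coe_pow, inv_pow, hs2, hab]
          have hxm : Commute (br (b : P) a) ((a : P) ^ 2 * (b : P) ^ 2) :=
            hm.comm _ hbm _ (mul_mem (hsq a a.2) (hsq b b.2))
          rw [mul_inv_rev (br (b : P) a), mul_assoc,
            (hxm.inv_left).eq, inv_mul_cancel_left] }
    have hker : f.ker ≤ M.subgroupOf K := fun k hk => by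
      rw [MonoidHom.mem_ker] at hk
      obtain ⟨q, hq⟩ := (QuotientGroup.eq_one_iff _).1 hk
      rw [mem_subgroupOf, ← hLM]
      exact ⟨k.2, q, q.2, by simpa [hπ] using (congrArg Subtype.val hq).symm⟩
    have hidx : π.range.index = 4 := by
      have h1 := π.ker.card_mul_index
      have h2 := π.range.card_mul_index
      rw [Subgroup.index_ker] at h1
      have h3 : Nat.card π.ker = 4 := by
        rw [← r.card_vz]
        exact Nat.card_congr ⟨fun e => ⟨e.1.1, r.invol_mem hm.inv hm.comm e.1.2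
            (by simpa [hπ] using congrArg Subtype.val (MonoidHom.mem_ker.1 e.2))⟩,
          fun e => ⟨⟨e.1, hm.vz_le r e.2⟩, MonoidHom.mem_ker.2 (Subtype.ext e.2.2)⟩,
          fun e => rfl, fun e => rfl⟩
      have hpos : 0 < Nat.card π.range := Nat.card_pos
      rw [h3] at h1
      rw [mul_comm 4] at h1
      exact Nat.eq_of_mul_eq_mul_left hpos (h2.trans h1.symm)
    have hle : Nat.card K ≤ Nat.card M * 4 := by
      rw [← f.ker.card_mul_index, Subgroup.index_ker, ← hidx, index_eq_card]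
      refine Nat.mul_le_mul ?_ (card_le_card_group _)
      exact (card_le_of_le hker).trans (Nat.card_congr (subgroupOfEquivOfLe hMK).toEquiv).le
    have h8 := Nat.mul_le_mul_right (Nat.card M)
      (Nat.pow_le_pow_right (show 0 < 2 by norm_num) (show 3 ≤ i by omega))
    rw [← hi] at h8
    have : 0 < Nat.card M := Nat.card_pos
    norm_num at h8
    omega

end MaxAb

end CfsgLib.NormalRankTwo
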