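import Cfsg.Agent.NormalRankTwo.Tools

/-!
The case in which every invariant abelian subgroup of the moved subgroup is central in it.
-/

set_option autoImplicit false
set_option linter.unusedSectionVars false
set_option linter.style.haveILetI false

namespace CfsgLib.NormalRankTwo

open Subgroup
open scoped commutatorElement

variable {P : Type*} [Group P] [Finite P] {φ : MulAut P}

/-- The centre of the moved subgroup. -/
def zc (φ : MulAut P) : Subgroup P := moved φ ⊓ centralizer (moved φ : Set P)

theorem zc_inv (φ : MulAut P) : Inv φ (zc φ) := (moved_inv φ).inf (moved_inv φ).centralizer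

theorem zc_le (φ : MulAut P) : zc φ ≤ moved φ := inf_le_left

theorem zc_comm {z x : P} (hz : z ∈ zc φ) (hx : x ∈ moved φ) : Commute z x :=
  (mem_centralizer_iff.1 hz.2 x hx).symm

theorem comm_closure {S : Set P} (h : ∀ a ∈ S, ∀ b ∈ S, a * b = b * a) :
    ∀ a ∈ closure S, ∀ b ∈ closure S, a * b = b * a := by
  have h1 : closure S ≤ centralizer S := (closure_le _).2 fun a ha =>
    mem_centralizer_iff.2 fun b hb => h b hb a ha
  have h2 : closure S ≤ centralizer (closure S : Set P) := (closure_le _).2 fun a ha =>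
    mem_centralizer_iff.2 fun b hb => (mem_centralizer_iff.1 (h1 hb) a ha).symm
  exact fun a ha b hb => (mem_centralizer_iff.1 (h2 ha) b hb).symm

/-- Every invariant abelian subgroup of the moved subgroup is central in it. -/
structure Central (φ : MulAut P) : Prop where
  hyp : Hyp φ
  max : ∀ N : Subgroup P, Inv φ N → N ≤ moved φ → (∀ a ∈ N, ∀ b ∈ N, a * b = b * a) → N ≤ zc φ

namespace Central

variable (c : Central φ)
include c

theorem commutator_le : ⁅moved φ, moved φ⁆ ≤ zc φ := by
  have hX := moved_inv φ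
  have hZ := zc_inv φ
  haveI := hX.nrm
  haveI := hZ.nrm
  have hC : Inv φ ⁅moved φ, moved φ⁆ := hX.commutator hX
  haveI := hC.nrm
  have hCX : ⁅moved φ, moved φ⁆ ≤ moved φ := Subgroup.commutator_le_left _ _
  set W := ⁅moved φ, moved φ⁆ ⊓ centModIn (moved φ) (zc φ) with hW
  have hkey : ∀ x ∈ centModIn (moved φ) (zc φ), x ∈ moved φ →
      ⁅moved φ, moved φ⁆ ≤ centralizer {x} := by
    intro x hx hxX
    refine Subgroup.commutator_le.2 fun a ha b hb => mem_centralizer_singleton_iff.2 ?_
    have ea : x * a * x⁻¹ = br x a * a := by rw [br]; group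
    have eb : x * b * x⁻¹ = br x b * b := by rw [br]; group
    have za := hx a ha
    have zb := hx b hb
    have c1 : Commute (br x a) b := zc_comm za hb
    have c2 : Commute (br x b) a := zc_comm zb ha
    have c3 : Commute (br x a) a := zc_comm za ha
    have c4 : Commute (br x b) b := zc_comm zb hb
    have c5 : Commute (br x a) (br x b) := zc_comm za zb.1
    have h1 : x * ⁅a, b⁆ * x⁻¹ = ⁅a, b⁆ := by
      rw [commutatorElement_def, show x * (a * b * a⁻¹ * b⁻¹) * x⁻¹ =
        (x * a * x⁻¹) * (x * b * x⁻¹) * (x * a * x⁻¹)⁻¹ * (x * b * x⁻¹)⁻¹ by group, ea, eb]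
      have m1 : Commute (br x a) (br x b * b) := c5.mul_right c1
      have m2 : Commute (br x b) (a * b * a⁻¹) := (c2.mul_right c4).mul_right c2.inv_right
      calc br x a * a * (br x b * b) * (br x a * a)⁻¹ * (br x b * b)⁻¹
          = br x a * (a * (br x b * b) * a⁻¹) * (br x a)⁻¹ * (br x b * b)⁻¹ := by group
        _ = br x a * (br x b * (a * b * a⁻¹)) * (br x a)⁻¹ * (br x b * b)⁻¹ := by
            rw [← mul_assoc a, ← c2.eq]; simp only [mul_assoc]
        _ = br x b * (a * b * a⁻¹) * (br x b * b)⁻¹ := by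
            have m3 : Commute (br x a) (br x b * (a * b * a⁻¹)) :=
              c5.mul_right ((c3.mul_right c1).mul_right c3.inv_right)
            rw [m3.eq, mul_inv_cancel_right]
        _ = br x b * (a * b * a⁻¹ * b⁻¹) * (br x b)⁻¹ := by group
        _ = _ := by
            rw [(m2.mul_right c4.inv_right).eq, mul_inv_cancel_right]
    rw [mul_inv_eq_iff_eq_mul] at h1
    exact h1.symm
  have hWi : Inv φ W := hC.inf (hX.centModIn hZ)
  have hWc : ∀ a ∈ W, ∀ b ∈ W, a * b = b * a := fun a ha b hb =>
    (mem_centralizer_singleton_iff.1 (hkey a ha.2 (hCX ha.1) hb.1)).symm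
  have hWZ : W ≤ zc φ := c.max W hWi (inf_le_left.trans hCX) hWc
  by_contra hle
  obtain ⟨x, hxC, hxN, hx⟩ := exists_central c.hyp.two (⁅moved φ, moved φ⁆ ⊓ zc φ) ⁅moved φ, moved φ⁆
    (lt_of_le_of_ne inf_le_left fun e => hle (e ▸ inf_le_right))
  exact hxN ⟨hxC, hWZ ⟨hxC, fun g _ => (hx g).2⟩⟩

theorem br_mem {x y : P} (hx : x ∈ moved φ) (hy : y ∈ moved φ) : br x y ∈ zc φ :=
  c.commutator_le (commutator_mem_commutator hx hy)

theorem br_pow {x y : P} (hx : x ∈ moved φ) (hy : y ∈ moved φ) (k : ℕ) :
    br (x ^ k) y = br x y ^ k := by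
  induction k with
  | zero => rw [pow_zero, pow_zero, br_one_left]
  | succ k ih =>
    rw [pow_succ, br_mul_left (zc_comm (c.br_mem hx hy) (pow_mem hx k)).symm, ih, pow_succ']

theorem br_pow_right {x y : P} (hx : x ∈ moved φ) (hy : y ∈ moved φ) (k : ℕ) :
    br x (y ^ k) = br x y ^ k := by
  rw [br_swap (y ^ k) x, c.br_pow hy hx, br_swap x y, inv_pow, inv_inv]

theorem sq_mem {x : P} (hx : x ∈ moved φ) : x ^ 2 ∈ zc φ := by
  classical
  have hZ := zc_inv φ
  haveI := hZ.nrm
  have hex : ∃ k, ∀ y ∈ moved φ, y ^ 2 ^ k ∈ zc φ := by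
    obtain ⟨k, hk⟩ := c.hyp.two.exists_card_eq
    exact ⟨k, fun y _ => by rw [← hk, pow_card_eq_one']; exact one_mem _⟩
  have hle : Nat.find hex ≤ 1 := by
    by_contra h2
    obtain ⟨j, hj⟩ : ∃ j, Nat.find hex = j + 2 := ⟨Nat.find hex - 2, by omega⟩
    have hk := Nat.find_spec hex
    rw [hj] at hk
    set S : Set P := (zc φ : Set P) ∪ {y | ∃ w ∈ moved φ, w ^ 2 ^ (j + 1) = y} with hS
    have hSX : ∀ a ∈ S, a ∈ moved φ := by
      rintro a (ha | ⟨w, hw, rfl⟩)
      · exact zc_le φ ha
      · exact pow_mem hw _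
    have hY : Inv φ (closure S) := by
      refine ⟨⟨fun a ha g => ?_⟩, ?_⟩
      · induction ha using closure_induction with
        | mem a ha =>
          rcases ha with ha | ⟨w, hw, rfl⟩
          · exact subset_closure (Or.inl (hZ.nrm.conj_mem a ha g))
          · exact subset_closure (Or.inr ⟨g * w * g⁻¹, (moved_inv φ).nrm.conj_mem w hw g, conj_pow⟩)
        | one => simp
        | mul a b _ _ ha hb => rw [← conj_mul]; exact mul_mem ha hb
        | inv a _ ha => rw [← conj_inv]; exact inv_mem ha
      · intro a ha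
        induction ha using closure_induction with
        | mem a ha =>
          rcases ha with ha | ⟨w, hw, rfl⟩
          · exact subset_closure (Or.inl (hZ.inv a ha))
          · exact subset_closure (Or.inr ⟨φ w, (moved_inv φ).inv w hw, (map_pow φ w _).symm⟩)
        | one => rw [map_one]; exact one_mem _
        | mul a b _ _ ha hb => rw [map_mul]; exact mul_mem ha hb
        | inv a _ ha => rw [map_inv]; exact inv_mem ha
    have hcomm : ∀ a ∈ closure S, ∀ b ∈ closure S, a * b = b * a := comm_closure (by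
      rintro a ha b hb
      rcases ha with ha | ⟨v, hv, rfl⟩
      · exact zc_comm ha (hSX b hb)
      rcases hb with hb | ⟨w, hw, rfl⟩
      · exact (zc_comm hb (pow_mem hv _)).symm
      refine br_eq_one.1 ?_
      rw [c.br_pow hv (pow_mem hw _), c.br_pow_right hv hw, ← pow_mul, ← pow_add,
        show j + 1 + (j + 1) = j + 2 + j by omega, pow_add, pow_mul, ← c.br_pow hv hw,
        br_eq_one.2 (zc_comm (hk v hv) hw).eq, one_pow])
    exact Nat.find_min hex (show j + 1 < Nat.find hex by omega) fun y hy =>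
      c.max _ hY ((closure_le _).2 hSX) hcomm (subset_closure (Or.inr ⟨y, hy, rfl⟩))
  have hk := Nat.find_spec hex x hx
  rcases Nat.le_one_iff_eq_zero_or_eq_one.1 hle with e | e
  · rw [e] at hk
    exact pow_mem (by simpa using hk) 2
  · rw [e] at hk
    simpa using hk

theorem br_sq {x y : P} (hx : x ∈ moved φ) (hy : y ∈ moved φ) : br x y ^ 2 = 1 := by
  rw [← c.br_pow hx hy]; exact br_eq_one.2 (zc_comm (c.sq_mem hx) hy).eq

theorem mul_sq {x y : P} (hx : x ∈ moved φ) (hy : y ∈ moved φ) :
    (x * y) ^ 2 = br y x * (x ^ 2 * y ^ 2) := by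
  have hc : Commute (br y x) x := zc_comm (c.br_mem hy hx) hx
  calc (x * y) ^ 2 = x * (br y x) * x * y * y := by rw [pow_two, br]; group
    _ = br y x * x * x * y * y := by rw [hc.eq]
    _ = _ := by simp only [pow_two, mul_assoc]

end Central

end CfsgLib.NormalRankTwo
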