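import Cfsg.Agent.NormalRankTwo.Block
import Cfsg.Agent.ScnThree.Act

/-!
A self-centralizing invariant abelian subgroup has exponent at most four in the rotated case.
-/

set_option autoImplicit false
set_option linter.unusedSectionVars false
set_option linter.style.haveILetI false

namespace CfsgLib.NormalRankTwo

open Subgroup
open CfsgLib.ScnThree (Expo D D_coe conj_eq D_comp D_eq_one_iff D_mem)
open scoped IsMulCommutative

variable {P : Type*} [Group P] [Finite P] {φ : MulAut P} {M : Subgroup P}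
  [M.Normal] [IsMulCommutative M]

theorem nine {A : Type*} [CommGroup A] (a b c a' b' c' a'' b'' c'' : A) :
    a * b * c * (a' * b' * c') * (a'' * b'' * c'') =
      a * a' * a'' * (b * b' * b'') * (c * c' * c'') := by
  simp only [mul_comm, mul_left_comm, mul_assoc]

namespace Rotated

variable (r : Rotated φ) (hM : Inv φ M)
include r hM

theorem commM : ∀ a ∈ M, ∀ b ∈ M, a * b = b * a := fun a ha b hb =>
  congrArg Subtype.val (mul_comm (⟨a, ha⟩ : M) ⟨b, hb⟩)

theorem D_phi (x : P) (p : M) : D (φ x) p = r.tau hM (D x (r.tau hM (r.tau hM p))) := by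
  apply Subtype.ext
  rw [r.tau_coe, D_coe, D_coe, r.tau_coe, r.tau_coe]
  simp only [map_mul, map_inv, r.cube hM (r.commM hM) p.2]

set_option maxHeartbeats 1600000 in
/-- The averaging relation. -/
theorem T_mem (N : Subgroup M) (hτ : ∀ q ∈ N, r.tau hM q ∈ N)
    (hDD : ∀ x ∈ moved φ, ∀ y ∈ moved φ, ∀ p : M, D x (D y p) ∈ N) {x : P} (hx : x ∈ moved φ) (p : M) :
    D x p * r.tau hM (D x (r.tau hM (r.tau hM p))) *
      r.tau hM (r.tau hM (D x (r.tau hM p))) ∈ N := by
  set τ := r.tau hM with hτd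
  have hc : ∀ q, τ (τ (τ q)) = q := (r.rot3 hM).cube
  let T : P → M → M := fun y q => D y q * τ (D y (τ (τ q))) * τ (τ (D y (τ q)))
  let f : ↥(moved φ) →* (M → M ⧸ N) :=
    { toFun := fun y q => QuotientGroup.mk' N (T y q)
      map_one' := funext fun q => by
        have h1 : ∀ s : M, D (1 : P) s = 1 := fun s => D_mem M.one_mem s
        simp [T, h1]
      map_mul' := fun y z => funext fun q => by
        show QuotientGroup.mk' N (T ((y : P) * z) q) =
          QuotientGroup.mk' N (T y q) * QuotientGroup.mk' N (T z q)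
        rw [← map_mul]
        refine (QuotientGroup.eq).2 ?_
        have hrw : T ((y : P) * z) q = (T y q * T z q) *
            (D (y : P) (D (z : P) q) * τ (D (y : P) (D (z : P) (τ (τ q)))) *
              τ (τ (D (y : P) (D (z : P) (τ q))))) := by
          simp only [T, D_comp, map_mul]
          exact nine _ _ _ _ _ _ _ _ _
        rw [hrw, mul_inv_rev, mul_assoc, inv_mul_cancel, mul_one]
        exact N.inv_mem (N.mul_mem (N.mul_mem (hDD _ y.2 _ z.2 _) (hτ _ (hDD _ y.2 _ z.2 _)))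
          (hτ _ (hτ _ (hDD _ y.2 _ z.2 _)))) }
  have hinv : ∀ y : moved φ, f ⟨φ y, (moved_inv φ).inv y y.2⟩ = f y := fun y => funext fun q => by
    show QuotientGroup.mk' N (T (φ y) q) = QuotientGroup.mk' N (T y q)
    refine congrArg _ ?_
    simp only [T, r.D_phi hM, ← hτd, hc]
    simp only [mul_comm, mul_left_comm]
  exact (QuotientGroup.eq_one_iff _).1 (congrFun (r.hyp.hom_const f hinv ⟨x, hx⟩) p)

/-- For `x ^ 2 ∈ M` and exponent at least eight the commutator map has image of exponent two. -/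
theorem image_om {n : ℕ} (hn : Expo M n) (h2 : 2 ≤ n) {x : P} (hxX : x ∈ moved φ) (hx : x ^ 2 ∈ M)
    (p : M) : D x p ^ 2 = 1 := by
  have R3 := r.rot3 hM
  set τ := r.tau hM
  have hsq : ∀ (y : P) (p : M), ∃ q : M, q ^ 2 = D y p := by
    intro y p
    refine R3.mem_sq hn _ ?_
    rw [← map_pow]
    refine D_eq_one_iff.2 (mem_center_iff.1 (r.invol_mem hM (r.commM hM) (p ^ 2 ^ n).2 ?_).1 y)
    rw [← Subgroup.coe_pow, ← pow_mul, ← pow_succ, hn.1 p, Subgroup.coe_one]
  have hfour : ∀ (y z : P) (p : M), D y (D z p) ∈ (powMonoidHom 4 : M →* M).range := by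
    intro y z p
    obtain ⟨q, hq⟩ := hsq z p
    obtain ⟨s, hs⟩ := hsq y q
    refine ⟨s, ?_⟩
    rw [← hq, map_pow, ← hs, powMonoidHom_apply, ← pow_mul]
  have hτ4 : ∀ q ∈ (powMonoidHom 4 : M →* M).range, τ q ∈ (powMonoidHom 4 : M →* M).range := by
    rintro _ ⟨q, rfl⟩
    exact ⟨τ q, (map_pow τ q 4).symm⟩
  have hDD : ∀ p : M, D x (D x p) * D x p ^ 2 = 1 := fun p => by
    have h1 := D_comp x x p
    rw [← pow_two x, D_mem hx p, ← pow_two] at h1
    rw [mul_comm]; exact h1.symm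
  have h4 := R3.image_fourth hn h2 (D x) (hsq x) hDD fun p => by
    obtain ⟨q, hq⟩ := r.T_mem hM _ hτ4 (fun y _ z _ p => hfour y z p) hxX p
    exact ⟨q, hq⟩
  have hj : ∀ j, 2 ≤ j → j ≤ n → ∀ p, ∃ q : M, q ^ 2 ^ j = D x p := by
    intro j hj2
    induction j, hj2 using Nat.le_induction with
    | base => exact fun _ => h4
    | succ j hj2 ih =>
      intro hjn p
      obtain ⟨s, hs⟩ := ih (by omega) p
      obtain ⟨t, ht⟩ := ih (by omega) s
      have e := hDD p
      rw [← hs, map_pow, ← ht, ← pow_mul, ← pow_mul, ← pow_add, ← pow_succ] at e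
      obtain ⟨k, rfl⟩ := Nat.exists_eq_add_of_le hjn
      have e2 := congrArg (· ^ 2 ^ k) e
      simp only [mul_pow, ← pow_mul, one_pow, ← pow_add] at e2
      obtain ⟨i, hi⟩ := Nat.exists_eq_add_of_le (show j + 1 + k + 1 ≤ j + j + k by omega)
      rw [hi, pow_add 2 (j + 1 + k + 1) i, pow_mul, hn.1 t, one_pow, one_mul] at e2
      obtain ⟨q, hq⟩ := R3.mem_sq hn s e2
      exact ⟨q, by rw [pow_succ', pow_mul, hq, hs]⟩
  obtain ⟨q, hq⟩ := hj n h2 le_rfl p
  rw [← hq, ← pow_mul, ← pow_succ]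
  exact hn.1 q

theorem exponent_le_four {n : ℕ} (hn : Expo M n) (hV : vz P ≤ M) (hMX : M < moved φ)
    (hC : ∀ x ∈ moved φ, (∀ m ∈ M, x * m = m * x) → x ∈ M) : n ≤ 1 := by
  by_contra hn1
  have h2 : 2 ≤ n := by omega
  have R3 := r.rot3 hM
  set τ := r.tau hM with hτ
  haveI := (moved_inv φ).nrm
  obtain ⟨x, hxX, hxM, hx2, hxZ⟩ := exists_central_sq r.hyp.two M (moved φ) hMX
  have hfX : φ x ∈ moved φ := (moved_inv φ).inv x hxX
  have hx' : (φ x) ^ 2 ∈ M := by rw [← map_pow]; exact hM.inv _ hx2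
  have hkill : ∀ y : P, y ∈ moved φ → y ^ 2 ∈ M → ∀ d : M, d ^ 2 ^ n = 1 → D y d = 1 :=
    fun y hyX hy d hd => by
    obtain ⟨q, rfl⟩ := R3.mem_sq hn d hd
    rw [map_pow, r.image_om hM hn h2 hyX hy]
  have hd4 : ∀ d : M, d ^ 4 = 1 → d ^ 2 ^ n = 1 := fun d hd => by
    obtain ⟨k, rfl⟩ := Nat.exists_eq_add_of_le h2
    rw [pow_add, pow_mul, show (2 : ℕ) ^ 2 = 4 from rfl, hd, one_pow]
  set c : M := ⟨x ^ 2, hx2⟩ with hc
  set d : M := ⟨br x (φ x), hxZ (φ x)⟩ with hd
  have e1 : D x (τ c) = d * D (φ x) d * d := by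
    apply Subtype.ext
    rw [Subgroup.coe_mul, Subgroup.coe_mul, D_coe, D_coe, hτ, r.tau_coe]
    show x * φ (x ^ 2) * x⁻¹ * (φ (x ^ 2))⁻¹ = _
    rw [map_pow]
    simp only [hd, pow_two, br]
    group
  have e2 : D (φ x) c = d⁻¹ * D x d⁻¹ * d⁻¹ := by
    apply Subtype.ext
    rw [Subgroup.coe_mul, Subgroup.coe_mul, D_coe, D_coe, Subgroup.coe_inv]
    simp only [hc, hd, pow_two, br]
    group
  have hd4' : d ^ 4 = 1 := by
    have h1 := r.image_om hM hn h2 hxX hx2 (τ c)
    rw [e1, show d * D (φ x) d * d = D (φ x) d * d ^ 2 by rw [pow_two, mul_comm d, mul_assoc],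
      mul_pow, r.image_om hM hn h2 hfX hx', one_mul, ← pow_mul] at h1
    exact h1
  rw [hkill _ hfX hx' d (hd4 d hd4'), mul_one, ← pow_two] at e1
  rw [hkill _ hxX hx2 d⁻¹ (by rw [inv_pow, hd4 d hd4', inv_one]), mul_one, ← pow_two, inv_pow] at e2
  have hDc : D x c = 1 := D_eq_one_iff.2 (Commute.pow_right (Commute.refl x) 2)
  have e3 : D x (τ (τ c)) = (d ^ 2)⁻¹ := by
    rw [R3.tt, map_inv, map_mul, hDc, one_mul, e1]
  rw [r.D_phi hM, ← hτ, e3] at e2
  have hfix : d ^ 2 = 1 := by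
    refine R3.fixed _ ?_
    rw [map_inv, inv_inj] at e2
    exact e2
  rw [hfix] at e1
  obtain ⟨q, hq⟩ : ∃ q : M, q ^ 2 = c := by
    refine R3.mem_sq hn c (by_contra fun hc1 => hxM (hC x hxX fun m hm => ?_))
    have htop := R3.gen hn c hc1 (D x).ker hDc e1
    exact D_eq_one_iff.1 (MonoidHom.mem_ker.1 (htop ▸ mem_top (⟨m, hm⟩ : M)))
  obtain ⟨s, hs⟩ := R3.exists_root_top hn (D x q) (r.image_om hM hn h2 hxX hx2 q)
  obtain ⟨k, hk⟩ := Nat.exists_eq_add_of_le h2
  set t := s ^ 2 ^ (k + 1) with ht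
  have ht2 : t ^ 2 = D x q := by
    rw [← hs, ht, ← pow_mul, ← pow_succ, hk, show 2 + k = k + 1 + 1 by omega]
  have htD : D x t = 1 := by
    rw [ht, map_pow, pow_succ', pow_mul, r.image_om hM hn h2 hxX hx2, one_pow]
  set p : M := q⁻¹ * t with hp
  have hp1 : D x p * p * c * p = 1 := by
    have : D x p * p * c * p = D x p * (p ^ 2 * c) := by
      rw [pow_two]; simp only [mul_assoc, mul_comm c p]
    rw [this, hp, map_mul, map_inv, htD, mul_one, mul_pow, inv_pow, hq, ht2, mul_comm c⁻¹,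
      inv_mul_cancel_right, inv_mul_cancel]
  set v := x * (p : P) with hv
  have hvX' : v ∈ moved φ := mul_mem hxX (hMX.le p.2)
  have hv2 : v ^ 2 = 1 := by
    have : v ^ 2 = ((D x p * p * c * p : M) : P) := by
      rw [Subgroup.coe_mul, Subgroup.coe_mul, ← conj_eq, hv, hc]
      simp only [pow_two]
      group
    rw [this, hp1, Subgroup.coe_one]
  have hvZ : ∀ g, br v g ∈ M := fun g => by
    have e : br (x * (p : P)) g = x * br (p : P) g * x⁻¹ * br x g := by simp only [br]; group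
    rw [hv, e]
    exact mul_mem (hM.nrm.conj_mem _ (br_mem_of_mem p.2 g) x) (hxZ g)
  have hDv : ∀ s : M, D v s = D x s := fun s => by
    rw [hv, D_comp (M := M), D_mem (M := M) p.2 s, map_one, mul_one, mul_one]
  have hvX : ∀ y, br v y ∈ vz P := fun y => by
    set e : M := ⟨br v y, hvZ y⟩ with he
    have h1 : D v e * e * e = 1 := by
      apply Subtype.ext
      rw [Subgroup.coe_mul, ← conj_eq, Subgroup.coe_one]
      show v * br v y * v⁻¹ * br v y = 1
      calc v * br v y * v⁻¹ * br v y = v ^ 2 * y * (v ^ 2)⁻¹ * y⁻¹ := by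
            simp only [br, pow_two]; group
        _ = 1 := by rw [hv2]; group
    rw [hDv, mul_assoc, ← pow_two] at h1
    have h4 : e ^ 4 = 1 := by
      have := congrArg (· ^ 2) h1
      simp only [mul_pow, one_pow, r.image_om hM hn h2 hxX hx2, one_mul, ← pow_mul] at this
      exact this
    rw [hkill _ hxX hx2 e (hd4 e h4), one_mul] at h1
    exact r.invol_mem hM (r.commM hM) e.2 (by simpa [he] using congrArg Subtype.val h1)
  have hvM := hV (r.hyp.mem_of_four vz_le_center (fun e he => he.2) r.card_vz hv2 hvX)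
  have h' := M.mul_mem hvM (M.inv_mem p.2)
  rw [hv, mul_inv_cancel_right] at h'
  exact hxM h'

end Rotated

end CfsgLib.NormalRankTwo
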