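import Cfsg.Agent.NormalRankTwo.Invols

/-!
The case in which the automorphism fixes all central involutions.
-/

set_option autoImplicit false
set_option linter.unusedSectionVars false
set_option linter.style.haveILetI false

namespace CfsgLib.NormalRankTwo

open Subgroup
open scoped commutatorElement

variable {P : Type*} [Group P] [Finite P] {φ : MulAut P}

/-- The moved subgroup is quaternion of order 8 with centre `{1, a}`. -/
structure Quat (φ : MulAut P) (a : P) : Prop where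
  card : Nat.card (moved φ) = 8
  zmem : ∀ z : P, z ∈ zc φ ↔ z = 1 ∨ z = a
  ne : a ≠ 1
  fix : φ a = a
  central : a ∈ center P
  sq : ∀ x ∈ moved φ, x ∉ zc φ → x ^ 2 = a

/-- The moved subgroup has elementary centre with elementary quotient of order 16. -/
structure Big (φ : MulAut P) : Prop where
  el : ∀ z ∈ zc φ, z ^ 2 = 1
  sq : ∀ x ∈ moved φ, x ^ 2 ∈ zc φ
  sixteen : Nat.card (moved φ) = 16 * Nat.card (zc φ)

/-- All central involutions are fixed. -/
structure FixedCentre (φ : MulAut P) : Prop where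
  hyp : Hyp φ
  fixZ : ∀ e ∈ center P, e ^ 2 = 1 → φ e = e

namespace FixedCentre

variable (c : FixedCentre φ)
include c

theorem fix_abelian {N : Subgroup P} (hN : Inv φ N) (hc : ∀ a ∈ N, ∀ b ∈ N, a * b = b * a) :
    ∀ n ∈ N, φ n = n := by
  refine c.hyp.fix_of_invol hN hc fun e he he2 => ?_
  by_cases he1 : e = 1
  · rw [he1, map_one]
  have hO := omega_inv hN hc
  haveI := hO.nrm
  have heO : e ∈ omega N hc := ⟨he, he2⟩
  obtain ⟨z, hz, hzc, hz2, hz1⟩ := exists_central_invol c.hyp.two (omega N hc)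
    fun hb => he1 (mem_bot.1 (hb ▸ heO))
  have hfz := c.fixZ z hzc hz2
  by_cases hze : z = e
  · exact hze ▸ hfz
  have four := fun y hy => four_mem (omega_small c.hyp hN hc) (fun _ h => h.2) hz heO hz1 he1 hze
    (y := y) hy
  rcases four _ (hO.inv e heO) with e' | e' | e' | e'
  · exact absurd (φ.map_eq_one_iff.1 e') he1
  · exact absurd (φ.injective (e'.trans hfz.symm)) (Ne.symm hze)
  · exact e'
  · refine c.hyp.fixed_of_sq ?_
    rw [e', map_mul, hfz, e', ← mul_assoc, ← pow_two, hz2, one_mul]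

theorem toCentral : Central φ where
  hyp := c.hyp
  max := fun _ hN hNX hc n hn => ⟨hNX hn, mem_centralizer_iff.2 fun _ hx =>
    (mem_centralizer_iff.1 (c.hyp.fixed_comm hN (c.fix_abelian hN hc) hx) n hn).symm⟩

theorem fix_zc : ∀ z ∈ zc φ, φ z = z :=
  c.fix_abelian (zc_inv φ) fun _ ha _ hb => (zc_comm ha hb.1).eq

theorem el : ∀ z ∈ zc φ, z ^ 2 = 1 := by
  have hc : ∀ a ∈ zc φ, ∀ b ∈ zc φ, a * b = b * a := fun _ ha _ hb => (zc_comm ha hb.1).eq
  intro z hz
  exact (c.hyp.fixed_mem (omega_inv (zc_inv φ) hc)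
    (Subgroup.commutator_le.2 fun x hx y hy =>
      ⟨c.toCentral.br_mem hx hy, by rw [commutatorElement_def]; exact c.toCentral.br_sq hx hy⟩)
    hz.1 (c.fix_zc z hz)).2

theorem card_zc_le : Nat.card (zc φ) ≤ 4 :=
  c.hyp.small _ (zc_inv φ).nrm ⟨⟨fun a b => Subtype.ext (zc_comm a.2 b.2.1).eq⟩⟩ c.el

theorem no_fixed {x : P} (hx : x ∈ moved φ) (h : x⁻¹ * φ x ∈ zc φ) : x ∈ zc φ :=
  c.hyp.mem_of_fixed_coset (zc_inv φ) (zc_le φ) c.toCentral.commutator_le hx h

theorem quat (h4 : Nat.card (moved φ) = 4 * Nat.card (zc φ)) : ∃ a, Quat φ a := by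
  have C := c.toCentral
  have hX := moved_inv φ
  have hZ := zc_inv φ
  haveI := hZ.nrm
  obtain ⟨x, hx, hxZ⟩ : ∃ x ∈ moved φ, x ∉ zc φ := by
    by_contra hno
    push Not at hno
    have := card_le_of_le (show moved φ ≤ zc φ from hno)
    have : 0 < Nat.card (zc φ) := Nat.card_pos
    omega
  obtain ⟨hy, hyy, four⟩ := c.hyp.four_cosets hZ hX.inv (zc_le φ) h4 (fun u hu => c.no_fixed hu) hx hxZ
  have hfy : φ x ∈ moved φ := hX.inv x hx
  set a := x ^ 2 with ha
  have haZ : a ∈ zc φ := C.sq_mem hx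
  have hy2 : (φ x) ^ 2 = a := by rw [← map_pow, c.fix_zc _ haZ]
  have hmulz : ∀ u ∈ moved φ, ∀ z ∈ zc φ, (u * z) ^ 2 = u ^ 2 := fun u hu z hz => by
    rw [Commute.mul_pow (zc_comm hz hu).symm, c.el z hz, mul_one]
  have hxy : (x * φ x) ^ 2 = a := by
    have h1 : (φ (φ x)) ^ 2 = a := by rw [← map_pow, hy2, c.fix_zc _ haZ]
    rwa [← mul_inv_cancel_left (x * φ x) (φ (φ x)), hmulz _ (mul_mem hx hfy) _ hyy] at h1
  have hsqall : ∀ u ∈ moved φ, u ∉ zc φ → u ^ 2 = a := by
    intro u hu huZ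
    obtain ⟨z, hz, rfl | rfl | rfl | rfl⟩ := four u hu
    · exact absurd hz huZ
    · exact hmulz x hx z hz
    · rw [hmulz _ hfy z hz, hy2]
    · rw [hmulz _ (mul_mem hx hfy) z hz, hxy]
  have hsq' : ∀ u ∈ moved φ, u ^ 2 ∈ zpowers a := fun u hu => by
    by_cases huZ : u ∈ zc φ
    · rw [c.el u huZ]; exact one_mem _
    · rw [hsqall u hu huZ]; exact mem_zpowers a
  have ha1 : a ≠ 1 := fun e => hxZ ⟨hx, mem_centralizer_iff.2 fun g hg => (br_eq_one.1 (mem_bot.1
    (br_mem_of_sq (N := ⊥) (fun u hu => by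
      have := hsq' u hu
      rwa [e, zpowers_one_eq_bot] at this) hx hg))).symm⟩
  have hac : a ∈ center P := mem_center_iff.2 fun g => mul_inv_eq_iff_eq_mul.1 (by
    rw [ha, ← conj_pow]
    refine hsqall _ (hX.nrm.conj_mem x hx g) fun hmem => hxZ ?_
    have := hZ.nrm.conj_mem _ hmem g⁻¹
    rwa [show g⁻¹ * (g * x * g⁻¹) * g⁻¹⁻¹ = x by group] at this)
  haveI hEn : (zpowers a).Normal := ⟨fun u hu g => by
    rw [mem_center_iff.1 ((zpowers_le.2 hac) hu) g, mul_inv_cancel_right]; exact hu⟩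
  have hE : Inv φ (zpowers a) := ⟨hEn, fun u hu => by
    obtain ⟨j, rfl⟩ := mem_zpowers_iff.1 hu
    rw [map_zpow, c.fix_zc a haZ]; exact hu⟩
  have hle : zc φ ≤ zpowers a := fun z hz => c.hyp.fixed_mem hE
    (Subgroup.commutator_le.2 fun u hu v hv => by
      rw [commutatorElement_def]; exact br_mem_of_sq hsq' hu hv) hz.1 (c.fix_zc z hz)
  have hEq : zc φ = zpowers a := le_antisymm hle (zpowers_le.2 haZ)
  have hord : orderOf a = 2 := orderOf_eq_prime (p := 2) (c.el a haZ) ha1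
  refine ⟨a, ?_, fun z => ⟨fun hz => ?_, ?_⟩, ha1, c.fix_zc a haZ, hac, hsqall⟩
  · rw [h4, hEq, Nat.card_zpowers, hord]
  · rw [hEq] at hz
    obtain ⟨j, rfl⟩ := mem_zpowers_iff.1 hz
    rcases Int.even_or_odd j with ⟨i, rfl⟩ | ⟨i, rfl⟩
    · left; rw [← two_mul, zpow_mul, zpow_ofNat, c.el a haZ, one_zpow]
    · right; rw [zpow_add, zpow_mul, zpow_ofNat, c.el a haZ, one_zpow, one_mul, zpow_one]
  · rintro (rfl | rfl)
    · exact one_mem _
    · exact haZ

theorem ne_eight : Nat.card (moved φ) ≠ 8 * Nat.card (zc φ) := by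
  classical
  intro h8
  have C := c.toCentral
  have hX := moved_inv φ
  have hZ := zc_inv φ
  haveI := hZ.nrm
  have hpos : 0 < Nat.card (zc φ) := Nat.card_pos
  obtain ⟨a, haX, b, hbX, hab⟩ : ∃ a ∈ moved φ, ∃ b ∈ moved φ, br a b ≠ 1 := by
    by_contra hno
    push Not at hno
    have := card_le_of_le (show moved φ ≤ zc φ from fun x hx =>
      ⟨hx, mem_centralizer_iff.2 fun g hg => (br_eq_one.1 (hno x hx g hg)).symm⟩)
    omega
  set e := br a b with he
  have heZ : e ∈ zc φ := C.br_mem haX hbX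
  obtain ⟨K, hKZ, heK, hK⟩ : ∃ K : Subgroup P, K ≤ zc φ ∧ e ∉ K ∧ ∀ u ∈ zc φ, u ∈ K ∨ u * e ∈ K := by
    by_cases hf : ∃ f ∈ zc φ, f ≠ 1 ∧ f ≠ e
    · obtain ⟨f, hf, hf1, hfe⟩ := hf
      refine ⟨zpowers f, zpowers_le.2 hf, fun hm => ?_, fun u hu => ?_⟩
      · obtain ⟨j, hj⟩ := mem_zpowers_iff.1 hm
        rcases Int.even_or_odd j with ⟨i, rfl⟩ | ⟨i, rfl⟩
        · rw [← two_mul, zpow_mul, zpow_ofNat, c.el f hf, one_zpow] at hj
          exact hab hj.symm
        · rw [zpow_add, zpow_mul, zpow_ofNat, c.el f hf, one_zpow, one_mul, zpow_one] at hj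
          exact hfe hj
      · have hee : e * e = 1 := by rw [← pow_two, c.el e heZ]
        rcases four_mem c.card_zc_le c.el hf heZ hf1 hab hfe hu with rfl | rfl | rfl | rfl
        · exact Or.inl (one_mem _)
        · exact Or.inl (mem_zpowers _)
        · exact Or.inr (by rw [hee]; exact one_mem _)
        · exact Or.inr (by rw [mul_assoc, hee, mul_one]; exact mem_zpowers _)
    · push Not at hf
      refine ⟨⊥, bot_le, fun hm => hab (mem_bot.1 hm), fun u hu => ?_⟩
      by_cases hu1 : u = 1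
      · exact Or.inl (mem_bot.2 hu1)
      · exact Or.inr (mem_bot.2 (by rw [hf u hu hu1, ← pow_two, c.el e heZ]))
  -- the elements pairing into `K` with `x`
  let L : ↥(moved φ) → Subgroup ↥(moved φ) := fun x =>
    { carrier := {y | br (y : P) x ∈ K}
      one_mem' := by simp [br_one_left, one_mem]
      mul_mem' := fun {u v} hu hv => by
        show br ((u : P) * v) x ∈ K
        rw [br_mul_left (zc_comm (C.br_mem v.2 x.2) u.2).symm]
        exact mul_mem hv hu
      inv_mem' := fun {u} hu => by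
        show br ((u : P)⁻¹) x ∈ K
        have h1 : br ((u : P)⁻¹ * u) x = 1 := by rw [inv_mul_cancel, br_one_left]
        rw [br_mul_left (zc_comm (C.br_mem u.2 x.2) (inv_mem u.2)).symm] at h1
        rw [eq_inv_of_mul_eq_one_right h1]
        exact inv_mem hu }
  have hL : ∀ {x y : ↥(moved φ)}, y ∈ L x ↔ br (y : P) x ∈ K := fun {x y} => Iff.rfl
  have hsymm : ∀ {x y : ↥(moved φ)}, y ∈ L x → x ∈ L y := fun {x y} hm => by
    rw [hL, br_swap]; exact inv_mem hm
  have hLidx : ∀ x, (L x).index ≤ 2 := fun x => index_le_two _ fun u v hu hv => by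
    rw [hL] at hu hv ⊢
    have zu := C.br_mem u.2 x.2
    have zv := C.br_mem v.2 x.2
    rw [Subgroup.coe_mul, br_mul_left (zc_comm zv u.2).symm]
    have hu' := (hK _ zu).resolve_left hu
    have hv' := (hK _ zv).resolve_left hv
    have := mul_mem hv' hu'
    rwa [show br (v : P) x * e * (br (u : P) x * e) = br (v : P) x * br (u : P) x * (e * e) by
      rw [mul_assoc, ← mul_assoc e, (zc_comm heZ zu.1).eq]; simp only [mul_assoc],
      ← pow_two, c.el e heZ, mul_one] at this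
  set a' : ↥(moved φ) := ⟨a, haX⟩
  set b' : ↥(moved φ) := ⟨b, hbX⟩
  have hZL : ∀ x, (zc φ).subgroupOf (moved φ) ≤ L x := fun x y hy => by
    rw [hL, br_eq_one.2 (zc_comm (mem_subgroupOf.1 hy) x.2).eq]; exact one_mem _
  set Z' := (zc φ).subgroupOf (moved φ) with hZ'
  have hZcard : Nat.card Z' = Nat.card (zc φ) :=
    Nat.card_congr (subgroupOfEquivOfLe (zc_le φ)).toEquiv
  obtain ⟨d, hda, hdb, hdZ⟩ : ∃ d, d ∈ L a' ∧ d ∈ L b' ∧ d ∉ Z' := by
    by_contra hno
    push Not at hno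
    have h1 : (L a' ⊓ L b').index ≤ 4 := index_inf_le.trans
      (Nat.mul_le_mul (hLidx a') (hLidx b'))
    have h2 := card_le_of_le (show L a' ⊓ L b' ≤ Z' from fun y hy => hno y hy.1 hy.2)
    have h3 := (L a' ⊓ L b').card_mul_index
    have h4 := Nat.mul_le_mul h2 h1
    rw [h3, hZcard, h8] at h4
    omega
  have htop : L d = ⊤ := by
    haveI : Z'.Normal := Normal.subgroupOf hZ.nrm _
    have hd2 : d ^ 2 ∈ Z' := mem_subgroupOf.2 (C.sq_mem d.2)
    set A1 := Z' ⊔ zpowers d with hA1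
    have h1 := card_sup_invol hdZ
    have hA1n : A1.Normal := ⟨fun y hy g => by
      have : br (g : P) y ∈ zc φ := C.br_mem g.2 y.2
      have e1 : g * y * g⁻¹ = (g * y * g⁻¹ * y⁻¹) * y := by group
      rw [e1]
      exact mul_mem (mem_sup_left (mem_subgroupOf.2 this)) hy⟩
    have hA1b : A1 ≤ L b' := sup_le (hZL _) (zpowers_le.2 hdb)
    have hA1a : A1 ≤ L a' := sup_le (hZL _) (zpowers_le.2 hda)
    have haA1 : a' ∉ A1 := fun hm => heK (hL.1 (hA1b hm))
    have h2 := card_sup_invol haA1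
    set A2 := A1 ⊔ zpowers a' with hA2
    have hA2a : A2 ≤ L a' := sup_le hA1a (zpowers_le.2 (by rw [hL, br_eq_one.2 rfl]; exact one_mem _))
    have hbA2 : b' ∉ A2 := fun hm => heK (hL.1 (hsymm (hA2a hm)))
    have h3 := card_sup_invol hbA2
    have hle : A2 ⊔ zpowers b' ≤ L d :=
      sup_le (sup_le (sup_le (hZL _) (zpowers_le.2 (by rw [hL, br_eq_one.2 rfl]; exact one_mem _)))
        (zpowers_le.2 (hsymm hda))) (zpowers_le.2 (hsymm hdb))
    refine eq_top_of_le_card _ ?_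
    have h1' : 2 * Nat.card Z' ≤ Nat.card A1 := h1
    have := card_le_of_le hle
    rw [h8, ← hZcard]
    omega
  -- the radical
  set R : Subgroup P := (⨅ x, L x).map (moved φ).subtype with hR
  have hmemR : ∀ y : P, y ∈ R ↔ y ∈ moved φ ∧ ∀ x ∈ moved φ, br y x ∈ K := fun y => by
    constructor
    · rintro ⟨u, hu, rfl⟩
      exact ⟨u.2, fun x hx => hL.1 ((mem_iInf.1 hu) ⟨x, hx⟩)⟩
    · rintro ⟨hy, hy'⟩
      exact ⟨⟨y, hy⟩, mem_iInf.2 fun x => hL.2 (hy' x x.2), rfl⟩
  have hRinv : ∀ y ∈ R, φ y ∈ R := fun y hy => by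
    rw [hmemR] at hy ⊢
    refine ⟨hX.inv y hy.1, fun x hx => ?_⟩
    obtain ⟨w, rfl⟩ := φ.surjective x
    have hk := hy.2 w ((hX.mem_iff w).1 hx)
    rw [← map_br, c.fix_zc _ (hKZ hk)]
    exact hk
  have hRX : R ≤ moved φ := fun y hy => ((hmemR y).1 hy).1
  have hdR : (d : P) ∈ R := (hmemR _).2 ⟨d.2, fun x hx => by
    rw [← hL (x := ⟨x, hx⟩)]; exact hsymm (by rw [htop]; exact mem_top _)⟩
  have hZR : zc φ ≤ R := fun z hz => (hmemR _).2 ⟨hz.1, fun x hx => by
    rw [br_eq_one.2 (zc_comm hz hx).eq]; exact one_mem _⟩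
  have haR : a ∉ R := fun hm => heK (((hmemR _).1 hm).2 b hbX)
  obtain ⟨i, hi⟩ := exists_two_pow c.hyp.two hZR
  have hlt : Nat.card R < Nat.card (moved φ) := lt_of_le_of_ne (card_le_of_le hRX) fun heq =>
    haR (eq_of_le_of_card_ge hRX heq.ge ▸ haX)
  have hne1 : Nat.card R ≠ Nat.card (zc φ) := fun heq =>
    hdZ (mem_subgroupOf.2 (eq_of_le_of_card_ge hZR heq.le ▸ hdR))
  have hi3 : i < 3 := by
    by_contra hi3
    have h5 := Nat.mul_le_mul_right (Nat.card (zc φ))
      (Nat.pow_le_pow_right (show 0 < 2 by norm_num) (show 3 ≤ i by omega))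
    rw [← hi] at h5
    norm_num at h5
    omega
  rcases (show i = 0 ∨ i = 1 ∨ i = 2 by omega) with rfl | rfl | rfl
  · exact hne1 (by simpa using hi)
  · exact c.hyp.no_step hZ hRinv hZR (by simpa using hi) fun u hu => c.no_fixed (hRX hu)
  · exact c.hyp.no_index_two hRinv hRX (by rw [h8, hi]; ring)

theorem cases (hne : moved φ ≠ ⊥) :
    (∃ a, Quat φ a) ∨ (Big φ ∧ (Nat.card (zc φ) = 2 ∨ Nat.card (zc φ) = 4)) := by
  have C := c.toCentral
  have hZ := zc_inv φ
  haveI := hZ.nrm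
  haveI := (moved_inv φ).nrm
  obtain ⟨i, hi⟩ := exists_two_pow c.hyp.two (zc_le φ)
  have hle := c.hyp.card_le_of_sq (zc_le φ) fun x hx => C.sq_mem hx
  have hpos : 0 < Nat.card (zc φ) := Nat.card_pos
  have hi4 : i ≤ 4 := by
    by_contra hi4
    have := Nat.mul_le_mul_right (Nat.card (zc φ))
      (Nat.pow_le_pow_right (show 0 < 2 by norm_num) (show 5 ≤ i by omega))
    rw [← hi] at this
    norm_num at this
    omega
  rcases (show i = 0 ∨ i = 1 ∨ i = 2 ∨ i = 3 ∨ i = 4 by omega) with rfl | rfl | rfl | rfl | rfl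
  · have heq : moved φ = zc φ := (eq_of_le_of_card_ge (zc_le φ) (by rw [hi]; simp)).symm
    refine absurd (eq_bot_iff.2 (c.hyp.moved_le fun x hx => ?_)) hne
    rw [c.fix_zc x (heq ▸ hx), inv_mul_cancel]
    exact one_mem _
  · exact (c.hyp.no_index_two hZ.inv (zc_le φ) (by simpa using hi)).elim
  · exact Or.inl (c.quat (by simpa using hi))
  · exact absurd (by simpa using hi) c.ne_eight
  · refine Or.inr ⟨⟨c.el, fun x hx => C.sq_mem hx, by simpa using hi⟩, ?_⟩
    obtain ⟨z, hz, hzc, hz2, hz1⟩ := exists_central_invol c.hyp.two (moved φ) hne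
    have hzZ : z ∈ zc φ := ⟨hz, mem_centralizer_iff.2 fun g _ => mem_center_iff.1 hzc g⟩
    obtain ⟨j, hj⟩ := (c.hyp.two.to_subgroup (zc φ)).exists_card_eq
    have h4 := c.card_zc_le
    have hj0 : j ≠ 0 := fun h0 => by
      have h1 : Nat.card (zc φ) = 1 := by rw [hj, h0, pow_zero]
      rw [card_eq_one] at h1
      exact hz1 (mem_bot.1 (h1 ▸ hzZ))
    have hj2 : j ≤ 2 := (Nat.pow_le_pow_iff_right (by norm_num)).1 (hj ▸ h4 : 2 ^ j ≤ 2 ^ 2)
    rcases (show j = 1 ∨ j = 2 by omega) with rfl | rfl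
    · exact Or.inl (by simpa using hj)
    · exact Or.inr (by simpa using hj)

end FixedCentre

end CfsgLib.NormalRankTwo
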