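import Cfsg.Agent.NormalRankTwo.FixedCentre
import Cfsg.Agent.Kinf.TechExercises
import Cfsg.Agent.ZStar.Final

/-!
Fusion: a quaternion moved subgroup with fixed central involutions, and the extraspecial groups of
order 32, do not occur in simple groups: the central involution would be isolated.
-/

set_option autoImplicit false
set_option linter.unusedSectionVars false
set_option linter.style.haveILetI false

namespace CfsgLib.NormalRankTwo

open Subgroup

section Conjugation

variable {G : Type*} [Group G] [Finite G]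

/-- A conjugation taking `u` to a central element `a` of `T` and `C_T(u)` into `T`. -/
theorem exists_conj_centralizer (T : Sylow 2 G) {a u g₀ : G} (ha : a ∈ centralizer ((T : Subgroup G) : Set G))
    (hg : g₀ * u * g₀⁻¹ = a) :
    ∃ g : G, g * u * g⁻¹ = a ∧ ∀ x ∈ (T : Subgroup G), Commute x u → g * x * g⁻¹ ∈ (T : Subgroup G) := by
  haveI : Fact (Nat.Prime 2) := ⟨Nat.prime_two⟩
  set H := centralizer ({a} : Set G) with hH
  have hTH : (T : Subgroup G) ≤ H := fun p hp =>
    mem_centralizer_singleton_iff.2 (mem_centralizer_iff.1 ha p hp)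
  set D : Subgroup G := ((T : Subgroup G) ⊓ centralizer ({u} : Set G)).map (MulAut.conj g₀).toMonoidHom
    with hD
  have hDH : D ≤ H := by
    rintro _ ⟨x, hx, rfl⟩
    rw [mem_centralizer_singleton_iff, ← hg]
    show g₀ * x * g₀⁻¹ * (g₀ * u * g₀⁻¹) = g₀ * u * g₀⁻¹ * (g₀ * x * g₀⁻¹)
    rw [show g₀ * x * g₀⁻¹ * (g₀ * u * g₀⁻¹) = g₀ * (x * u) * g₀⁻¹ by group,
      mem_centralizer_singleton_iff.1 hx.2]
    group
  have hDp : IsPGroup 2 D := (T.2.to_le inf_le_left).map _
  have hp : IsPGroup 2 (D.subgroupOf H) := fun k => by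
    obtain ⟨i, hi⟩ := hDp ⟨k.1, k.2⟩
    exact ⟨i, Subtype.ext (Subtype.ext (congrArg Subtype.val hi :))⟩
  obtain ⟨Q, hQ⟩ := hp.exists_le_sylow
  obtain ⟨k, hk⟩ := MulAction.exists_smul_eq H Q (T.subtype hTH)
  refine ⟨(k : G) * g₀, ?_, fun x hx hxu => ?_⟩
  · rw [show (k : G) * g₀ * u * ((k : G) * g₀)⁻¹ = (k : G) * (g₀ * u * g₀⁻¹) * (k : G)⁻¹ by group, hg,
      mem_centralizer_singleton_iff.1 k.2, mul_inv_cancel_right]
  · have hxD : g₀ * x * g₀⁻¹ ∈ D := ⟨x, ⟨hx, mem_centralizer_singleton_iff.2 hxu.eq⟩, rfl⟩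
    have h1 : (⟨g₀ * x * g₀⁻¹, hDH hxD⟩ : H) ∈ (Q : Subgroup H) := hQ hxD
    have h2 := Subgroup.smul_mem_pointwise_smul _ (MulAut.conj k) _ h1
    rw [← Sylow.coe_subgroup_smul, hk, Sylow.coe_subtype] at h2
    have h3 : (k : G) * (g₀ * x * g₀⁻¹) * (k : G)⁻¹ ∈ (T : Subgroup G) := h2
    rwa [show (k : G) * g₀ * x * ((k : G) * g₀)⁻¹ = (k : G) * (g₀ * x * g₀⁻¹) * (k : G)⁻¹ by group]

/-- A simple group has no isolated central involution of a Sylow 2-subgroup. -/
theorem false_of_isolated [IsSimpleGroup G] (hna : ¬ IsMulCommutative G) (T : Sylow 2 G) {a : G}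
    (ha2 : a ^ 2 = 1) (ha1 : a ≠ 1)
    (h : ∀ g : G, g * a * g⁻¹ ∈ (T : Subgroup G) → g * a * g⁻¹ = a) : False := by
  haveI : Fact (Nat.Prime 2) := ⟨Nat.prime_two⟩
  have ho : orderOf a = 2 := orderOf_eq_prime ha2 ha1
  obtain ⟨N, hN, hNodd, hNc⟩ := CfsgLib.ZStar.zstar_of_sylow T ho h
  rcases hN.eq_bot_or_eq_top with hb | ht
  · have hac : a ∈ center G := mem_center_iff.2 fun g => by
      have h1 := hNc g
      rw [hb, mem_bot] at h1
      exact (mul_inv_eq_iff_eq_mul.1 (mul_inv_eq_one.1 h1)).symm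
    rcases (inferInstance : (center G).Normal).eq_bot_or_eq_top with hb' | ht'
    · exact ha1 (mem_bot.1 (hb' ▸ hac))
    · exact hna ⟨⟨fun x y => (mem_center_iff.1 (ht' ▸ mem_top x : x ∈ center G) y).symm⟩⟩
  · refine Nat.not_even_iff_odd.2 hNodd (even_iff_two_dvd.2 ?_)
    rw [ht, card_top, ← ho]
    exact orderOf_dvd_natCard a

/-- No simple group has this Sylow 2-subgroup of order 32. -/
theorem thirtytwo_false {G : Type*} [Group G] [Finite G] [IsSimpleGroup G]
    (hna : ¬ IsMulCommutative G) (T : Sylow 2 G)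
    {a : ↥T} (hcard : Nat.card ↥T = 32) (ha : a ≠ 1)
    (_hZ : ∀ z ∈ Subgroup.center ↥T, z = 1 ∨ z = a) (hac : a ∈ Subgroup.center ↥T)
    (hsq : ∀ x : ↥T, x ^ 2 = 1 ∨ x ^ 2 = a)
    (hsmall : ∀ A : Subgroup ↥T, A.Normal → IsMulCommutative A → (∀ u ∈ A, u ^ 2 = 1) →
      Nat.card A ≤ 4) : False := by
  classical
  have ha2 : a ^ 2 = 1 := by
    rcases hsq a with h | h
    · exact h
    · exact absurd (by rw [pow_two] at h; exact mul_eq_left.1 h) ha
  haveI hN : (zpowers a).Normal := ⟨fun u hu g => by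
    rw [mem_center_iff.1 ((zpowers_le.2 hac) hu) g, mul_inv_cancel_right]; exact hu⟩
  have hbr : ∀ x y : ↥T, br x y = 1 ∨ br x y = a := by
    intro x y
    have h := br_mem_of_sq (H := ⊤) (N := zpowers a) (fun z _ => by
      rcases hsq z with e | e <;> rw [e]
      · exact one_mem _
      · exact mem_zpowers a) (mem_top x) (mem_top y)
    obtain ⟨j, hj⟩ := mem_zpowers_iff.1 h
    rcases Int.even_or_odd j with ⟨i, rfl⟩ | ⟨i, rfl⟩
    · left; rw [← hj, ← two_mul, zpow_mul, zpow_ofNat, ha2, one_zpow]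
    · right; rw [← hj, zpow_add, zpow_mul, zpow_ofNat, ha2, one_zpow, one_mul, zpow_one]
  refine false_of_isolated hna T (a := (a : G)) (congrArg Subtype.val ha2)
    (fun e => ha (Subtype.ext e)) fun g₀ hg₀ => ?_
  set u : ↥T := ⟨g₀ * a * g₀⁻¹, hg₀⟩ with hu
  by_contra hne
  have hu2 : u ^ 2 = 1 := Subtype.ext (by
    show (g₀ * (a : G) * g₀⁻¹) ^ 2 = 1
    rw [conj_pow, show ((a : G)) ^ 2 = 1 from congrArg Subtype.val ha2, mul_one, mul_inv_cancel])
  obtain ⟨g, hgu, hgT⟩ := exists_conj_centralizer T (a := (a : G)) (u := (u : G)) (g₀ := g₀⁻¹)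
    (mem_centralizer_iff.2 fun p hp => congrArg Subtype.val (mem_center_iff.1 hac ⟨p, hp⟩))
    (by show g₀⁻¹ * (g₀ * (a : G) * g₀⁻¹) * g₀⁻¹⁻¹ = (a : G); group)
  -- the centralizer of `u` has index at most two
  set D : Subgroup ↥T := centralizer ({u} : Set ↥T) with hD
  have hidx : D.index ≤ 2 := index_le_two _ fun x y hx hy => by
    rw [hD, mem_centralizer_singleton_iff] at hx hy ⊢
    have hx' := (hbr x u).resolve_left fun e => hx (br_eq_one.1 e)
    have hy' := (hbr y u).resolve_left fun e => hy (br_eq_one.1 e)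
    have hc : Commute x (br y u) := by rw [hy']; exact mem_center_iff.1 hac x
    have h := br_mul_left hc
    rw [hx', hy', ← pow_two, ha2] at h
    exact br_eq_one.1 h
  have hDc : 16 ≤ Nat.card D := by
    have h := D.card_mul_index
    rw [hcard] at h
    nlinarith
  obtain ⟨x, hx, hx2⟩ : ∃ x ∈ D, x ^ 2 = a := by
    by_contra hno
    push Not at hno
    have h1 : ∀ x ∈ D, x ^ 2 = 1 := fun x hx => (hsq x).resolve_right (hno x hx)
    have hDn : D.Normal := by
      refine ⟨fun x hx y => ?_⟩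
      rw [show y * x * y⁻¹ = br y x * x by rw [br]; group]
      refine mul_mem ?_ hx
      rcases hbr y x with e | e <;> rw [e]
      · exact one_mem _
      · exact mem_centralizer_singleton_iff.2 (mem_center_iff.1 hac u).symm
    have hDa : IsMulCommutative D := ⟨⟨fun x y => Subtype.ext (by
      show (x : ↥T) * y = y * x
      calc (x : ↥T) * y = ((x : ↥T) * y)⁻¹ :=
            (inv_eq_of_mul_eq_one_right (by rw [← pow_two]; exact h1 _ (mul_mem x.2 y.2))).symm
        _ = y * x := by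
          rw [mul_inv_rev, inv_eq_of_mul_eq_one_right (show (x : ↥T) * x = 1 by
              rw [← pow_two]; exact h1 _ x.2),
            inv_eq_of_mul_eq_one_right (show (y : ↥T) * y = 1 by rw [← pow_two]; exact h1 _ y.2)])⟩⟩
    have := hsmall D hDn hDa h1
    omega
  have hxu : Commute (x : G) (u : G) :=
    congrArg Subtype.val (mem_centralizer_singleton_iff.1 hx)
  set y : ↥T := ⟨g * x * g⁻¹, hgT x x.2 hxu⟩ with hy
  have hy2 : ((y ^ 2 : ↥T) : G) = g * (a : G) * g⁻¹ := by
    show (g * (x : G) * g⁻¹) ^ 2 = g * (a : G) * g⁻¹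
    rw [conj_pow, show (x : G) ^ 2 = a from congrArg Subtype.val hx2]
  rcases hsq y with e | e
  · rw [e] at hy2
    exact ha (Subtype.ext (conj_eq_one_iff.1 hy2.symm))
  · rw [e] at hy2
    exact hne (mul_left_cancel (mul_right_cancel (hgu.trans hy2)))

end Conjugation

section Quaternion

variable {P : Type*} [Group P] [Finite P] {φ : MulAut P}

/-- A 2-group of exponent two generated by commuting elements, normal, has order at most four. -/
theorem Hyp.false_of_gens (h : Hyp φ) {S : Set P} (hc : ∀ x ∈ S, ∀ y ∈ S, x * y = y * x)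
    (h2 : ∀ x ∈ S, x ^ 2 = 1) (hn : ∀ g : P, ∀ x ∈ S, g * x * g⁻¹ ∈ closure S)
    (h4 : 4 < Nat.card (closure S)) : False := by
  have hcc := comm_closure hc
  have hsq : ∀ x ∈ closure S, x ^ 2 = 1 := fun x hx => by
    induction hx using closure_induction with
    | mem x hx => exact h2 x hx
    | one => exact one_pow 2
    | mul x y hx hy ex ey => rw [Commute.mul_pow (hcc x hx y hy), ex, ey, one_mul]
    | inv x _ ex => rw [inv_pow, ex, inv_one]
  have hnrm : (closure S).Normal := ⟨fun x hx g => by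
    induction hx using closure_induction with
    | mem x hx => exact hn g x hx
    | one => rw [mul_one, mul_inv_cancel]; exact one_mem _
    | mul x y _ _ ex ey =>
      rw [show g * (x * y) * g⁻¹ = g * x * g⁻¹ * (g * y * g⁻¹) by group]; exact mul_mem ex ey
    | inv x _ ex =>
      rw [show g * x⁻¹ * g⁻¹ = (g * x * g⁻¹)⁻¹ by group]; exact inv_mem ex⟩
  have := h.small _ hnrm ⟨⟨fun x y => Subtype.ext (hcc x x.2 y y.2)⟩⟩ hsq
  omega

/-- An abelian 2-group with at most one involution is cyclic. -/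
theorem exists_gen_of_one_invol {A : Type*} [CommGroup A] [Finite A] (hA : IsPGroup 2 A)
    (h1 : ∀ x y : A, x ^ 2 = 1 → x ≠ 1 → y ^ 2 = 1 → y ≠ 1 → x = y) :
    ∃ v : A, ∀ x : A, x ∈ zpowers v := by
  obtain ⟨v, hv⟩ := Finite.exists_max (fun x : A => orderOf x)
  refine ⟨v, fun x => ?_⟩
  obtain ⟨k, hk⟩ := hA x
  induction k generalizing x with
  | zero => rw [show x = 1 by simpa using hk]; exact one_mem _
  | succ k ih =>
    by_cases hx1 : x = 1
    · rw [hx1]; exact one_mem _
    obtain ⟨j, hj⟩ := mem_zpowers_iff.1 (ih (x ^ 2) (by rw [← pow_mul, ← pow_succ']; exact hk))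
    have hv1 : v ≠ 1 := fun e => hx1 (orderOf_eq_one_iff.1 (by
      have h := hv x
      simp only [e, orderOf_one] at h
      have := orderOf_pos x
      omega))
    obtain ⟨m, hm⟩ := hA v
    obtain ⟨m', -, hvo⟩ := (Nat.dvd_prime_pow Nat.prime_two).1 (orderOf_dvd_of_pow_eq_one hm)
    have hm' : m' ≠ 0 := fun e => hv1 (orderOf_eq_one_iff.1 (by rw [hvo, e, pow_zero]))
    obtain ⟨m'', rfl⟩ := Nat.exists_eq_succ_of_ne_zero hm'
    -- `x ^ 2` is an even power
    obtain ⟨i, rfl⟩ : Even j := by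
      by_contra hodd
      rw [Int.not_even_iff_odd] at hodd
      obtain ⟨l, rfl⟩ := hodd
      have hx2 : orderOf (x ^ 2) = orderOf v := by
        rw [← hj, hvo]
        obtain ⟨t, -, ht⟩ := (Nat.dvd_prime_pow Nat.prime_two).1
          (show orderOf (v ^ (2 * l + 1)) ∣ 2 ^ (m'' + 1) from
            orderOf_dvd_of_pow_eq_one (by
              rw [← zpow_natCast, ← zpow_mul, mul_comm, zpow_mul, zpow_natCast, ← hvo,
                pow_orderOf_eq_one, one_zpow]))
        rcases Nat.lt_or_ge t (m'' + 1) with hlt | hge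
        · exfalso
          have h0 : v ^ ((2 * l + 1) * ((2 ^ t : ℕ) : ℤ)) = 1 := by
            rw [zpow_mul, zpow_natCast, ← ht, pow_orderOf_eq_one]
          have hd := orderOf_dvd_iff_zpow_eq_one.2 h0
          rw [hvo] at hd
          have h2 : ((2 : ℤ) ^ t * 2) ∣ (2 * l + 1) * 2 ^ t := by
            refine Dvd.dvd.trans ?_ (by simpa using hd)
            rw [← pow_succ]
            exact pow_dvd_pow 2 hlt
          have h3 : (2 : ℤ) ∣ 2 * l + 1 := by
            rw [mul_comm (2 * l + 1)] at h2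
            exact Int.dvd_of_mul_dvd_mul_left (pow_ne_zero _ (by norm_num)) h2
          omega
        · have : t ≤ m'' + 1 := (Nat.pow_dvd_pow_iff_le_right (by norm_num)).1 (ht ▸
            orderOf_dvd_of_pow_eq_one (by
              rw [← zpow_natCast, ← zpow_mul, mul_comm, zpow_mul, zpow_natCast, ← hvo,
                pow_orderOf_eq_one, one_zpow]))
          rw [ht, show t = m'' + 1 by omega]
      have hle := hv x
      obtain ⟨r, -, hr⟩ := (Nat.dvd_prime_pow Nat.prime_two).1 (orderOf_dvd_of_pow_eq_one hk)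
      have hr0 : r ≠ 0 := fun e => hx1 (orderOf_eq_one_iff.1 (by rw [hr, e, pow_zero]))
      have h4 : orderOf (x ^ 2) * 2 = orderOf x := by
        rw [orderOf_pow' x (by norm_num : (2 : ℕ) ≠ 0), hr,
          Nat.gcd_eq_right (dvd_pow_self 2 hr0), Nat.div_mul_cancel (dvd_pow_self 2 hr0)]
      have := orderOf_pos v
      omega
    have hz : (x * (v ^ i)⁻¹) ^ 2 = 1 := by
      rw [mul_pow, ← hj, zpow_add, inv_pow, pow_two, mul_inv_cancel]
    have ht2 : (v ^ 2 ^ m'') ^ 2 = 1 := by
      rw [← pow_mul, ← pow_succ, ← hvo, pow_orderOf_eq_one]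
    have ht1 : v ^ 2 ^ m'' ≠ 1 := fun e => by
      have h := Nat.le_of_dvd (Nat.two_pow_pos m'') (orderOf_dvd_of_pow_eq_one e)
      rw [hvo, pow_succ] at h
      have := Nat.two_pow_pos m''
      omega
    have hmem : x * (v ^ i)⁻¹ ∈ zpowers v := by
      by_cases hz1 : x * (v ^ i)⁻¹ = 1
      · rw [hz1]; exact one_mem _
      · rw [h1 _ _ hz hz1 ht2 ht1]; exact pow_mem (mem_zpowers v) _
    have := mul_mem hmem (zpow_mem (mem_zpowers v) i)
    rwa [inv_mul_cancel_right] at this

namespace FixedCentre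

variable (c : FixedCentre φ) {a : P} (q : Quat φ a)
include c q

theorem a_sq : a ^ 2 = 1 := c.el a ((q.zmem a).2 (Or.inr rfl))

theorem exists_quarter : ∃ i ∈ moved φ, i ∉ zc φ ∧ i ^ 2 = a := by
  obtain ⟨i, hi, hiZ⟩ : ∃ i ∈ moved φ, i ∉ zc φ := by
    by_contra hno
    push Not at hno
    classical
    have h1 := card_le_of_le (show moved φ ≤ zc φ from hno)
    have h2 : Nat.card (zc φ) ≤ ({1, a} : Finset P).card := by
      rw [← Nat.card_eq_finsetCard]
      refine Nat.card_le_card_of_injective (fun k => ⟨k.1, ?_⟩) fun k l e =>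
        Subtype.ext (id (congrArg Subtype.val e :))
      simp only [Finset.mem_insert, Finset.mem_singleton]
      exact (q.zmem k).1 k.2
    have h3 : ({1, a} : Finset P).card ≤ 2 := Finset.card_le_two
    rw [q.card] at h1
    omega
  exact ⟨i, hi, hiZ, q.sq i hi hiZ⟩

/-- The fixed elements centralize the moved subgroup. -/
theorem fixed_comm_moved {d x : P} (hd : φ d = d) (hx : x ∈ moved φ) : Commute d x := by
  classical
  have hX := moved_inv φ
  have hZi := zc_inv φ
  haveI := hX.nrm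
  haveI := hZi.nrm
  have hzcc : ∀ z ∈ zc φ, ∀ g, Commute g z := fun z hz g => by
    rcases (q.zmem z).1 hz with rfl | rfl
    · exact Commute.one_right g
    · exact mem_center_iff.1 q.central g
  have hcard : Nat.card (zc φ) = 2 := by
    have hz : zc φ = zpowers a := by
      ext z
      rw [q.zmem, mem_zpowers_iff]
      constructor
      · rintro (rfl | rfl)
        · exact ⟨0, zpow_zero a⟩
        · exact ⟨1, zpow_one z⟩
      · rintro ⟨j, rfl⟩
        rcases Int.even_or_odd j with ⟨i, rfl⟩ | ⟨i, rfl⟩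
        · left; rw [← two_mul, zpow_mul, zpow_ofNat, c.a_sq q, one_zpow]
        · right; rw [zpow_add, zpow_mul, zpow_ofNat, c.a_sq q, one_zpow, one_mul, zpow_one]
    rw [hz, Nat.card_zpowers]
    exact orderOf_eq_prime (hp := ⟨Nat.prime_two⟩) (c.a_sq q) q.ne
  obtain ⟨i, hi, hiZ, -⟩ := c.exists_quarter q
  obtain ⟨x₀, hx₀, hx₀Z, hx₀c⟩ := exists_central c.hyp.two (zc φ) (moved φ)
    (lt_of_le_of_ne (zc_le φ) fun e => hiZ (e ▸ hi))
  obtain ⟨-, -, hall⟩ := c.hyp.four_cosets hZi hX.inv (zc_le φ) (by rw [q.card, hcard])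
    (fun u hu => c.no_fixed hu) hx₀ hx₀Z
  have hTop : Inv φ (⊤ : Subgroup P) := ⟨inferInstance, fun _ _ => mem_top _⟩
  have hK := Inv.centModIn hTop hZi
  have hx₀K : x₀ ∈ centModIn ⊤ (zc φ) := fun g _ => hx₀c g
  have hmem : ∀ y ∈ moved φ, ∀ g, br y g ∈ zc φ := by
    intro y hy g
    have hzK : ∀ z ∈ zc φ, z ∈ centModIn ⊤ (zc φ) := fun z hz g _ => br_mem_of_mem hz g
    obtain ⟨z, hz, rfl | rfl | rfl | rfl⟩ := hall y hy
    · exact hzK _ hz g (mem_top g)
    · exact mul_mem hx₀K (hzK _ hz) g (mem_top g)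
    · exact mul_mem (hK.inv _ hx₀K) (hzK _ hz) g (mem_top g)
    · exact mul_mem (mul_mem hx₀K (hK.inv _ hx₀K)) (hzK _ hz) g (mem_top g)
  let f : ↥(moved φ) →* ↥(zc φ) := MonoidHom.mk' (fun y => ⟨br (y : P) d, hmem y y.2 d⟩)
    fun y w => Subtype.ext (by
      show br ((y : P) * w) d = br (y : P) d * br (w : P) d
      rw [br_mul_left (hzcc _ (hmem w w.2 d) y)]
      exact (hzcc _ (hmem y y.2 d) _).eq)
  have hf : ∀ y : ↥(moved φ), f ⟨φ y, (moved_inv φ).inv y y.2⟩ = f y := fun y => Subtype.ext (by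
    show br (φ (y : P)) d = br (y : P) d
    conv_lhs => rw [← hd]
    rw [← map_br]
    exact c.fix_zc _ (hmem y y.2 d))
  exact (br_eq_one.1 (congrArg Subtype.val (c.hyp.hom_const f hf ⟨x, hx⟩))).symm

/-- Squares of fixed elements of order dividing four are central. -/
theorem sq_central {d : P} (hd : φ d = d) (hd4 : d ^ 4 = 1) : d ^ 2 ∈ center P := by
  classical
  haveI : Fact (Nat.Prime 2) := ⟨Nat.prime_two⟩
  have hcm := fun (g : P) (hg : φ g = g) (x : P) (hx : x ∈ moved φ) => c.fixed_comm_moved q hg hx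
  -- the fixed elements
  let Cf : Subgroup P :=
    { carrier := {g | φ g = g}
      one_mem' := map_one φ
      mul_mem' := fun {x y} (hx : φ x = x) (hy : φ y = y) => by
        show φ (x * y) = x * y
        rw [map_mul, hx, hy]
      inv_mem' := fun {x} (hx : φ x = x) => by
        show φ x⁻¹ = x⁻¹
        rw [map_inv, hx] }
  have hdecomp : ∀ g : P, ∃ x ∈ moved φ, ∃ k ∈ Cf, g = x * k := fun g => by
    obtain ⟨k, hk, hgk⟩ := c.hyp.exists_fixed_mul g
    exact ⟨_, hgk, k, hk, (inv_mul_cancel_right g k).symm⟩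
  haveI hCn : Cf.Normal := ⟨fun k hk g => by
    obtain ⟨x, hx, l, hl, rfl⟩ := hdecomp g
    have hm : l * k * l⁻¹ ∈ Cf := mul_mem (mul_mem hl hk) (inv_mem hl)
    rw [show x * l * k * (x * l)⁻¹ = x * (l * k * l⁻¹) * x⁻¹ by group,
      ← (hcm _ hm x hx).eq, mul_inv_cancel_right]
    exact hm⟩
  have haC : a ∈ Cf := q.fix
  haveI hZn : (zpowers a).Normal := ⟨fun u hu g => by
    rw [mem_center_iff.1 ((zpowers_le.2 q.central) hu) g, mul_inv_cancel_right]; exact hu⟩
  obtain ⟨U, hUn, hZU, hUC, -, hUmax⟩ := CfsgLib.Kinf.exists_scn_containing c.hyp.two Cf (zpowers a)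
    (zpowers_le.2 haC) inferInstance
  haveI := hUn
  have haU : a ∈ U := hZU (mem_zpowers a)
  have hUab : ∀ x ∈ U, ∀ y ∈ U, x * y = y * x := fun x hx y hy => by
    rw [← hUmax] at hx
    exact (mem_centralizer_iff.1 hx.2 y hy).symm
  have hmemU : ∀ g ∈ Cf, (∀ x ∈ U, Commute g x) → g ∈ U := fun g hg hgx => by
    rw [← hUmax]
    exact ⟨hg, mem_centralizer_iff.2 fun x hx => (hgx x hx).eq.symm⟩
  obtain ⟨i, hi, hiZ, hi2⟩ := c.exists_quarter q
  have hiC : i ∉ Cf := fun h => hiZ (c.no_fixed hi (by rw [show φ i = i from h, inv_mul_cancel]; exact one_mem _))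
  -- `a` is no square in `U` once there are further involutions
  have hnsq : ∀ u ∈ U, u ^ 2 = a → ∀ w ∈ U, w ^ 2 = 1 → w = 1 ∨ w = a := by
    intro u hu hu2 w hw hw2
    by_contra hne
    push Not at hne
    have hiu : Commute i u := (hcm u (hUC hu) i hi).symm
    refine c.hyp.false_of_gens (S := {x | x ∈ U ∧ x ^ 2 = 1} ∪ {i * u}) ?_ ?_ ?_ ?_
    · have h1 : ∀ x ∈ U, Commute x (i * u) := fun x hx =>
        (hcm x (hUC hx) i hi).mul_right (hUab x hx u hu)
      rintro x (⟨hx, -⟩ | hx) y (⟨hy, -⟩ | hy)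
      · exact hUab x hx y hy
      · rw [Set.mem_singleton_iff.1 hy]; exact (h1 x hx).eq
      · rw [Set.mem_singleton_iff.1 hx]; exact (h1 y hy).eq.symm
      · rw [Set.mem_singleton_iff.1 hx, Set.mem_singleton_iff.1 hy]
    · rintro x (⟨-, hx⟩ | hx)
      · exact hx
      · rw [Set.mem_singleton_iff.1 hx, hiu.mul_pow, hi2, hu2, ← pow_two, c.a_sq q]
    · rintro g x (⟨hx, hx2⟩ | hx)
      · exact subset_closure (Or.inl ⟨hUn.conj_mem x hx g, by
          rw [conj_pow, hx2, mul_one, mul_inv_cancel]⟩)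
      · rw [Set.mem_singleton_iff.1 hx]
        obtain ⟨z, hz, e⟩ : ∃ z ∈ U, g * (i * u) * g⁻¹ = z * (i * u) ∧ z ^ 2 = 1 := by
          obtain ⟨x', hx', k, hk, rfl⟩ := hdecomp g
          have hzx : br x' i = 1 ∨ br x' i = a := (q.zmem _).1 (c.toCentral.br_mem hx' hi)
          have hk' : k * u * k⁻¹ ∈ U := hUn.conj_mem u hu k
          have h2 : (k * u * k⁻¹ * u⁻¹) ^ 2 = 1 := by
            rw [Commute.mul_pow (hUab _ hk' _ (inv_mem hu) : Commute _ _), conj_pow, hu2, inv_pow, hu2,
              mem_center_iff.1 q.central k, mul_inv_cancel_right, mul_inv_cancel]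
          have hxk : x' * (k * u * k⁻¹) * x'⁻¹ = k * u * k⁻¹ := by
            rw [← (hcm _ (hUC hk') x' hx').eq, mul_inv_cancel_right]
          have hki : k * i * k⁻¹ = i := by rw [(hcm k hk i hi).eq, mul_inv_cancel_right]
          have hzU : br x' i ∈ U := by
            rcases hzx with e | e <;> rw [e]
            · exact one_mem _
            · exact haU
          refine ⟨br x' i * (k * u * k⁻¹ * u⁻¹), mul_mem hzU (mul_mem hk' (inv_mem hu)), ?_, ?_⟩
          · have hc : Commute i (k * u * k⁻¹ * u⁻¹) :=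
              (hcm _ (hUC (mul_mem hk' (inv_mem hu))) i hi).symm
            calc x' * k * (i * u) * (x' * k)⁻¹
                = x' * (k * i * k⁻¹) * x'⁻¹ * (x' * (k * u * k⁻¹) * x'⁻¹) := by group
              _ = br x' i * i * (k * u * k⁻¹ * u⁻¹) * u := by rw [hki, hxk, br]; group
              _ = br x' i * (k * u * k⁻¹ * u⁻¹) * (i * u) := by
                rw [mul_assoc (br x' i) i, hc.eq]; simp only [mul_assoc]
          · rw [Commute.mul_pow (hUab _ hzU _ (mul_mem hk' (inv_mem hu)) : Commute _ _), h2, mul_one]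
            rcases hzx with e | e <;> rw [e]
            · exact one_pow 2
            · exact c.a_sq q
        rw [e.1]
        exact mul_mem (subset_closure (Or.inl ⟨hz, e.2⟩)) (subset_closure (Or.inr rfl))
    · set W : Subgroup P := closure {x | x ∈ U ∧ x ^ 2 = 1} with hW
      have hWU : W ≤ U := (closure_le _).2 fun x hx => hx.1
      have hiuW : i * u ∉ W := fun h => hiC (by
        have := mul_mem (hUC (hWU h)) (inv_mem (hUC hu))
        rwa [mul_inv_cancel_right] at this)
      have h4 : 3 ≤ Nat.card W := by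
        have h3 : ({1, a, w} : Finset P).card = 3 := by
          rw [Finset.card_insert_of_notMem, Finset.card_pair (Ne.symm hne.2)]
          simp only [Finset.mem_insert, Finset.mem_singleton, not_or]
          exact ⟨q.ne.symm, hne.1.symm⟩
        rw [← h3, ← Nat.card_eq_finsetCard]
        refine Nat.card_le_card_of_injective (fun k => ⟨k.1, ?_⟩) fun k l e =>
          Subtype.ext (id (congrArg Subtype.val e :))
        have := k.2
        simp only [Finset.mem_insert, Finset.mem_singleton] at this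
        rcases this with e | e | e <;> rw [e]
        exacts [one_mem _, subset_closure ⟨haU, c.a_sq q⟩, subset_closure ⟨hw, hw2⟩]
      haveI : W.Normal := ⟨fun x hx g => by
        induction hx using closure_induction with
        | mem x hx => exact subset_closure ⟨hUn.conj_mem x hx.1 g, by
            rw [conj_pow, hx.2, mul_one, mul_inv_cancel]⟩
        | one => rw [mul_one, mul_inv_cancel]; exact one_mem _
        | mul x y _ _ ex ey =>
          rw [show g * (x * y) * g⁻¹ = g * x * g⁻¹ * (g * y * g⁻¹) by group]; exact mul_mem ex ey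
        | inv x _ ex =>
          rw [show g * x⁻¹ * g⁻¹ = (g * x * g⁻¹)⁻¹ by group]; exact inv_mem ex⟩
      have h5 := card_sup_invol hiuW
      have h6 : W ⊔ zpowers (i * u) ≤ closure ({x | x ∈ U ∧ x ^ 2 = 1} ∪ {i * u}) :=
        sup_le (closure_mono Set.subset_union_left) (zpowers_le.2 (subset_closure (Or.inr rfl)))
      have := card_le_of_le h6
      omega
  -- the generator
  obtain ⟨v, hv, hgen⟩ : ∃ v ∈ U, ∀ x ∈ U, ∃ k : ℤ, ∃ ε : ℤ, x = v ^ k * a ^ ε := by
    set A := U ⧸ (zpowers a).subgroupOf U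
    letI : CommGroup U := { (inferInstance : Group U) with
      mul_comm := fun x y => Subtype.ext (hUab x x.2 y y.2) }
    haveI : Finite A := inferInstance
    obtain ⟨w, hw⟩ := exists_gen_of_one_invol (A := U ⧸ (zpowers a).subgroupOf U)
      ((c.hyp.two.to_subgroup U).to_quotient _) (by
        intro x y hx hx1 hy hy1
        obtain ⟨x, rfl⟩ := QuotientGroup.mk_surjective x
        obtain ⟨y, rfl⟩ := QuotientGroup.mk_surjective y
        rw [← QuotientGroup.mk_pow, QuotientGroup.eq_one_iff, mem_subgroupOf, Subgroup.coe_pow] at hx hy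
        rw [ne_eq, QuotientGroup.eq_one_iff, mem_subgroupOf] at hx1 hy1
        have hmem : ∀ z : P, z ∈ zpowers a → z = 1 ∨ z = a := fun z hz => by
          obtain ⟨j, rfl⟩ := mem_zpowers_iff.1 hz
          rcases Int.even_or_odd j with ⟨l, rfl⟩ | ⟨l, rfl⟩
          · left; rw [← two_mul, zpow_mul, zpow_ofNat, c.a_sq q, one_zpow]
          · right; rw [zpow_add, zpow_mul, zpow_ofNat, c.a_sq q, one_zpow, one_mul, zpow_one]
        have hsquare : ∀ z : U, (z : P) ^ 2 ∈ zpowers a → (z : P) ∉ zpowers a →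
            (z : P) ^ 2 = a → ∀ t : U, (t : P) ^ 2 = 1 → (t : P) ∈ zpowers a := by
          intro z _ _ hz t ht
          rcases hnsq z z.2 hz t t.2 ht with e | e <;> rw [e]
          · exact one_mem _
          · exact mem_zpowers a
        rw [QuotientGroup.eq, mem_subgroupOf]
        show (x : P)⁻¹ * y ∈ zpowers a
        rcases hmem _ hx with ex | ex <;> rcases hmem _ hy with ey | ey
        · -- two involutions
          by_contra hxy
          let W := omega U hUab
          have hW : Nat.card W ≤ 4 :=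
            c.hyp.small _ ⟨fun e he g => ⟨hUn.conj_mem e he.1 g, by
              rw [conj_pow, he.2, mul_one, mul_inv_cancel]⟩⟩
              ⟨⟨fun e f => Subtype.ext (hUab _ e.2.1 _ f.2.1)⟩⟩ fun e he => he.2
          rcases four_mem hW (fun e he => he.2) (a := a) (b := (x : P)) (y := (y : P))
            ⟨haU, c.a_sq q⟩ ⟨x.2, ex⟩ q.ne (fun e => hx1 (by rw [e]; exact one_mem _))
            (fun e => hx1 (by rw [← e]; exact mem_zpowers a)) ⟨y.2, ey⟩ with e | e | e | e
          · exact hy1 (by rw [e]; exact one_mem _)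
          · exact hy1 (by rw [e]; exact mem_zpowers a)
          · exact hxy (by rw [e, inv_mul_cancel]; exact one_mem _)
          · refine hxy ?_
            rw [e, hUab a haU x x.2, inv_mul_cancel_left]
            exact mem_zpowers a
        · exact absurd (hsquare y hy hy1 ey x ex) hx1
        · exact absurd (hsquare x hx hx1 ex y ey) hy1
        · refine hsquare x hx hx1 ex (x⁻¹ * y) ?_
          show ((x : P)⁻¹ * y) ^ 2 = 1
          rw [Commute.mul_pow (hUab _ (inv_mem x.2) _ y.2 : Commute _ _), inv_pow, ex, ey,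
            inv_mul_cancel])
    obtain ⟨w, rfl⟩ := QuotientGroup.mk_surjective w
    refine ⟨w, w.2, fun x hx => ?_⟩
    obtain ⟨k, hk⟩ := mem_zpowers_iff.1 (hw ((⟨x, hx⟩ : U) : A))
    rw [← QuotientGroup.mk_zpow, QuotientGroup.eq, mem_subgroupOf] at hk
    obtain ⟨ε, hε⟩ := mem_zpowers_iff.1 hk
    refine ⟨k, ε, ?_⟩
    rw [hε]
    show x = (w : P) ^ k * (((w : P) ^ k)⁻¹ * x)
    rw [mul_inv_cancel_left]
  have hca : ∀ g : P, Commute g a := fun g => mem_center_iff.1 q.central g
  have haz : ∀ ε : ℤ, ∀ g : P, Commute g (a ^ ε) := fun ε g => (hca g).zpow_right ε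
  have haeven : ∀ m : ℤ, Even m → a ^ m = 1 := fun m ⟨l, hl⟩ => by
    rw [hl, ← two_mul, zpow_mul, zpow_ofNat, c.a_sq q, one_zpow]
  -- action of the fixed elements on the generator
  have hact : ∀ g ∈ Cf, ∃ α ε : ℤ, g * v * g⁻¹ = v ^ α * a ^ ε := fun g _ =>
    hgen _ (hUn.conj_mem v hv g)
  -- an odd exponent unless the generator is trivial modulo `a`
  have hodd : v ∉ zpowers a → ∀ g : P, ∀ α ε : ℤ, g * v * g⁻¹ = v ^ α * a ^ ε → Odd α := by
    intro hvz g α ε hg
    by_contra hev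
    rw [Int.not_odd_iff_even] at hev
    obtain ⟨l, rfl⟩ := hev
    obtain ⟨k, δ, hk⟩ := hgen _ (hUn.conj_mem v hv g⁻¹)
    have h1 : v = v ^ ((l + l) * k) * a ^ (ε * k + δ) := by
      calc v = g * (g⁻¹ * v * g⁻¹⁻¹) * g⁻¹ := by group
        _ = (g * v * g⁻¹) ^ k * a ^ δ := by
          rw [hk, conj_zpow]
          rw [show g * (v ^ k * a ^ δ) * g⁻¹ = g * v ^ k * (a ^ δ * g⁻¹) by group,
            ← (haz δ g⁻¹).eq]
          group
        _ = _ := by
          rw [hg, (haz ε (v ^ (l + l))).mul_zpow, ← zpow_mul, ← zpow_mul, zpow_add a, mul_assoc]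
    have h2 : v ^ (1 - (l + l) * k) ∈ zpowers a := by
      rw [zpow_sub, zpow_one]
      nth_rewrite 1 [h1]
      rw [(haz (ε * k + δ) (v ^ ((l + l) * k))).eq, mul_inv_cancel_right]
      exact zpow_mem (mem_zpowers a) _
    refine hvz (mem_of_odd_pow c.hyp.two (m := (1 - (l + l) * k).natAbs)
      (Int.natAbs_odd.2 ⟨-(l * k), by ring⟩) ?_)
    rcases Int.natAbs_eq (1 - (l + l) * k) with e | e <;> rw [e] at h2
    · rwa [zpow_natCast] at h2
    · rwa [zpow_neg, zpow_natCast, inv_mem_iff] at h2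
  set e := d ^ 2 with he
  have he2 : e ^ 2 = 1 := by rw [he, ← pow_mul]; exact hd4
  have heC : e ∈ Cf := pow_mem (show d ∈ Cf from hd) 2
  -- it suffices to commute with the fixed elements
  suffices hcomm : ∀ g ∈ Cf, Commute g e by
    refine mem_center_iff.2 fun g => ?_
    obtain ⟨x, hx, k, hk, rfl⟩ := hdecomp g
    exact ((hcm e heC x hx).symm.mul_left (hcomm k hk)).eq
  have hdc : ∀ g ∈ Cf, g * v * g⁻¹ = v → ∀ x ∈ U, Commute g x := by
    intro g _ hgv x hx
    obtain ⟨k, ε, rfl⟩ := hgen x hx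
    have hgv' : Commute g v := mul_inv_eq_iff_eq_mul.1 hgv
    exact (hgv'.zpow_right k).mul_right (haz ε g)
  by_cases hvz : v ∈ zpowers a
  · -- then `U` is the centre `⟨a⟩`
    intro g hg
    have hz : ∀ x ∈ U, ∀ h : P, Commute h x := fun x hx h => by
      obtain ⟨k, ε, rfl⟩ := hgen x hx
      obtain ⟨j, rfl⟩ := mem_zpowers_iff.1 hvz
      exact ((haz j h).zpow_right k).mul_right (haz ε h)
    exact hz e (hmemU e heC fun x hx => hz x hx e) g
  have hodd' := hodd hvz
  by_cases heU : e ∈ U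
  · intro g hg
    by_cases hv2 : v ^ 2 = 1
    · -- the group induces at most one involution on `U`
      by_cases hgU : g ∈ U
      · exact hUab g hgU e heU
      have h2 : ∀ h ∈ Cf, h ∉ U → h * v * h⁻¹ = v * a := by
        intro h hh hhU
        obtain ⟨α, ε, hα⟩ := hact h hh
        obtain ⟨l, rfl⟩ := hodd' h α ε hα
        rw [zpow_add, zpow_mul, zpow_ofNat, hv2, one_zpow, one_mul, zpow_one] at hα
        rcases Int.even_or_odd ε with hε | ⟨l', rfl⟩
        · rw [haeven ε hε, mul_one] at hα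
          exact absurd (hmemU h hh (hdc h hh hα)) hhU
        · rwa [zpow_add, zpow_one, haeven _ ⟨l', by ring⟩, one_mul] at hα
      by_cases hdU : d ∈ U
      · have : e = 1 := by
          obtain ⟨k, ε, hk⟩ := hgen d hdU
          rw [he, hk, Commute.mul_pow (haz ε _), ← zpow_natCast, ← zpow_natCast, ← zpow_mul, ← zpow_mul,
            Nat.cast_ofNat, mul_comm k, mul_comm ε, zpow_mul, zpow_mul, zpow_ofNat, zpow_ofNat, hv2,
            c.a_sq q, one_zpow, one_zpow, one_mul]
        rw [this]; exact Commute.one_right g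
      have hgd : (g⁻¹ * d) * v * (g⁻¹ * d)⁻¹ = v := by
        calc g⁻¹ * d * v * (g⁻¹ * d)⁻¹ = g⁻¹ * (d * v * d⁻¹) * g := by group
          _ = g⁻¹ * (g * v * g⁻¹) * g := by rw [h2 d hd hdU, h2 g hg hgU]
          _ = v := by group
      have hm : g⁻¹ * d ∈ Cf := mul_mem (inv_mem hg) hd
      have hmU := hmemU _ hm (hdc _ hm hgd)
      have h3 : Commute d e := (Commute.refl d).pow_right 2
      have h4 : Commute (g⁻¹ * d) e := hUab _ hmU e heU
      have := h4.mul_left h3.inv_left
      rw [mul_inv_cancel_right] at this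
      simpa using this.inv_left
    · -- the involutions of `U` are central
      obtain ⟨k, ε, hk⟩ := hgen e heU
      have h4 : v ^ (2 * k) = 1 := by
        have := he2
        rw [hk, Commute.mul_pow (haz ε _), ← zpow_natCast, ← zpow_natCast, ← zpow_mul, ← zpow_mul,
          haeven (ε * ((2 : ℕ) : ℤ)) ⟨ε, by push_cast; ring⟩, mul_one] at this
        rw [mul_comm]; exact_mod_cast this
      have hkev : Even k := by
        by_contra hko
        rw [Int.not_even_iff_odd] at hko
        obtain ⟨l, hl⟩ := hko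
        have : (v ^ 2) ^ (2 * l + 1).natAbs ∈ (⊥ : Subgroup P) := by
          rw [mem_bot]
          rcases Int.natAbs_eq (2 * l + 1) with e' | e'
          · rw [hl, e', zpow_mul] at h4
            exact_mod_cast h4
          · rw [hl, e', mul_neg, zpow_neg, inv_eq_one, zpow_mul] at h4
            exact_mod_cast h4
        exact hv2 (mem_bot.1 (mem_of_odd_pow c.hyp.two (Int.natAbs_odd.2 ⟨l, rfl⟩) this))
      obtain ⟨α, δ, hα⟩ := hact g hg
      obtain ⟨l, rfl⟩ := hodd' g α δ hα
      refine mul_inv_eq_iff_eq_mul.1 ?_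
      calc g * e * g⁻¹ = g * v ^ k * (a ^ ε * g⁻¹) := by rw [hk]; group
        _ = g * v ^ k * g⁻¹ * a ^ ε := by rw [← (haz ε g⁻¹).eq]; group
        _ = v ^ k * a ^ ε := by
          rw [← conj_zpow, hα, (haz δ (v ^ (2 * l + 1))).mul_zpow, ← zpow_mul, ← zpow_mul,
            haeven (δ * k) (hkev.mul_left δ), mul_one,
            show (2 * l + 1) * k = 2 * k * l + k by ring, zpow_add, zpow_mul, h4, one_zpow, one_mul]
        _ = e := hk.symm
  -- `e` outside `U` gives a normal elementary abelian subgroup of order eight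
  exfalso
  obtain ⟨α, ε, hα⟩ := hact d hd
  obtain ⟨b, rfl⟩ := hodd' d α ε hα
  obtain ⟨t, ht⟩ : ∃ t : ℤ, (2 * b + 1) * (2 * b + 1) = 8 * t + 1 := by
    obtain ⟨t, ht⟩ : Even (b * (b + 1)) := Int.even_mul_succ_self b
    exact ⟨t, by linear_combination 4 * ht⟩
  have hev : e * v * e⁻¹ = v ^ (8 * t + 1) := by
    rw [he, pow_two, show d * d * v * (d * d)⁻¹ = d * (d * v * d⁻¹) * d⁻¹ by group, hα,
      show d * (v ^ (2 * b + 1) * a ^ ε) * d⁻¹ = d * v ^ (2 * b + 1) * (a ^ ε * d⁻¹) by group,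
      ← (haz ε d⁻¹).eq, ← mul_assoc, ← conj_zpow, hα, (haz ε (v ^ (2 * b + 1))).mul_zpow,
      ← zpow_mul, ← zpow_mul, mul_assoc, ← zpow_add, haeven (ε * (2 * b + 1) + ε) ⟨ε * b + ε, by ring⟩,
      mul_one, ht]
  set w := v ^ (8 * t) with hw
  have hw2 : w ^ 2 = 1 := by
    have h1 : v ^ ((8 * t + 1) * (8 * t + 1)) = v := by
      calc v ^ ((8 * t + 1) * (8 * t + 1)) = (e * v * e⁻¹) ^ (8 * t + 1) := by rw [hev, zpow_mul]
        _ = e * v ^ (8 * t + 1) * e⁻¹ := conj_zpow
        _ = e ^ 2 * v * (e ^ 2)⁻¹ := by rw [← hev, pow_two]; group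
        _ = v := by rw [he2, one_mul, inv_one, mul_one]
    have h2 : (w ^ 2) ^ (4 * t + 1).natAbs ∈ (⊥ : Subgroup P) := by
      have h3 : v ^ (16 * t * (4 * t + 1)) = 1 := by
        rw [show 16 * t * (4 * t + 1) = (8 * t + 1) * (8 * t + 1) - 1 by ring, zpow_sub, h1, zpow_one,
          mul_inv_cancel]
      have h4 : w ^ 2 = v ^ (16 * t) := by
        rw [hw, ← zpow_natCast, ← zpow_mul]; congr 1; push_cast; ring
      rw [mem_bot, h4]
      rcases Int.natAbs_eq (4 * t + 1) with e' | e'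
      · rw [e', zpow_mul] at h3
        exact_mod_cast h3
      · rw [e', mul_neg, zpow_neg, inv_eq_one, zpow_mul] at h3
        exact_mod_cast h3
    exact mem_bot.1 (mem_of_odd_pow c.hyp.two (Int.natAbs_odd.2 ⟨2 * t, by ring⟩) h2)
  have hwU : w ∈ U := zpow_mem hv _
  have hdev : ∀ k ε' : ℤ, e * (v ^ k * a ^ ε') * e⁻¹ = w ^ k * (v ^ k * a ^ ε') := by
    intro k ε'
    rw [show e * (v ^ k * a ^ ε') * e⁻¹ = e * v ^ k * (a ^ ε' * e⁻¹) by group, ← (haz ε' e⁻¹).eq,
      ← mul_assoc, ← conj_zpow, hev, ← zpow_mul, show (8 * t + 1) * k = 8 * t * k + k by ring, zpow_add,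
      hw, ← zpow_mul, mul_assoc]
  have hw1 : w ≠ 1 := fun h1 => heU (hmemU e heC fun x hx => by
    obtain ⟨k, ε', rfl⟩ := hgen x hx
    have := hdev k ε'
    rw [h1, one_zpow, one_mul] at this
    exact mul_inv_eq_iff_eq_mul.1 this)
  -- involutions of `U` are central
  have hcW : ∀ x ∈ U, x ^ 2 = 1 → ∀ g : P, Commute g x := by
    intro x hx hx2
    obtain ⟨k, ε', rfl⟩ := hgen x hx
    have h2k : v ^ (2 * k) = 1 := by
      rw [Commute.mul_pow (haz ε' _), ← zpow_natCast, ← zpow_natCast, ← zpow_mul, ← zpow_mul,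
        haeven (ε' * ((2 : ℕ) : ℤ)) ⟨ε', by push_cast; ring⟩, mul_one] at hx2
      rw [mul_comm]; exact_mod_cast hx2
    have hkev : Even k := by
      by_contra hko
      rw [Int.not_even_iff_odd] at hko
      obtain ⟨l, rfl⟩ := hko
      refine hw1 ?_
      have h8 : (v ^ 2) ^ (2 * l + 1).natAbs ∈ (⊥ : Subgroup P) := by
        rw [mem_bot]
        rcases Int.natAbs_eq (2 * l + 1) with e' | e'
        · rw [e', zpow_mul] at h2k
          exact_mod_cast h2k
        · rw [e', mul_neg, zpow_neg, inv_eq_one, zpow_mul] at h2k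
          exact_mod_cast h2k
      have hv2 : v ^ (2 : ℤ) = 1 := by
        rw [zpow_ofNat]
        exact mem_bot.1 (mem_of_odd_pow c.hyp.two (Int.natAbs_odd.2 ⟨l, rfl⟩) h8)
      rw [hw, show 8 * t = 2 * (4 * t) by ring, zpow_mul, hv2, one_zpow]
    intro g
    obtain ⟨x', hx', m, hm, rfl⟩ := hdecomp g
    refine Commute.mul_left (hcm _ (hUC hx) x' hx').symm (mul_inv_eq_iff_eq_mul.1 ?_)
    obtain ⟨β, δ, hβ⟩ := hact m hm
    obtain ⟨l, rfl⟩ := hodd' m β δ hβ
    rw [show m * (v ^ k * a ^ ε') * m⁻¹ = m * v ^ k * (a ^ ε' * m⁻¹) by group, ← (haz ε' m⁻¹).eq,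
      ← mul_assoc, ← conj_zpow, hβ, (haz δ (v ^ (2 * l + 1))).mul_zpow, ← zpow_mul, ← zpow_mul,
      haeven (δ * k) (hkev.mul_left δ), mul_one, show (2 * l + 1) * k = 2 * k * l + k by ring, zpow_add,
      zpow_mul, h2k, one_zpow, one_mul]
  have hwc := hcW w hwU hw2
  -- conjugates of `e`
  have hge : ∀ g ∈ Cf, g * e * g⁻¹ * e⁻¹ ∈ U ∧ (g * e * g⁻¹ * e⁻¹) ^ 2 = 1 := by
    intro g hg
    obtain ⟨β, δ, hβ⟩ := hact g hg
    obtain ⟨l, rfl⟩ := hodd' g β δ hβ
    have hwodd : w ^ (2 * l + 1) = w := by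
      rw [zpow_add, zpow_mul, zpow_ofNat, hw2, one_zpow, one_mul, zpow_one]
    set z := g * e * g⁻¹ * e⁻¹ with hz
    have hzC : z ∈ Cf := mul_mem (mul_mem (mul_mem hg heC) (inv_mem hg)) (inv_mem heC)
    have hzU : z ∈ U := by
      refine hmemU z hzC (hdc z hzC ?_)
      obtain ⟨γ, η, hγ⟩ := hact g⁻¹ (inv_mem hg)
      obtain ⟨l', rfl⟩ := hodd' g⁻¹ γ η hγ
      have hwodd' : w ^ (2 * l' + 1) = w := by
        rw [zpow_add, zpow_mul, zpow_ofNat, hw2, one_zpow, one_mul, zpow_one]
      have h1 : g * e * g⁻¹ * v * (g * e * g⁻¹)⁻¹ = w * v := by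
        calc g * e * g⁻¹ * v * (g * e * g⁻¹)⁻¹ = g * (e * (g⁻¹ * v * g⁻¹⁻¹) * e⁻¹) * g⁻¹ := by group
          _ = g * (w * (g⁻¹ * v * g⁻¹⁻¹)) * g⁻¹ := by rw [hγ, hdev, hwodd']
          _ = g * w * g⁻¹ * v := by group
          _ = w * v := by rw [(hwc g).eq, mul_inv_cancel_right]
      have h2 : e⁻¹ * v * e = w * v := by
        rw [inv_eq_of_mul_eq_one_right (by rw [← pow_two]; exact he2 : e * e = 1)]
        calc e * v * e = e * v * e⁻¹ := by
              rw [inv_eq_of_mul_eq_one_right (by rw [← pow_two]; exact he2 : e * e = 1)]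
          _ = w * v := by rw [hev, zpow_add, zpow_one]
      calc z * v * z⁻¹ = g * e * g⁻¹ * (e⁻¹ * v * e) * (g * e * g⁻¹)⁻¹ := by rw [hz]; group
        _ = g * e * g⁻¹ * w * (g * e * g⁻¹)⁻¹ * (g * e * g⁻¹ * v * (g * e * g⁻¹)⁻¹) := by rw [h2]; group
        _ = w * (w * v) := by rw [(hwc _).eq, mul_inv_cancel_right, h1]
        _ = v := by rw [← mul_assoc, ← pow_two, hw2, one_mul]
    refine ⟨hzU, ?_⟩
    have hz2 : z * e * (z * e) = 1 := by
      rw [hz, inv_mul_cancel_right, ← pow_two, conj_pow, he2, mul_one, mul_inv_cancel]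
    obtain ⟨k, η, hk⟩ := hgen z hzU
    have h3 : w ^ k * (z * z) = 1 := by
      have h4 := hdev k η
      rw [← hk, inv_eq_of_mul_eq_one_right (by rw [← pow_two]; exact he2 : e * e = 1)] at h4
      calc w ^ k * (z * z) = z * (w ^ k * z) := (((hwc z).zpow_right k).left_comm z).symm
        _ = z * (e * z * e) := by rw [h4]
        _ = z * e * (z * e) := by group
        _ = 1 := hz2
    rcases Int.even_or_odd k with ⟨l1, hl⟩ | ⟨l1, hl⟩
    · rwa [hl, ← two_mul, zpow_mul, zpow_ofNat, hw2, one_zpow, one_mul, ← pow_two] at h3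
    · exfalso
      rw [hl, zpow_add, zpow_mul, zpow_ofNat, hw2, one_zpow, one_mul, zpow_one, ← pow_two] at h3
      -- `z` and `v ^ (4 t)` differ by an involution
      have hy : (v ^ (4 * t)) ^ 2 = w := by rw [hw, ← zpow_natCast, ← zpow_mul]; congr 1; push_cast; ring
      have hzw : z ^ 2 = w := by
        rw [eq_inv_of_mul_eq_one_right h3]
        exact inv_eq_of_mul_eq_one_right (by rw [← pow_two]; exact hw2)
      set o := z * (v ^ (4 * t))⁻¹ with ho
      have hoU : o ∈ U := mul_mem hzU (inv_mem (zpow_mem hv _))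
      have ho2 : o ^ 2 = 1 := by
        rw [ho, Commute.mul_pow (hUab _ hzU _ (inv_mem (zpow_mem hv _)) : Commute _ _), inv_pow, hy, hzw,
          mul_inv_cancel]
      have h5 : e * o * e⁻¹ = o := by rw [(hcW o hoU ho2 e).eq, mul_inv_cancel_right]
      have h6 : e * v ^ (4 * t) * e⁻¹ = v ^ (4 * t) := by
        have := hdev (4 * t) 0
        rw [zpow_zero, mul_one] at this
        rw [this, show w ^ (4 * t) = 1 by
          rw [show 4 * t = 2 * (2 * t) by ring, zpow_mul, zpow_ofNat, hw2, one_zpow], one_mul]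
      have h7 : e * z * e⁻¹ = z := by
        rw [show z = o * v ^ (4 * t) by rw [ho, inv_mul_cancel_right],
          show e * (o * v ^ (4 * t)) * e⁻¹ = e * o * e⁻¹ * (e * v ^ (4 * t) * e⁻¹) by group, h5, h6]
      have h8 := hdev k η
      rw [← hk, h7, right_eq_mul, hl, zpow_add, zpow_mul, zpow_ofNat, hw2, one_zpow, one_mul,
        zpow_one] at h8
      exact hw1 h8
  have hgy : ∀ g ∈ Cf, (g * v ^ (4 * t) * g⁻¹ * (v ^ (4 * t))⁻¹) ^ 2 = 1 := fun g _ => by
    have hy : (v ^ (4 * t)) ^ 2 = w := by rw [hw, ← zpow_natCast, ← zpow_mul]; congr 1; push_cast; ring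
    rw [Commute.mul_pow (hUab _ (hUn.conj_mem _ (zpow_mem hv _) g) _ (inv_mem (zpow_mem hv _)) :
      Commute _ _), conj_pow, inv_pow, hy, (hwc g).eq, mul_inv_cancel_right, mul_inv_cancel]
  -- the elementary abelian group
  set S0 : Set P := {x | x ∈ U ∧ x ^ 2 = 1} ∪ {e} with hS0
  have hS0c : ∀ x ∈ S0, ∀ y ∈ S0, x * y = y * x := by
    rintro x (⟨hx, hx2⟩ | hx) y (⟨hy, hy2⟩ | hy)
    · exact hUab x hx y hy
    · exact (hcW x hx hx2 y).eq.symm
    · exact (hcW y hy hy2 x).eq
    · rw [Set.mem_singleton_iff.1 hx, Set.mem_singleton_iff.1 hy]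
  have hS02 : ∀ x ∈ S0, x ^ 2 = 1 := by
    rintro x (⟨-, hx⟩ | hx)
    · exact hx
    · rw [Set.mem_singleton_iff.1 hx]; exact he2
  have hS0n : ∀ g : P, ∀ x ∈ S0, g * x * g⁻¹ ∈ closure S0 := by
    rintro g x (⟨hx, hx2⟩ | hx)
    · rw [(hcW x hx hx2 g).eq, mul_inv_cancel_right]; exact subset_closure (Or.inl ⟨hx, hx2⟩)
    · rw [Set.mem_singleton_iff.1 hx]
      obtain ⟨x', hx', k, hk, rfl⟩ := hdecomp g
      obtain ⟨hzU, hz2⟩ := hge k hk
      have hm : k * e * k⁻¹ ∈ Cf := mul_mem (mul_mem hk heC) (inv_mem hk)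
      rw [show x' * k * e * (x' * k)⁻¹ = x' * (k * e * k⁻¹) * x'⁻¹ by group, ← (hcm _ hm x' hx').eq,
        mul_inv_cancel_right, show k * e * k⁻¹ = k * e * k⁻¹ * e⁻¹ * e by group]
      exact mul_mem (subset_closure (Or.inl ⟨hzU, hz2⟩)) (subset_closure (Or.inr rfl))
  set W := omega U hUab with hW
  haveI hWn : W.Normal := ⟨fun x hx g => ⟨hUn.conj_mem x hx.1 g, by
    rw [conj_pow, hx.2, mul_one, mul_inv_cancel]⟩⟩
  have heW : e ∉ W := fun h => heU h.1
  have h5 := card_sup_invol heW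
  have hle : W ⊔ zpowers e ≤ closure S0 :=
    sup_le (fun x hx => subset_closure (Or.inl hx)) (zpowers_le.2 (subset_closure (Or.inr rfl)))
  by_cases hwa : w = a
  · set y := v ^ (4 * t) with hy
    have hy2 : y ^ 2 = a := by
      rw [hy, ← hwa, hw, ← zpow_natCast, ← zpow_mul]; congr 1; push_cast; ring
    have hyU : y ∈ U := zpow_mem hv _
    have hiy : Commute i y := (hcm y (hUC hyU) i hi).symm
    have hey : Commute e y := by
      have := hdev (4 * t) 0
      rw [zpow_zero, mul_one] at this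
      refine mul_inv_eq_iff_eq_mul.1 (this.trans ?_)
      rw [show w ^ (4 * t) = 1 by
        rw [show 4 * t = 2 * (2 * t) by ring, zpow_mul, zpow_ofNat, hw2, one_zpow], one_mul]
    refine c.hyp.false_of_gens (S := S0 ∪ {i * y}) ?_ ?_ ?_ ?_
    · have h1 : ∀ x ∈ S0, Commute x (i * y) := by
        rintro x (⟨hx, -⟩ | hx)
        · exact (hcm x (hUC hx) i hi).mul_right (hUab x hx y hyU)
        · rw [Set.mem_singleton_iff.1 hx]; exact (hcm e heC i hi).mul_right hey
      rintro x (hx | hx) z (hz | hz)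
      · exact hS0c x hx z hz
      · rw [Set.mem_singleton_iff.1 hz]; exact (h1 x hx).eq
      · rw [Set.mem_singleton_iff.1 hx]; exact (h1 z hz).eq.symm
      · rw [Set.mem_singleton_iff.1 hx, Set.mem_singleton_iff.1 hz]
    · rintro x (hx | hx)
      · exact hS02 x hx
      · rw [Set.mem_singleton_iff.1 hx, hiy.mul_pow, hi2, hy2, ← pow_two, c.a_sq q]
    · rintro g x (hx | hx)
      · exact closure_mono Set.subset_union_left (hS0n g x hx)
      · rw [Set.mem_singleton_iff.1 hx]
        obtain ⟨x', hx', k, hk, rfl⟩ := hdecomp g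
        have hk' : k * y * k⁻¹ ∈ U := hUn.conj_mem y hyU k
        set z := k * y * k⁻¹ * y⁻¹ with hz
        have hzU : z ∈ U := mul_mem hk' (inv_mem hyU)
        have hz2 : z ^ 2 = 1 := hgy k hk
        have hbr : br x' i ∈ closure (S0 ∪ {i * y}) := by
          rcases (q.zmem _).1 (c.toCentral.br_mem hx' hi) with e' | e' <;> rw [e']
          · exact one_mem _
          · exact subset_closure (Or.inl (Or.inl ⟨haU, c.a_sq q⟩))
        have hki : k * i * k⁻¹ = i := by rw [(hcm k hk i hi).eq, mul_inv_cancel_right]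
        have hxk : x' * (k * y * k⁻¹) * x'⁻¹ = k * y * k⁻¹ := by
          rw [← (hcm _ (hUC hk') x' hx').eq, mul_inv_cancel_right]
        have : x' * k * (i * y) * (x' * k)⁻¹ = br x' i * z * (i * y) := by
          calc x' * k * (i * y) * (x' * k)⁻¹
              = x' * (k * i * k⁻¹) * x'⁻¹ * (x' * (k * y * k⁻¹) * x'⁻¹) := by group
            _ = br x' i * i * z * y := by rw [hki, hxk, br, hz]; group
            _ = br x' i * z * (i * y) := by
              rw [mul_assoc (br x' i) i, (hcm z (hUC hzU) i hi).symm.eq]; simp only [mul_assoc]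
        rw [this]
        exact mul_mem (mul_mem hbr (subset_closure (Or.inl (Or.inl ⟨hzU, hz2⟩))))
          (subset_closure (Or.inr rfl))
    · haveI : (W ⊔ zpowers e).Normal := by
        refine ⟨fun x hx g => ?_⟩
        have hcl : closure S0 ≤ W ⊔ zpowers e := (closure_le _).2 fun z hz => by
          rcases hz with hz | hz
          · exact mem_sup_left hz
          · rw [Set.mem_singleton_iff.1 hz]; exact mem_sup_right (mem_zpowers e)
        refine hcl ?_
        have hx' : x ∈ closure S0 := hle hx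
        clear hx
        induction hx' using closure_induction with
        | mem x hx => exact hS0n g x hx
        | one => rw [mul_one, mul_inv_cancel]; exact one_mem _
        | mul x y _ _ ex ey =>
          rw [show g * (x * y) * g⁻¹ = g * x * g⁻¹ * (g * y * g⁻¹) by group]
          exact mul_mem ex ey
        | inv x _ ex =>
          rw [show g * x⁻¹ * g⁻¹ = (g * x * g⁻¹)⁻¹ by group]; exact inv_mem ex
      have hiyC : i * y ∉ W ⊔ zpowers e := fun h => hiC (by
        have h' : i * y ∈ Cf := (sup_le (fun x hx => hUC hx.1) (zpowers_le.2 heC)) h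
        have := mul_mem h' (inv_mem (hUC hyU))
        rwa [mul_inv_cancel_right] at this)
      have h6 := card_sup_invol hiyC
      have h7 := card_le_of_le (show W ⊔ zpowers e ⊔ zpowers (i * y) ≤ closure (S0 ∪ {i * y}) from
        sup_le (hle.trans (closure_mono Set.subset_union_left))
          (zpowers_le.2 (subset_closure (Or.inr rfl))))
      have h8 : 2 ≤ Nat.card W := by
        haveI : Nontrivial W := ⟨⟨⟨a, haU, c.a_sq q⟩, 1, fun h => q.ne (congrArg Subtype.val h)⟩⟩
        exact Finite.one_lt_card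
      omega
  · refine c.hyp.false_of_gens hS0c hS02 hS0n ?_
    have h7 := card_le_of_le hle
    have h8 : 3 ≤ Nat.card W := by
      have h3 : ({1, a, w} : Finset P).card = 3 := by
        rw [Finset.card_insert_of_notMem, Finset.card_pair (Ne.symm hwa)]
        simp only [Finset.mem_insert, Finset.mem_singleton, not_or]
        exact ⟨q.ne.symm, hw1.symm⟩
      rw [← h3, ← Nat.card_eq_finsetCard]
      refine Nat.card_le_card_of_injective (fun k => ⟨k.1, ?_⟩) fun k l e' =>
        Subtype.ext (id (congrArg Subtype.val e' :))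
      have := k.2
      simp only [Finset.mem_insert, Finset.mem_singleton] at this
      rcases this with e' | e' | e' <;> rw [e']
      exacts [one_mem _, ⟨haU, c.a_sq q⟩, ⟨hwU, hw2⟩]
    omega

end FixedCentre

/-- A quaternion moved subgroup with fixed central involutions does not occur in a simple group. -/
theorem quat_false {G : Type*} [Group G] [Finite G] [IsSimpleGroup G] (hna : ¬ IsMulCommutative G)
    (T : Sylow 2 G) (φ : MulAut ↥T) (c : FixedCentre φ) {a : ↥T} (q : Quat φ a)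
    (hfixN : ∀ g : G, g ∈ Subgroup.normalizer ((T : Subgroup G) : Set G) →
      ∀ e ∈ Subgroup.center ↥T, e ^ 2 = 1 → g * (e : G) * g⁻¹ = e) : False := by
  classical
  haveI : Fact (Nat.Prime 2) := ⟨Nat.prime_two⟩
  have ha2 := c.a_sq q
  have hcen : ∀ z : ↥T, z ∈ center ↥T → (z : G) ∈ centralizer ((T : Subgroup G) : Set G) :=
    fun z hz => mem_centralizer_iff.2 fun p hp =>
      congrArg Subtype.val (mem_center_iff.1 hz ⟨p, hp⟩)
  refine false_of_isolated hna T (a := (a : G)) (congrArg Subtype.val ha2)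
    (fun e => q.ne (Subtype.ext e)) fun g₀ hg₀ => ?_
  set u : ↥T := ⟨g₀ * a * g₀⁻¹, hg₀⟩ with hu
  obtain ⟨k, hk, hxk⟩ := c.hyp.exists_fixed_mul u
  set x' := u * k⁻¹ with hx'
  -- an element of order four of the moved subgroup commuting with `u`
  obtain ⟨x, hx, hx2, hxu⟩ : ∃ x ∈ moved φ, x ^ 2 = a ∧ Commute x u := by
    have hu' : u = x' * k := (inv_mul_cancel_right u k).symm
    by_cases hz : x' ∈ zc φ
    · obtain ⟨i, hi, -, hi2⟩ := c.exists_quarter q
      refine ⟨i, hi, hi2, ?_⟩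
      rw [hu']
      exact (zc_comm hz hi).symm.mul_right (c.fixed_comm_moved q hk hi).symm
    · refine ⟨x', hxk, q.sq x' hxk hz, ?_⟩
      rw [hu']
      exact (Commute.refl x').mul_right (c.fixed_comm_moved q hk hxk).symm
  obtain ⟨g, hgu, hgT⟩ := exists_conj_centralizer T (a := (a : G)) (u := (u : G)) (g₀ := g₀⁻¹)
    (hcen a q.central) (by show g₀⁻¹ * (g₀ * (a : G) * g₀⁻¹) * g₀⁻¹⁻¹ = (a : G); group)
  set y : ↥T := ⟨g * x * g⁻¹, hgT x x.2 (congrArg Subtype.val hxu)⟩ with hy
  have hy2 : ((y ^ 2 : ↥T) : G) = g * (a : G) * g⁻¹ := by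
    show (g * (x : G) * g⁻¹) ^ 2 = g * (a : G) * g⁻¹
    rw [conj_pow, show (x : G) ^ 2 = a from congrArg Subtype.val hx2]
  have hy4 : (y ^ 2) ^ 2 = 1 := Subtype.ext (by
    show ((y ^ 2 : ↥T) : G) ^ 2 = 1
    rw [hy2, conj_pow, show (a : G) ^ 2 = 1 from congrArg Subtype.val ha2, mul_one, mul_inv_cancel])
  -- the square of `y` is central
  have hyc : y ^ 2 ∈ center ↥T := by
    obtain ⟨l, hl, hyl⟩ := c.hyp.exists_fixed_mul y
    set x'' := y * l⁻¹
    have hcl : Commute l x'' := c.fixed_comm_moved q hl hyl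
    have hy' : y = x'' * l := (inv_mul_cancel_right y l).symm
    have hsq : x'' ^ 2 = 1 ∨ x'' ^ 2 = a := by
      by_cases hz : x'' ∈ zc φ
      · exact Or.inl (c.el _ hz)
      · exact Or.inr (q.sq _ hyl hz)
    have hxc : x'' ^ 2 ∈ center ↥T := by
      rcases hsq with e | e <;> rw [e]
      · exact one_mem _
      · exact q.central
    have hl4 : l ^ 4 = 1 := by
      have h := hy4
      rw [hy', hcl.symm.mul_pow, (mem_center_iff.1 hxc (l ^ 2)).symm |> Commute.mul_pow] at h
      rw [show (x'' ^ 2) ^ 2 = 1 by rcases hsq with e | e <;> rw [e] <;> simp [ha2], one_mul,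
        ← pow_mul] at h
      exact h
    rw [hy', hcl.symm.mul_pow]
    exact mul_mem hxc (c.sq_central q hl hl4)
  obtain ⟨n, hn, hne⟩ := Sylow.conj_eq_normalizer_conj_of_mem_centralizer T (a : G) g⁻¹
    (hcen a q.central) (by rw [inv_inv, ← hy2]; exact hcen _ hyc)
  rw [inv_inv] at hne
  have h1 := hfixN n⁻¹ (inv_mem hn) a q.central ha2
  rw [inv_inv] at h1
  have h2 : (u : G) = a := mul_left_cancel (mul_right_cancel (hgu.trans (hne.trans h1).symm))
  exact h2

end Quaternion

end CfsgLib.NormalRankTwo
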