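import Cfsg.Agent.NormalRankTwo.Basic
import Cfsg.Agent.ScnThree.Module
import Cfsg.Agent.Invol.ThompsonTransfer
import Cfsg.Agent.S0949
import Mathlib.GroupTheory.Abelianization.Defs

/-!
The moved subgroup `X` is abelian, the automorphism has no fixed points on it and its involutions
are central: `X` is homocyclic of rank two, the fixed elements are at most one involution inverting
`X` modulo its involutions, and in a simple group the Sylow 2-subgroup is a four-group.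
-/

set_option autoImplicit false
set_option linter.unusedSectionVars false
set_option linter.style.haveILetI false

namespace CfsgLib.NormalRankTwo

open Subgroup

/-! ### Homocyclic groups with a rotation: endomorphisms commuting with it -/

section Rotation

variable {M : Type*} [CommGroup M] [Finite M] {τ : M ≃* M} (R : CfsgLib.ScnThree.Rot3 τ) {n : ℕ}
  (hn : CfsgLib.ScnThree.Expo M n) {r : M} (hr : r ^ (2 ^ n) ≠ 1)

include R hn hr

theorem zero_iff {i j : ℤ} (h : r ^ i * τ r ^ j = 1) :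
    (2 ^ (n + 1) : ℤ) ∣ i ∧ (2 ^ (n + 1) : ℤ) ∣ j := by
  set e := r ^ (2 ^ n) with he
  have he2 : e ^ 2 = 1 := by rw [he, ← pow_mul, ← pow_succ]; exact hn.1 r
  have hτe1 : τ e ≠ 1 := fun h' => hr (τ.injective (by rw [h', map_one]))
  have hτe2 : τ e ^ 2 = 1 := by rw [← map_pow, he2, map_one]
  have hne : τ e ≠ e := fun h' => hr (R.fixed e h')
  have heven : ∀ a b : ℤ, e ^ a * τ e ^ b = 1 → Even a ∧ Even b := by
    intro a b hab
    have hz : ∀ (x : M), x ^ 2 = 1 → ∀ k : ℤ, x ^ k = if Even k then 1 else x := by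
      intro x hx k
      rcases Int.even_or_odd k with ⟨t, rfl⟩ | ⟨t, rfl⟩
      · rw [if_pos ⟨t, rfl⟩, ← two_mul, zpow_mul, zpow_ofNat, hx, one_zpow]
      · rw [if_neg (Int.not_even_two_mul_add_one t), zpow_add, zpow_mul, zpow_ofNat, hx, one_zpow,
          one_mul, zpow_one]
    rw [hz e he2, hz _ hτe2] at hab
    split_ifs at hab with ha hb hb
    · exact ⟨ha, hb⟩
    · rw [one_mul] at hab; exact absurd hab hτe1
    · rw [mul_one] at hab; exact absurd hab hr
    · refine absurd ?_ hne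
      calc τ e = e * e * τ e := by rw [← pow_two, he2, one_mul]
        _ = e := by rw [mul_assoc, hab, mul_one]
  have key : ∀ a, a ≤ n + 1 → (2 ^ a : ℤ) ∣ i ∧ (2 ^ a : ℤ) ∣ j := by
    intro a
    induction a with
    | zero => simp
    | succ a ih =>
      intro ha
      obtain ⟨⟨i', rfl⟩, ⟨j', rfl⟩⟩ := ih (by omega)
      obtain ⟨b, hb⟩ := Nat.exists_eq_add_of_le (show a ≤ n by omega)
      have hpow : ∀ (x : M) (k : ℤ), (x ^ ((2 : ℤ) ^ a * k)) ^ (2 ^ b) = (x ^ (2 ^ n)) ^ k := by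
        intro x k
        rw [hb, ← zpow_natCast, ← zpow_mul, ← zpow_natCast x, ← zpow_mul]
        congr 1
        push_cast
        ring
      have h1 := congrArg (fun x => x ^ (2 ^ b)) h
      simp only [mul_pow, one_pow, hpow] at h1
      rw [← he, show τ r ^ (2 ^ n) = τ e by rw [he, map_pow]] at h1
      obtain ⟨⟨s, hs⟩, ⟨t, ht⟩⟩ := heven _ _ h1
      exact ⟨⟨s, by rw [hs, pow_succ]; ring⟩, ⟨t, by rw [ht, pow_succ]; ring⟩⟩
  exact key (n + 1) le_rfl

/-- An endomorphism commuting with the rotation is given by two exponents. -/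
theorem endo_eq (D : M →* M) (hD : ∀ y, D (τ y) = τ (D y)) :
    ∃ α β : ℤ, ∀ y, D y = y ^ α * τ y ^ β := by
  let f : (i : ℤ) → (j : ℤ) → M →* M := fun i j =>
    zpowGroupHom i * (zpowGroupHom j).comp τ.toMonoidHom
  let g : Multiplicative (ℤ × ℤ) →* M := MonoidHom.mk'
    (fun p => r ^ (Multiplicative.toAdd p).1 * τ r ^ (Multiplicative.toAdd p).2) fun p q => by
      simp only [toAdd_mul, Prod.fst_add, Prod.snd_add, zpow_add]
      rw [mul_mul_mul_comm]
  have hg : g.range = ⊤ := R.gen hn r hr g.range ⟨Multiplicative.ofAdd (1, 0), by simp [g]⟩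
    ⟨Multiplicative.ofAdd (0, 1), by simp [g]⟩
  obtain ⟨p, hp⟩ := hg.ge (mem_top (D r))
  refine ⟨(Multiplicative.toAdd p).1, (Multiplicative.toAdd p).2, fun y => ?_⟩
  have htop : D.eqLocus (f (Multiplicative.toAdd p).1 (Multiplicative.toAdd p).2) = ⊤ := by
    refine R.gen hn r hr _ hp.symm ?_
    show D (τ r) = τ r ^ (Multiplicative.toAdd p).1 * τ (τ r) ^ (Multiplicative.toAdd p).2
    rw [hD, ← hp]
    simp [g, map_mul, map_zpow]
  exact htop.ge (mem_top y)

/-- Composition of two endomorphisms given by exponents. -/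
theorem comp_apply (a b c d : ℤ) :
    (r ^ c * τ r ^ d) ^ a * τ (r ^ c * τ r ^ d) ^ b =
      r ^ (a * c - b * d) * τ r ^ (a * d + b * c - b * d) := by
  have h1 : τ (r ^ c * τ r ^ d) = r ^ (-d) * τ r ^ (c - d) := by
    rw [map_mul, map_zpow, map_zpow, R.tt r, inv_zpow', mul_zpow, mul_left_comm, ← zpow_add]
    congr 2
  rw [h1, mul_zpow, mul_zpow, ← zpow_mul, ← zpow_mul, ← zpow_mul, ← zpow_mul, mul_mul_mul_comm,
    ← zpow_add, ← zpow_add]
  congr 2 <;> ring

end Rotation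

/-- Arithmetic of the involutory endomorphisms. -/
theorem exponent_cases {n : ℕ} (hn : 1 ≤ n) {α β : ℤ} (hα : Odd α) (hβ : Even β)
    (h1 : (2 ^ (n + 1) : ℤ) ∣ α * α - β * β - 1) (h2 : (2 ^ (n + 1) : ℤ) ∣ β * (2 * α - β)) :
    (2 ^ n : ℤ) ∣ β ∧ ((2 ^ n : ℤ) ∣ α - 1 ∨ (2 ^ n : ℤ) ∣ α + 1) := by
  obtain ⟨b, rfl⟩ := hβ
  obtain ⟨m, rfl⟩ : ∃ m, n = m + 1 := ⟨n - 1, by omega⟩
  obtain ⟨a, rfl⟩ := hα
  rcases Nat.eq_zero_or_pos m with rfl | hm
  · exact ⟨⟨b, by ring⟩, Or.inl ⟨a, by ring⟩⟩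
  have h2' : (2 ^ m : ℤ) ∣ b * (2 * a + 1 - b) := by
    have h : (4 : ℤ) * 2 ^ m ∣ 4 * (b * (2 * a + 1 - b)) := by
      have e1 : (2 : ℤ) ^ (m + 1 + 1) = 4 * 2 ^ m := by rw [pow_succ, pow_succ]; ring
      rw [← e1, show 4 * (b * (2 * a + 1 - b)) = (b + b) * (2 * (2 * a + 1) - (b + b)) by ring]
      exact h2
    exact Int.dvd_of_mul_dvd_mul_left (by norm_num) h
  have hb : Even b := by
    by_contra hb
    rw [Int.not_even_iff_odd] at hb
    obtain ⟨b', rfl⟩ := hb
    have h8 : (8 : ℤ) ∣ (2 * a + 1) * (2 * a + 1) - (2 * b' + 1 + (2 * b' + 1)) * (2 * b' + 1 + (2 * b' + 1)) - 1 :=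
      (show (8 : ℤ) ∣ 2 ^ (m + 1 + 1) from
        ⟨2 ^ (m - 1), by
          rw [show (8 : ℤ) = 2 ^ 3 by norm_num, ← pow_add]
          congr 1
          omega⟩).trans h1
    obtain ⟨s, hs⟩ : Even (a * (a + 1)) := Int.even_mul_succ_self a
    obtain ⟨t, ht⟩ : Even (b' * (b' + 1)) := Int.even_mul_succ_self b'
    have : (8 : ℤ) ∣ 4 := by
      have e : (2 * a + 1) * (2 * a + 1) -
          (2 * b' + 1 + (2 * b' + 1)) * (2 * b' + 1 + (2 * b' + 1)) - 1 =
          4 * (a * (a + 1)) - 16 * (b' * (b' + 1)) - 4 := by ring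
      rw [e, hs, ht] at h8
      have h' : (8 : ℤ) ∣ 4 * (s + s) - 16 * (t + t) := ⟨s - 4 * t, by ring⟩
      have := Int.dvd_sub h' h8
      rwa [sub_sub_cancel] at this
    norm_num at this
  have hu : IsCoprime (2 ^ m : ℤ) (2 * a + 1 - b) := by
    refine IsCoprime.pow_left ?_
    obtain ⟨c, rfl⟩ := hb
    exact ⟨c - a, 1, by ring⟩
  have hb2 : (2 ^ m : ℤ) ∣ b := hu.dvd_of_dvd_mul_right h2'
  refine ⟨by rw [pow_succ]; obtain ⟨q, rfl⟩ := hb2; exact ⟨q, by ring⟩, ?_⟩
  obtain ⟨q, rfl⟩ := hb2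
  have h3 : (2 ^ m : ℤ) ∣ a * (a + 1) := by
    have hbb : (2 ^ (m + 1 + 1) : ℤ) ∣ (2 ^ m * q + 2 ^ m * q) * (2 ^ m * q + 2 ^ m * q) := by
      refine ⟨2 ^ m * (q * q), ?_⟩
      rw [pow_succ, pow_succ]; ring
    have h4 := Int.dvd_add h1 hbb
    rw [show (2 * a + 1) * (2 * a + 1) -
      (2 ^ m * q + 2 ^ m * q) * (2 ^ m * q + 2 ^ m * q) - 1 +
      (2 ^ m * q + 2 ^ m * q) * (2 ^ m * q + 2 ^ m * q) = 4 * (a * (a + 1)) by ring,
      show (2 : ℤ) ^ (m + 1 + 1) = 4 * 2 ^ m by rw [pow_succ, pow_succ]; ring] at h4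
    exact Int.dvd_of_mul_dvd_mul_left (by norm_num) h4
  rcases Int.even_or_odd a with ⟨c, hc⟩ | ⟨c, hc⟩
  · left
    have : IsCoprime (2 ^ m : ℤ) (a + 1) := IsCoprime.pow_left ⟨-c, 1, by rw [hc]; ring⟩
    obtain ⟨d, hd⟩ := this.dvd_of_dvd_mul_right h3
    exact ⟨d, by rw [hd, pow_succ]; ring⟩
  · right
    have : IsCoprime (2 ^ m : ℤ) a := IsCoprime.pow_left ⟨-c, 1, by rw [hc]; ring⟩
    obtain ⟨d, hd⟩ := this.dvd_of_dvd_mul_left h3
    exact ⟨d, by rw [pow_succ]; linear_combination 2 * hd⟩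

/-- Minus one is not the square of an endomorphism modulo four. -/
theorem not_square_neg {n : ℕ} (hn : 2 ≤ n) {α β γ δ : ℤ} (hα : (2 ^ n : ℤ) ∣ α + 1)
    (hβ : (2 ^ n : ℤ) ∣ β) (h1 : (2 ^ (n + 1) : ℤ) ∣ γ * γ - δ * δ - α)
    (h2 : (2 ^ (n + 1) : ℤ) ∣ δ * (2 * γ - δ) - β) : False := by
  have key : ∀ c d : ZMod 4, c * c - d * d + 1 = 0 → d * (2 * c - d) = 0 → False := by decide
  have h4 : ∀ {x : ℤ} {k : ℕ}, 2 ≤ k → (2 ^ k : ℤ) ∣ x → (x : ZMod 4) = 0 := by
    intro x k hk hx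
    refine (ZMod.intCast_zmod_eq_zero_iff_dvd _ 4).2 ((?_ : ((4 : ℕ) : ℤ) ∣ 2 ^ k).trans hx)
    exact ⟨2 ^ (k - 2), by
      rw [show ((4 : ℕ) : ℤ) = 2 ^ 2 by norm_num, ← pow_add]; congr 1; omega⟩
  have a0 := h4 hn hα
  have b0 := h4 hn hβ
  have e1 := h4 (show 2 ≤ n + 1 by omega) h1
  have e2 := h4 (show 2 ≤ n + 1 by omega) h2
  push_cast at a0 e1 e2
  refine key (γ : ZMod 4) (δ : ZMod 4) ?_ ?_
  · linear_combination e1 + a0
  · linear_combination e2 + b0

/-! ### The shape of the 2-group -/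

section Shape

variable {P : Type*} [Group P] [Finite P] {φ : MulAut P}

/-- The shape: a four-group, homocyclic, or extended by an involution inverting modulo four. -/
theorem homocyclic_shape (h : Hyp φ) (hab : ∀ a ∈ moved φ, ∀ b ∈ moved φ, a * b = b * a)
    (hne : moved φ ≠ ⊥) (hfix : ∀ x ∈ moved φ, φ x = x → x = 1)
    (hV : ∀ x ∈ moved φ, x ^ 2 = 1 → x ∈ center P)
    (hcent : ∀ e ∈ center P, e ^ 2 = 1 → e ∈ moved φ) :
    Nat.card P = 4 ∨
    (∃ m : ℕ, 2 ≤ m ∧ Nonempty (P ≃* Multiplicative (ZMod (2 ^ m) × ZMod (2 ^ m)))) ∨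
    (∃ c : P, c ^ 2 = 1 ∧ c ∉ moved φ ∧ (∀ p : P, p ∈ moved φ ∨ p * c ∈ moved φ) ∧
      (∀ x ∈ moved φ, x ^ 4 = 1 → c * x * c⁻¹ = x⁻¹) ∧
      (∀ v ∈ moved φ, v ^ 2 = 1 → ∃ y ∈ moved φ, y ^ 4 = 1 ∧ y ^ 2 = v) ∧
      Nat.card {x : P // x ∈ moved φ ∧ x ^ 2 = 1} = 4) := by
  classical
  haveI : Fact (Nat.Prime 2) := ⟨Nat.prime_two⟩
  set X := moved φ with hX
  have hXi := moved_inv φ
  haveI := hXi.nrm
  -- the involutions
  let V : Subgroup P :=
    { carrier := {x | x ∈ X ∧ x ^ 2 = 1}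
      one_mem' := ⟨one_mem _, one_pow 2⟩
      mul_mem' := fun {a b} ha hb => ⟨mul_mem ha.1 hb.1, by
        rw [Commute.mul_pow (hab a ha.1 b hb.1), ha.2, hb.2, one_mul]⟩
      inv_mem' := fun {a} ha => ⟨inv_mem ha.1, by rw [inv_pow, ha.2, inv_one]⟩ }
  have hVn : V.Normal := ⟨fun v hv g => by
    rw [mem_center_iff.1 (hV v hv.1 hv.2) g, mul_inv_cancel_right]; exact hv⟩
  have hVc : IsMulCommutative V := ⟨⟨fun a b => Subtype.ext (hab _ a.2.1 _ b.2.1)⟩⟩
  have hV4 : Nat.card V ≤ 4 := h.small V hVn hVc fun a ha => ha.2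
  obtain ⟨e₀, he₀, he₀1⟩ : ∃ e ∈ V, e ≠ 1 := by
    haveI := (X.nontrivial_iff_ne_bot).2 hne
    obtain ⟨k, hk⟩ := (h.two.to_subgroup X).exists_card_eq
    obtain ⟨e, he⟩ := exists_prime_orderOf_dvd_card' (G := X) 2 (by
      rw [hk]
      refine dvd_pow_self 2 fun h0 => ?_
      rw [h0, pow_zero] at hk
      exact (Finite.one_lt_card (α := X)).ne' hk)
    refine ⟨e, ⟨e.2, ?_⟩, fun e1 => ?_⟩
    · rw [← Subgroup.coe_pow, ← he, pow_orderOf_eq_one, Subgroup.coe_one]
    · rw [show e = 1 from Subtype.ext e1, orderOf_one] at he; omega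
  have hφV : ∀ e ∈ V, φ e ∈ V := fun e he =>
    ⟨hXi.inv e he.1, by rw [← map_pow, he.2, map_one]⟩
  have hcases : ∀ e ∈ V, e ≠ 1 → (∀ y ∈ V, y = 1 ∨ y = e ∨ y = φ e ∨ y = φ (φ e)) ∧
      φ e ≠ e ∧ φ (φ e) ≠ e ∧ Nat.card V = 4 := by
    intro e he he1
    have h1 : φ e ≠ e := fun e' => he1 (hfix e he.1 e')
    have h2 : φ (φ e) ≠ e := fun e' => h1 (h.fixed_of_sq e')
    have hd : ({1, e, φ e, φ (φ e)} : Finset P).card = 4 := by
      have n1 : φ e ≠ 1 := fun e' => he1 (φ.injective (by rw [e', map_one]))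
      have n2 : φ (φ e) ≠ 1 := fun e' => n1 (φ.injective (by rw [e', map_one]))
      have n3 : φ (φ e) ≠ φ e := fun e' => h1 (φ.injective e')
      rw [Finset.card_insert_of_notMem, Finset.card_insert_of_notMem, Finset.card_pair n3.symm]
      · simp only [Finset.mem_insert, Finset.mem_singleton, not_or]
        exact ⟨h1.symm, h2.symm⟩
      · simp only [Finset.mem_insert, Finset.mem_singleton, not_or]
        exact ⟨he1.symm, n1.symm, n2.symm⟩
    haveI := Fintype.ofFinite V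
    have hsub : ({1, e, φ e, φ (φ e)} : Finset P) ⊆ Finset.univ.map ⟨((↑) : V → P), Subtype.val_injective⟩ := by
      intro y hy
      simp only [Finset.mem_insert, Finset.mem_singleton] at hy
      rw [Finset.mem_map]
      rcases hy with rfl | rfl | rfl | rfl
      exacts [⟨1, Finset.mem_univ _, rfl⟩, ⟨⟨y, he⟩, Finset.mem_univ _, rfl⟩,
        ⟨⟨_, hφV e he⟩, Finset.mem_univ _, rfl⟩, ⟨⟨_, hφV _ (hφV e he)⟩, Finset.mem_univ _, rfl⟩]
    have hle := Finset.card_le_card hsub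
    rw [Finset.card_map, Finset.card_univ, ← Nat.card_eq_fintype_card, hd] at hle
    refine ⟨fun y hy => ?_, h1, h2, le_antisymm hV4 hle⟩
    have heq := Finset.eq_of_subset_of_card_le hsub (by
      rw [Finset.card_map, Finset.card_univ, ← Nat.card_eq_fintype_card, hd]; exact hV4)
    have : y ∈ ({1, e, φ e, φ (φ e)} : Finset P) := by
      rw [heq, Finset.mem_map]; exact ⟨⟨y, hy⟩, Finset.mem_univ _, rfl⟩
    simpa using this
  have hcardV : Nat.card V = 4 := (hcases e₀ he₀ he₀1).2.2.2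
  -- the cube of the automorphism is trivial on `X`
  have h3V : ∀ e ∈ V, φ (φ (φ e)) = e := by
    intro e he
    by_cases he1 : e = 1
    · rw [he1, map_one, map_one, map_one]
    obtain ⟨hc, h1, h2, -⟩ := hcases e he he1
    rcases hc _ (hφV _ (hφV _ (hφV e he))) with e' | e' | e' | e'
    · exact absurd (φ.injective (φ.injective (φ.injective (by rw [e', map_one, map_one, map_one])))) he1
    · exact e'
    · exact absurd (φ.injective e') h2
    · exact absurd (φ.injective (φ.injective e')) h1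
  have hcube : ∀ x ∈ X, φ (φ (φ x)) = x := by
    obtain ⟨p, k, hp, hp2, hk⟩ := h.order
    have h' : Hyp (φ ^ 3) := ⟨h.two, h.small, p, k, hp, hp2, by rw [← pow_mul, mul_comm, pow_mul, hk, one_pow]⟩
    have happ : ∀ x, (φ ^ 3) x = φ (φ (φ x)) := fun x => rfl
    have hXi3 : Inv (φ ^ 3) X := ⟨hXi.nrm, fun x hx => hXi.pow_mem 3 hx⟩
    intro x hx
    rw [← happ]
    exact h'.fix_of_invol hXi3 hab (fun e he he2 => by rw [happ]; exact h3V e ⟨he, he2⟩) x hx
  letI : CommGroup X := { (inferInstance : Group X) with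
    mul_comm := fun a b => Subtype.ext (hab a a.2 b b.2) }
  let τ : X ≃* X :=
    { toFun := fun x => ⟨φ x, hXi.inv x x.2⟩
      invFun := fun x => ⟨φ.symm x, (hXi.mem_iff _).1 (by rw [φ.apply_symm_apply]; exact x.2)⟩
      left_inv := fun x => Subtype.ext (φ.symm_apply_apply _)
      right_inv := fun x => Subtype.ext (φ.apply_symm_apply _)
      map_mul' := fun x y => Subtype.ext (map_mul φ (x : P) y) }
  have hτ : ∀ x : X, ((τ x : X) : P) = φ x := fun x => rfl
  have R : CfsgLib.ScnThree.Rot3 τ :=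
    ⟨h.two.to_subgroup X, fun m => Subtype.ext (hcube m m.2),
      fun m hm => Subtype.ext (hfix m m.2 (congrArg Subtype.val hm)), fun e he he1 y hy => by
      obtain ⟨hc, -⟩ := hcases e ⟨e.2, congrArg Subtype.val he⟩ fun e' => he1 (Subtype.ext e')
      rcases hc y ⟨y.2, congrArg Subtype.val hy⟩ with e' | e' | e' | e'
      exacts [Or.inl (Subtype.ext e'), Or.inr (Or.inl (Subtype.ext e')),
        Or.inr (Or.inr (Or.inl (Subtype.ext e'))), Or.inr (Or.inr (Or.inr (Subtype.ext e')))]⟩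
  haveI : Nontrivial X := (X.nontrivial_iff_ne_bot).2 hne
  obtain ⟨n, hn⟩ := CfsgLib.ScnThree.exists_expo (R.two)
  obtain ⟨r, hr⟩ := hn.2
  -- fixed elements centralizing `X` are trivial
  have hCX : ∀ c : P, φ c = c → (∀ x ∈ X, c * x = x * c) → c = 1 := by
    let K : Subgroup P :=
      { carrier := {c | φ c = c ∧ ∀ x ∈ X, c * x = x * c}
        one_mem' := ⟨map_one φ, fun x _ => by rw [one_mul, mul_one]⟩
        mul_mem' := fun {a b} ha hb => ⟨by rw [map_mul, ha.1, hb.1], fun x hx => by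
          rw [mul_assoc, hb.2 x hx, ← mul_assoc, ha.2 x hx, mul_assoc]⟩
        inv_mem' := fun {a} ha => ⟨by rw [map_inv, ha.1], fun x hx =>
          (Commute.inv_left (ha.2 x hx : Commute a x)).eq⟩ }
    have hKn : K.Normal := ⟨fun k hk g => by
      obtain ⟨c, hc, hgc⟩ := h.exists_fixed_mul g
      obtain ⟨x, hx, rfl⟩ : ∃ x ∈ X, g = x * c := ⟨g * c⁻¹, hgc, by group⟩
      have hck : ∀ y ∈ X, c * k * c⁻¹ * y = y * (c * k * c⁻¹) := fun y hy => by
        have hy' : c⁻¹ * y * c ∈ X := by simpa using hXi.nrm.conj_mem y hy c⁻¹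
        calc c * k * c⁻¹ * y = c * (k * (c⁻¹ * y * c)) * c⁻¹ := by group
          _ = c * (c⁻¹ * y * c * k) * c⁻¹ := by rw [hk.2 _ hy']
          _ = y * (c * k * c⁻¹) := by group
      have hconj : x * c * k * (x * c)⁻¹ = c * k * c⁻¹ := by
        calc x * c * k * (x * c)⁻¹ = x * (c * k * c⁻¹) * x⁻¹ := by group
          _ = c * k * c⁻¹ := by rw [← hck x hx, mul_inv_cancel_right]
      rw [hconj]
      exact ⟨by rw [map_mul, map_mul, map_inv, hc, hk.1], hck⟩⟩
    intro c hc hcx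
    by_contra hc1
    haveI := hKn
    have hKb : ⊥ < K := bot_lt_iff_ne_bot.2 fun e => hc1 (mem_bot.1 (e ▸ (⟨hc, hcx⟩ : c ∈ K)))
    clear hc hcx
    have hxc : ∀ y ∈ K, y ≠ 1 → (∀ g : P, g * y = y * g) → False := by
      intro y hy hy1 hyc
      obtain ⟨k, hk⟩ := h.two y
      induction k generalizing y with
      | zero => exact hy1 (by simpa using hk)
      | succ k ih =>
        by_cases h2 : y ^ 2 = 1
        · exact hy1 (hfix y (hcent y (mem_center_iff.2 hyc) h2) hy.1)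
        · exact ih (y ^ 2) (pow_mem hy 2) h2 (fun g => (Commute.pow_right (hyc g : Commute g y) 2).eq)
            (by rw [← pow_mul, ← pow_succ']; exact hk)
    obtain ⟨y, hy, hy1, hyb⟩ := exists_central h.two ⊥ K hKb
    refine hxc y hy (fun e => hy1 (by rw [e]; exact one_mem _)) fun g => ?_
    have := hyb g
    rw [mem_bot, br_eq_one] at this
    exact this.symm
  -- action of the fixed elements
  let act : (c : P) → X →* X := fun c => MonoidHom.mk'
    (fun x => ⟨c * x * c⁻¹, hXi.nrm.conj_mem x x.2 c⟩) fun a b => Subtype.ext (by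
      show c * ((a : P) * b) * c⁻¹ = c * a * c⁻¹ * (c * b * c⁻¹)
      group)
  have hactτ : ∀ c : P, φ c = c → ∀ y : X, act c (τ y) = τ (act c y) := fun c hc y => Subtype.ext (by
    show c * φ y * c⁻¹ = φ (c * y * c⁻¹)
    rw [map_mul, map_mul, map_inv, hc])
  have hexp : ∀ c : P, φ c = c → ∃ α β : ℤ, ∀ y : X, act c y = y ^ α * τ y ^ β := fun c hc =>
    endo_eq R hn hr (act c) (hactτ c hc)
  have hCcomm : ∀ c d : P, φ c = c → φ d = d → c * d = d * c := by
    intro c d hc hd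
    obtain ⟨α, β, he⟩ := hexp c hc
    have hcd : ∀ x ∈ X, (c * d * (d * c)⁻¹) * x = x * (c * d * (d * c)⁻¹) := by
      intro x hx
      have key : ∀ y : X, act c (act d y) = act d (act c y) := fun y => by
        rw [he, he y, map_mul (act d), map_zpow, map_zpow, hactτ d hd]
      have h1 := congrArg Subtype.val (key ((act (d * c)⁻¹) ⟨x, hx⟩))
      change c * (d * ((d * c)⁻¹ * x * ((d * c)⁻¹)⁻¹) * d⁻¹) * c⁻¹ =
        d * (c * ((d * c)⁻¹ * x * ((d * c)⁻¹)⁻¹) * c⁻¹) * d⁻¹ at h1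
      have h2 : c * d * (d * c)⁻¹ * x * (c * d * (d * c)⁻¹)⁻¹ = x := by
        calc c * d * (d * c)⁻¹ * x * (c * d * (d * c)⁻¹)⁻¹
            = c * (d * ((d * c)⁻¹ * x * ((d * c)⁻¹)⁻¹) * d⁻¹) * c⁻¹ := by group
          _ = d * (c * ((d * c)⁻¹ * x * ((d * c)⁻¹)⁻¹) * c⁻¹) * d⁻¹ := h1
          _ = x := by group
      exact mul_inv_eq_iff_eq_mul.1 h2
    exact mul_inv_eq_one.1 (hCX _ (by rw [map_mul, map_inv, map_mul, map_mul, hc, hd]) hcd)
  rcases Nat.eq_zero_or_pos n with rfl | hn1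
  · -- `X = V`
    left
    have hXV : X = V := by
      refine le_antisymm (fun x hx => ⟨hx, ?_⟩) fun x hx => hx.1
      have := congrArg Subtype.val (hn.1 ⟨x, hx⟩)
      simpa using this
    have hPX : X = ⊤ := eq_top_iff.2 fun p _ => by
      obtain ⟨c, hc, hpc⟩ := h.exists_fixed_mul p
      have : c = 1 := hCX c hc fun x hx =>
        mem_center_iff.1 (hV x hx (hXV ▸ hx : x ∈ V).2) c
      rwa [this, inv_one, mul_one] at hpc
    rw [← card_top (G := P), ← hPX, hXV, hcardV]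
  -- exponent facts for an involution fixed by `φ`
  have hinvol : ∀ c : P, φ c = c → c ^ 2 = 1 → c ≠ 1 →
      2 ≤ n ∧ ∃ α β : ℤ, (∀ y : X, act c y = y ^ α * τ y ^ β) ∧ (2 ^ n : ℤ) ∣ α + 1 ∧
        (2 ^ n : ℤ) ∣ β := by
    intro c hc hc2 hc1
    obtain ⟨α, β, he⟩ := hexp c hc
    have hfixV : ∀ y : X, y ^ 2 = 1 → act c y = y := fun y hy => Subtype.ext (by
      show c * (y : P) * c⁻¹ = y
      rw [mem_center_iff.1 (hV y y.2 (congrArg Subtype.val hy)) c, mul_inv_cancel_right])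
    have hpar : Odd α ∧ Even β := by
      have h1 := hfixV (r ^ (2 ^ n)) (by rw [← pow_mul, ← pow_succ]; exact hn.1 r)
      rw [he, map_pow, ← zpow_natCast r, ← zpow_natCast (τ r), ← zpow_mul, ← zpow_mul] at h1
      have h2 : r ^ (((2 ^ n : ℕ) : ℤ) * (α - 1)) * τ r ^ (((2 ^ n : ℕ) : ℤ) * β) = 1 := by
        rw [mul_sub, zpow_sub, mul_one, mul_right_comm, h1, mul_inv_cancel]
      obtain ⟨⟨s, hs⟩, ⟨t, ht⟩⟩ := zero_iff R hn hr h2
      push_cast at hs ht
      rw [pow_succ, mul_assoc] at hs ht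
      have hs' : α - 1 = 2 * s := mul_left_cancel₀ (pow_ne_zero n (by norm_num)) hs
      have ht' : β = 2 * t := mul_left_cancel₀ (pow_ne_zero n (by norm_num)) ht
      exact ⟨⟨s, by omega⟩, ⟨t, by omega⟩⟩
    have hsq : act c (act c r) = r := Subtype.ext (by
      show c * (c * r * c⁻¹) * c⁻¹ = r
      rw [show c * (c * (r : P) * c⁻¹) * c⁻¹ = (c * c) * r * (c * c)⁻¹ by group, ← pow_two, hc2,
        one_mul, inv_one, mul_one])
    have h12 : r ^ (α * α - β * β - 1) * τ r ^ (β * (2 * α - β)) = 1 := by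
      rw [he (act c r), he r, comp_apply R hn hr] at hsq
      rw [show β * (2 * α - β) = α * β + β * α - β * β by ring, zpow_sub, zpow_one, mul_right_comm,
        hsq, mul_inv_cancel]
    obtain ⟨hd1, hd2⟩ := zero_iff R hn hr h12
    obtain ⟨hβ, hαor⟩ := exponent_cases hn1 hpar.1 hpar.2 hd1 hd2
    by_cases hα : (2 ^ n : ℤ) ∣ α - 1
    · -- the positive sign gives a normal elementary abelian group of order eight
      exfalso
      have hmove : ∀ x ∈ X, c * x * c⁻¹ * x⁻¹ ∈ V := by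
        intro x hx
        refine ⟨mul_mem (hXi.nrm.conj_mem x hx c) (inv_mem hx), ?_⟩
        have h1 : (act c ⟨x, hx⟩ * (⟨x, hx⟩ : X)⁻¹) ^ 2 = 1 := by
          obtain ⟨a, ha⟩ := hα
          obtain ⟨b, hb⟩ := hβ
          rw [he, show α = 1 + 2 ^ n * a by omega, hb, zpow_add, zpow_one,
            mul_comm (⟨x, hx⟩ : X), mul_right_comm, mul_inv_cancel_right, mul_pow,
            ← zpow_natCast _ 2, ← zpow_natCast _ 2, ← zpow_mul, ← zpow_mul]
          have hz : ∀ (y : X) (k : ℤ), y ^ ((2 : ℤ) ^ n * k * ((2 : ℕ) : ℤ)) = 1 := fun y k => by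
            rw [show (2 : ℤ) ^ n * k * ((2 : ℕ) : ℤ) = ((2 ^ (n + 1) : ℕ) : ℤ) * k by
              push_cast; rw [pow_succ]; ring, zpow_mul, zpow_natCast, hn.1 y, one_zpow]
          rw [hz, hz, one_mul]
        exact congrArg Subtype.val h1
      set E : Subgroup P := V ⊔ zpowers c with hE
      haveI := hVn
      have hEn : E.Normal := by
        refine ⟨fun k hk g => ?_⟩
        obtain ⟨v, hv, hk'⟩ := mem_sup_invol (E := V) (c := c) (by rw [hc2]; exact one_mem _) hk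
        have hgv : g * v * g⁻¹ = v := by
          rw [mem_center_iff.1 (hV v hv.1 hv.2) g, mul_inv_cancel_right]
        have hgc : g * c * g⁻¹ * c⁻¹ ∈ V := by
          obtain ⟨d, hd, hgd⟩ := h.exists_fixed_mul g
          have hdc := hCcomm d c hd hc
          rw [show g * c * g⁻¹ * c⁻¹ = (c * (g * d⁻¹) * c⁻¹ * (g * d⁻¹)⁻¹)⁻¹ by
            calc g * c * g⁻¹ * c⁻¹ = g * d⁻¹ * (d * c) * d⁻¹ * (g * d⁻¹)⁻¹ * c⁻¹ := by group
              _ = g * d⁻¹ * c * (g * d⁻¹)⁻¹ * c⁻¹ := by rw [hdc]; group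
              _ = _ := by group]
          exact inv_mem (hmove _ hgd)
        rcases hk' with rfl | rfl
        · rw [hgv]; exact mem_sup_left hv
        · rw [show g * (v * c) * g⁻¹ = g * v * g⁻¹ * (g * c * g⁻¹ * c⁻¹) * c by group, hgv]
          exact mul_mem (mul_mem (mem_sup_left hv) (mem_sup_left hgc)) (mem_sup_right (mem_zpowers c))
      have hEc : IsMulCommutative E := by
        refine ⟨⟨fun a b => Subtype.ext ?_⟩⟩
        obtain ⟨v, hv, ha⟩ := mem_sup_invol (E := V) (c := c) (by rw [hc2]; exact one_mem _) a.2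
        obtain ⟨w, hw, hb⟩ := mem_sup_invol (E := V) (c := c) (by rw [hc2]; exact one_mem _) b.2
        show (a : P) * b = b * a
        have hcv : ∀ g, Commute g v := fun g => mem_center_iff.1 (hV v hv.1 hv.2) g
        have hcw : ∀ g, Commute g w := fun g => mem_center_iff.1 (hV w hw.1 hw.2) g
        rcases ha with ha | ha <;> rcases hb with hb | hb <;> rw [ha, hb]
        · exact hcw v
        · exact ((hcw v).mul_right (hcv c).symm).eq
        · exact ((hcw v).mul_left (hcw c)).eq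
        · exact (((hcw v).mul_right (hcv c).symm).mul_left ((hcw c).mul_right (Commute.refl c))).eq
      have hE2 : ∀ a ∈ E, a ^ 2 = 1 := by
        intro a ha
        obtain ⟨v, hv, ha'⟩ := mem_sup_invol (E := V) (c := c) (by rw [hc2]; exact one_mem _) ha
        rcases ha' with rfl | rfl
        · exact hv.2
        · rw [Commute.mul_pow ((mem_center_iff.1 (hV v hv.1 hv.2) c).symm : Commute v c), hv.2, hc2,
            one_mul]
      have hcV : c ∉ V := fun hcV => hc1 (hfix c hcV.1 hc)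
      have h8 : 2 * Nat.card V ≤ 4 := (card_sup_invol hcV).trans (h.small E hEn hEc hE2)
      omega
    · refine ⟨?_, α, β, he, hαor.resolve_left hα, hβ⟩
      by_contra h2
      obtain ⟨a, ha⟩ := hpar.1
      refine hα ?_
      rw [show n = 1 by omega, pow_one]
      exact ⟨a, by omega⟩
  right
  by_cases hC : ∀ c : P, φ c = c → c = 1
  · left
    refine ⟨n + 1, by omega, ?_⟩
    have hPX : X = ⊤ := eq_top_iff.2 fun p _ => by
      obtain ⟨c, hc, hpc⟩ := h.exists_fixed_mul p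
      rwa [hC c hc, inv_one, mul_one] at hpc
    let N := 2 ^ (n + 1)
    haveI : NeZero N := ⟨pow_ne_zero _ two_ne_zero⟩
    let g : Multiplicative (ZMod N × ZMod N) →* X := MonoidHom.mk'
      (fun p => r ^ (Multiplicative.toAdd p).1.val * τ r ^ (Multiplicative.toAdd p).2.val) fun p q => by
        simp only [toAdd_mul, Prod.fst_add, Prod.snd_add, ZMod.val_add]
        rw [← pow_eq_pow_mod _ (hn.1 r : r ^ N = 1),
          ← pow_eq_pow_mod _ (hn.1 (τ r) : τ r ^ N = 1), pow_add, pow_add, mul_mul_mul_comm]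
    have h1 : (1 : ZMod N).val = 1 := by
      haveI : Fact (1 < N) := ⟨Nat.one_lt_two_pow (by omega)⟩
      exact ZMod.val_one N
    have hg : Function.Bijective g := by
      refine ⟨(injective_iff_map_eq_one g).2 fun p hp => ?_, MonoidHom.range_eq_top.1
        (R.gen hn r hr g.range ⟨Multiplicative.ofAdd (1, 0), by simp [g, h1]⟩
          ⟨Multiplicative.ofAdd (0, 1), by simp [g, h1]⟩)⟩
      obtain ⟨hd1, hd2⟩ := zero_iff R hn hr (i := ((Multiplicative.toAdd p).1.val : ℤ))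
        (j := ((Multiplicative.toAdd p).2.val : ℤ)) (by rw [zpow_natCast, zpow_natCast]; exact hp)
      have hz : ∀ a : ZMod N, (2 ^ (n + 1) : ℤ) ∣ (a.val : ℤ) → a = 0 := fun a ha => by
        refine (ZMod.val_eq_zero a).1 (Nat.eq_zero_of_dvd_of_lt ?_ (ZMod.val_lt a))
        exact Int.natCast_dvd_natCast.1 (by simpa [N] using ha)
      exact Multiplicative.toAdd.injective (Prod.ext (hz _ hd1) (hz _ hd2))
    exact ⟨((MulEquiv.ofBijective g hg).trans ((MulEquiv.subgroupCongr hPX).trans topEquiv)).symm⟩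
  right
  push Not at hC
  obtain ⟨d₀, hd₀, hd₀1⟩ := hC
  obtain ⟨c, hc, hc2, hc1⟩ : ∃ c : P, φ c = c ∧ c ^ 2 = 1 ∧ c ≠ 1 := by
    obtain ⟨k, hk⟩ := h.two d₀
    induction k generalizing d₀ with
    | zero => exact absurd (by simpa using hk) hd₀1
    | succ k ih =>
      by_cases h2 : d₀ ^ 2 = 1
      · exact ⟨d₀, hd₀, h2, hd₀1⟩
      · exact ih (d₀ ^ 2) (by rw [map_pow, hd₀]) h2 (by rw [← pow_mul, ← pow_succ']; exact hk)
  obtain ⟨hn2, α, β, he, hα, hβ⟩ := hinvol c hc hc2 hc1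
  have h4 : ∀ y : X, y ^ 4 = 1 → act c y = y⁻¹ := by
    intro y hy
    obtain ⟨a, ha⟩ := hα
    obtain ⟨b, hb⟩ := hβ
    obtain ⟨m, rfl⟩ : ∃ m, n = 2 + m := ⟨n - 2, by omega⟩
    have hz : ∀ (y : X) (k : ℤ), y ^ 4 = 1 → y ^ ((2 : ℤ) ^ (2 + m) * k) = 1 := fun y k hy => by
      rw [pow_add, mul_assoc, zpow_mul, show y ^ ((2 : ℤ) ^ 2) = 1 by exact_mod_cast hy, one_zpow]
    rw [he, show α = (2 : ℤ) ^ (2 + m) * a + (-1) by omega, hb, zpow_add, zpow_neg_one,
      hz y a hy, hz _ b (by rw [← map_pow, hy, map_one]), one_mul, mul_one]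
  have huniq : ∀ d : P, φ d = d → d ^ 2 = 1 → d ≠ 1 → d = c := by
    intro d hd hd2 hd1
    by_contra hdc
    obtain ⟨-, γ, δ, he', hγ, hδ⟩ := hinvol d hd hd2 hd1
    have hcd := hCcomm c d hc hd
    obtain ⟨-, α', β', he'', hα', hβ'⟩ := hinvol (c * d) (by rw [map_mul, hc, hd])
      (by rw [Commute.mul_pow hcd, hc2, hd2, one_mul]) fun e => hdc (by
        calc d = c * c * d := by rw [← pow_two, hc2, one_mul]
          _ = c := by rw [mul_assoc, e, mul_one])
    obtain ⟨y, hy4, hy2⟩ : ∃ y : X, y ^ 4 = 1 ∧ y ^ 2 ≠ 1 := by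
      obtain ⟨m, rfl⟩ : ∃ m, n = 1 + m := ⟨n - 1, by omega⟩
      refine ⟨r ^ (2 ^ m), ?_, ?_⟩
      · rw [← pow_mul, show 2 ^ m * 4 = 2 ^ (1 + m + 1) by rw [pow_succ, pow_add]; ring]
        exact hn.1 r
      · rw [← pow_mul, show 2 ^ m * 2 = 2 ^ (1 + m) by rw [pow_add]; ring]
        exact hr
    have hinv : ∀ (f : P) (a b : ℤ), (∀ y : X, act f y = y ^ a * τ y ^ b) → (2 ^ n : ℤ) ∣ a + 1 →
        (2 ^ n : ℤ) ∣ b → act f y = y⁻¹ := by
      intro f a b hf ha hb
      obtain ⟨a', ha'⟩ := ha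
      obtain ⟨b', hb'⟩ := hb
      obtain ⟨m, rfl⟩ : ∃ m, n = 2 + m := ⟨n - 2, by omega⟩
      have hz : ∀ (y : X) (k : ℤ), y ^ 4 = 1 → y ^ ((2 : ℤ) ^ (2 + m) * k) = 1 := fun y k hy => by
        rw [pow_add, mul_assoc, zpow_mul, show y ^ ((2 : ℤ) ^ 2) = 1 by exact_mod_cast hy, one_zpow]
      rw [hf, show a = (2 : ℤ) ^ (2 + m) * a' + (-1) by omega, hb', zpow_add, zpow_neg_one,
        hz y a' hy4, hz _ b' (by rw [← map_pow, hy4, map_one]), one_mul, mul_one]
    have e1 : act (c * d) y = y⁻¹ := hinv _ α' β' he'' hα' hβ'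
    have e2 : act (c * d) y = act c (act d y) := Subtype.ext (by
      show c * d * (y : P) * (c * d)⁻¹ = c * (d * y * d⁻¹) * c⁻¹
      group)
    rw [e2, hinv d γ δ he' hγ hδ, map_inv, h4 y hy4, inv_inv] at e1
    exact hy2 (by rw [pow_two]; exact eq_inv_iff_mul_eq_one.1 e1)
  have hC2 : ∀ d : P, φ d = d → d = 1 ∨ d = c := by
    intro d hd
    obtain ⟨k, hk⟩ := h.two d
    induction k generalizing d with
    | zero => exact Or.inl (by simpa using hk)
    | succ k ih =>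
      rcases ih (d ^ 2) (by rw [map_pow, hd]) (by rw [← pow_mul, ← pow_succ']; exact hk) with h2 | h2
      · by_cases hd1 : d = 1
        exacts [Or.inl hd1, Or.inr (huniq d hd h2 hd1)]
      · exfalso
        obtain ⟨γ, δ, he'⟩ := hexp d hd
        have hsq : act d (act d r) = act c r := Subtype.ext (by
          show d * (d * r * d⁻¹) * d⁻¹ = c * r * c⁻¹
          rw [← h2, pow_two]; group)
        have h12 : r ^ (γ * γ - δ * δ - α) * τ r ^ (δ * (2 * γ - δ) - β) = 1 := by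
          rw [he' (act d r), he' r, comp_apply R hn hr, he r] at hsq
          rw [show δ * (2 * γ - δ) = γ * δ + δ * γ - δ * δ by ring, zpow_sub r (γ * γ - δ * δ) α,
            zpow_sub (τ r) (γ * δ + δ * γ - δ * δ) β,
            mul_mul_mul_comm, ← mul_inv, hsq, mul_inv_cancel]
        obtain ⟨hd1, hd2⟩ := zero_iff R hn hr h12
        exact not_square_neg hn2 hα hβ hd1 hd2
  refine ⟨c, hc2, fun hcX => hc1 (hfix c hcX hc), fun p => ?_, fun x hx hx4 => ?_, fun v hv hv2 => ?_,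
    ?_⟩
  · obtain ⟨d, hd, hpd⟩ := h.exists_fixed_mul p
    rcases hC2 d hd with rfl | rfl
    · left; rwa [inv_one, mul_one] at hpd
    · right
      rwa [inv_eq_of_mul_eq_one_right (by rw [← pow_two]; exact hc2)] at hpd
  · exact congrArg Subtype.val (h4 ⟨x, hx⟩ (Subtype.ext hx4))
  · obtain ⟨m, hm⟩ := R.exists_root_top hn ⟨v, hv⟩ (Subtype.ext hv2)
    obtain ⟨k, rfl⟩ : ∃ k, n = k + 1 := ⟨n - 1, by omega⟩
    refine ⟨((m ^ (2 ^ k) : X) : P), (m ^ (2 ^ k)).2, ?_, ?_⟩
    · rw [← Subgroup.coe_pow, ← pow_mul, show 2 ^ k * 4 = 2 ^ (k + 1 + 1) by rw [pow_succ, pow_succ]; ring,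
        hn.1 m, Subgroup.coe_one]
    · rw [← Subgroup.coe_pow, ← pow_mul, ← pow_succ, hm]
  · rw [← hcardV]
    rfl

end Shape

/-! ### Fusion -/

section Fusion

variable {G : Type*} [Group G] [Finite G]

/-- No simple group has a Sylow 2-subgroup `X⟨c⟩` with `c` inverting the elements of `X` of order
four and the involutions of `X` central. -/
theorem false_of_inverting [IsSimpleGroup G] (hna : ¬ IsMulCommutative G) (T : Sylow 2 G)
    (X : Subgroup G) (hXT : X ≤ (T : Subgroup G)) (hXab : ∀ a ∈ X, ∀ b ∈ X, a * b = b * a) {c : G}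
    (hcT : c ∈ (T : Subgroup G)) (hc2 : c ^ 2 = 1) (hcX : c ∉ X)
    (hcover : ∀ p ∈ (T : Subgroup G), p ∈ X ∨ p * c ∈ X)
    (hinv : ∀ x ∈ X, x ^ 4 = 1 → c * x * c⁻¹ = x⁻¹)
    (hroot : ∀ v ∈ X, v ^ 2 = 1 → ∃ y ∈ X, y ^ 4 = 1 ∧ y ^ 2 = v)
    (hV4 : Nat.card {x : G // x ∈ X ∧ x ^ 2 = 1} = 4) : False := by
  classical
  haveI : Fact (Nat.Prime 2) := ⟨Nat.prime_two⟩
  have hcc : c⁻¹ = c := inv_eq_of_mul_eq_one_right (by rw [← pow_two]; exact hc2)
  let V : Subgroup G :=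
    { carrier := {x | x ∈ X ∧ x ^ 2 = 1}
      one_mem' := ⟨one_mem _, one_pow 2⟩
      mul_mem' := fun {a b} ha hb => ⟨mul_mem ha.1 hb.1, by
        rw [Commute.mul_pow (hXab a ha.1 b hb.1), ha.2, hb.2, one_mul]⟩
      inv_mem' := fun {a} ha => ⟨inv_mem ha.1, by rw [inv_pow, ha.2, inv_one]⟩ }
  have hcardV : Nat.card V = 4 := hV4
  have hVT : V ≤ (T : Subgroup G) := fun v hv => hXT hv.1
  have hVc : ∀ v ∈ V, ∀ p ∈ (T : Subgroup G), Commute v p := by
    intro v hv p hp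
    have hvc : Commute v c := by
      have h1 := hinv v hv.1 (by rw [show 4 = 2 * 2 from rfl, pow_mul, hv.2, one_pow])
      rw [inv_eq_of_mul_eq_one_right (by rw [← pow_two]; exact hv.2 : v * v = 1)] at h1
      exact (mul_inv_eq_iff_eq_mul.1 h1).symm
    rcases hcover p hp with hx | hx
    · exact hXab v hv.1 p hx
    · have hvpc : Commute v (p * c) := hXab v hv.1 _ hx
      have := hvpc.mul_right hvc
      rwa [mul_assoc, ← pow_two, hc2, mul_one] at this
  -- a conjugate of `c` lies in `V`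
  have hrel : X.relIndex (T : Subgroup G) = 2 := by
    refine index_eq_two_iff.2 ⟨⟨c, hcT⟩, fun p => ?_⟩
    rw [mem_subgroupOf, mem_subgroupOf]
    rcases hcover p p.2 with hx | hx
    · refine Or.inr ⟨hx, fun hpc => hcX ?_⟩
      have := mul_mem (inv_mem hx) hpc
      simpa using this
    · refine Or.inl ⟨hx, fun hp' => hcX ?_⟩
      have := mul_mem (inv_mem hp') hx
      simpa using this
  obtain ⟨g, hg⟩ : ∃ g : G, g * c * g⁻¹ ∈ X := by
    refine (ThompsonTransfer.thompson_transfer (T : Subgroup G) X ?_ hrel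
      (by rw [← pow_two]; exact hc2)).resolve_left ?_
    · rw [← Nat.not_even_iff_odd, even_iff_two_dvd]
      exact T.not_dvd_index
    · rintro ⟨M, hM, hMi, -⟩
      rcases hM.eq_bot_or_eq_top with rfl | rfl
      · rw [index_bot] at hMi
        haveI : IsCyclic G := isCyclic_of_prime_card hMi
        exact hna ⟨⟨fun a b => IsCyclic.commGroup.mul_comm a b⟩⟩
      · rw [index_top] at hMi; omega
  have hgV : g * c * g⁻¹ ∈ V := ⟨hg, by
    rw [conj_pow, hc2, mul_one, mul_inv_cancel]⟩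
  set v := g * c * g⁻¹ with hv
  -- the elementary abelian group `V⟨c⟩`
  set E : Subgroup G := V ⊔ zpowers c with hE
  have hET : E ≤ (T : Subgroup G) := sup_le hVT (zpowers_le.2 hcT)
  haveI hVnT : (V.subgroupOf E).Normal := ⟨fun k hk p => by
    show ((p * k * p⁻¹ : E) : G) ∈ V
    rw [Subgroup.coe_mul, Subgroup.coe_mul, Subgroup.coe_inv, ← (hVc (k : G) hk p (hET p.2)).eq,
      mul_inv_cancel_right]
    exact hk⟩
  have hmemE : ∀ x ∈ E, x ∈ V ∨ x * c ∈ V := by
    let W : Subgroup G :=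
      { carrier := {x | x ∈ V ∨ x * c ∈ V}
        one_mem' := Or.inl (one_mem _)
        mul_mem' := fun {a b} ha hb => by
          have hcomm : ∀ w ∈ V, c * w = w * c := fun w hw => ((hVc w hw c hcT).eq).symm
          rcases ha with ha | ha <;> rcases hb with hb | hb
          · exact Or.inl (mul_mem ha hb)
          · exact Or.inr (by rw [mul_assoc]; exact mul_mem ha hb)
          · refine Or.inr ?_
            rw [show a * b * c = a * c * (c⁻¹ * b * c) by group, mul_assoc c⁻¹ b c, ← hcomm b hb,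
              inv_mul_cancel_left]
            exact mul_mem ha hb
          · refine Or.inl ?_
            have e : a * b = a * c * (b * c) := by
              have h1 : c * (b * c) = b * c * c := hcomm _ hb
              rw [mul_assoc a c, h1, mul_assoc b c c, ← pow_two, hc2, mul_one]
            rw [e]
            exact mul_mem ha hb
        inv_mem' := fun {a} ha => by
          rcases ha with ha | ha
          · exact Or.inl (inv_mem ha)
          · refine Or.inr ?_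
            have h1 : c * (a * c) = a * c * c := ((hVc _ ha c hcT).eq).symm
            have h2 : c * (a * c) = a := by rw [h1, mul_assoc, ← pow_two, hc2, mul_one]
            have : a⁻¹ * c = (a * c)⁻¹ := by
              conv_lhs => rw [← h2]
              rw [mul_inv_rev, hcc, mul_assoc, ← pow_two, hc2, mul_one]
            rw [this]
            exact inv_mem ha }
    intro x hx
    have hle : E ≤ W := sup_le (fun w hw => Or.inl hw)
      (zpowers_le.2 (Or.inr (by rw [← pow_two, hc2]; exact one_mem _)))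
    exact hle hx
  have hE2 : ∀ x ∈ E, x ^ 2 = 1 := by
    intro x hx
    rcases hmemE x hx with h1 | h1
    · exact h1.2
    · have h2 : (x * c) * c = x := by rw [mul_assoc, ← pow_two, hc2, mul_one]
      rw [← h2, Commute.mul_pow (hVc _ h1 c hcT), h1.2, hc2, one_mul]
  have hEab : ∀ a ∈ E, ∀ b ∈ E, a * b = b * a := fun a ha b hb => by
    calc a * b = (a * b)⁻¹ :=
          (inv_eq_of_mul_eq_one_right (by rw [← pow_two]; exact hE2 _ (mul_mem ha hb))).symm
      _ = b * a := by rw [mul_inv_rev,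
        inv_eq_of_mul_eq_one_right (show a * a = 1 by rw [← pow_two]; exact hE2 a ha),
        inv_eq_of_mul_eq_one_right (show b * b = 1 by rw [← pow_two]; exact hE2 b hb)]
  have hcE : c ∈ E := mem_sup_right (mem_zpowers c)
  have hcV : c ∉ V := fun hcV => hcX hcV.1
  have hcardE : Nat.card E = 8 := by
    have h1 : V.relIndex E = 2 := by
      refine index_eq_two_iff.2 ⟨⟨c, hcE⟩, fun p => ?_⟩
      rw [mem_subgroupOf, mem_subgroupOf]
      rcases hmemE p p.2 with hx | hx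
      · refine Or.inr ⟨hx, fun hpc => hcV ?_⟩
        have := mul_mem (inv_mem hx) hpc
        simpa using this
      · refine Or.inl ⟨hx, fun hp' => hcV ?_⟩
        have := mul_mem (inv_mem hp') hx
        simpa using this
    have h2 := relIndex_mul_relIndex ⊥ V E bot_le le_sup_left
    rw [relIndex_bot_left, relIndex_bot_left, hcardV, h1] at h2
    omega
  -- every conjugate of `E` inside `T` contains `V`
  have hcontains : ∀ a : G, (∀ x ∈ E, a * x * a⁻¹ ∈ (T : Subgroup G)) →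
      ∀ w ∈ V, a⁻¹ * w * a ∈ E := by
    intro a ha
    set F : Subgroup G := E.map (MulAut.conj a).toMonoidHom with hF
    have hFT : F ≤ (T : Subgroup G) := by rintro _ ⟨x, hx, rfl⟩; exact ha x hx
    have hF8 : Nat.card F = 8 := by
      rw [hF, card_map_of_injective (f := (MulAut.conj a).toMonoidHom) (MulAut.conj a).injective,
        hcardE]
    have h1 : (F ⊓ X).relIndex F ≤ 2 := by
      rw [inf_relIndex_left]
      exact (relIndex_le_of_le_right hFT (by rw [hrel]; norm_num)).trans hrel.le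
    have h2 := relIndex_mul_relIndex ⊥ (F ⊓ X) F bot_le inf_le_left
    rw [relIndex_bot_left, relIndex_bot_left, hF8] at h2
    have h3 : F ⊓ X ≤ V := by
      rintro _ ⟨⟨x, hx, rfl⟩, hx'⟩
      refine ⟨hx', ?_⟩
      show (a * x * a⁻¹) ^ 2 = 1
      rw [conj_pow, hE2 x hx, mul_one, mul_inv_cancel]
    have h4 : F ⊓ X = V := eq_of_le_of_card_ge h3 (by rw [hcardV]; nlinarith)
    intro w hw
    obtain ⟨x, hx, e⟩ := (h4 ▸ hw : w ∈ F ⊓ X).1
    rw [← e]
    show a⁻¹ * (a * x * a⁻¹) * a ∈ E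
    rwa [show a⁻¹ * (a * x * a⁻¹) * a = x by group]
  -- a conjugation carrying `c` to `v` and `E` into `T`
  obtain ⟨a, hav, haT⟩ : ∃ a : G, a * c * a⁻¹ = v ∧ ∀ x ∈ E, a * x * a⁻¹ ∈ (T : Subgroup G) := by
    set H := centralizer ({v} : Set G) with hH
    have hTH : (T : Subgroup G) ≤ H := fun p hp =>
      mem_centralizer_singleton_iff.2 (hVc v hgV p hp).eq.symm
    set E' : Subgroup G := E.map (MulAut.conj g).toMonoidHom with hE'
    have hE'H : E' ≤ H := by
      rintro _ ⟨x, hx, rfl⟩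
      rw [mem_centralizer_singleton_iff]
      show g * x * g⁻¹ * (g * c * g⁻¹) = g * c * g⁻¹ * (g * x * g⁻¹)
      rw [show g * x * g⁻¹ * (g * c * g⁻¹) = g * (x * c) * g⁻¹ by group, hEab x hx c hcE]
      group
    have hp : IsPGroup 2 (E'.subgroupOf H) := fun k => by
      obtain ⟨x, hx, e⟩ := mem_subgroupOf.1 k.2
      refine ⟨1, Subtype.ext (Subtype.ext ?_)⟩
      show ((k : H) : G) ^ 2 ^ 1 = 1
      rw [← e, pow_one, MulEquiv.coe_toMonoidHom, ← map_pow, hE2 x hx, map_one]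
    obtain ⟨Q, hQ⟩ := hp.exists_le_sylow
    obtain ⟨k, hk⟩ := MulAction.exists_smul_eq H Q (T.subtype hTH)
    refine ⟨(k : G) * g, ?_, fun x hx => ?_⟩
    · rw [show (k : G) * g * c * ((k : G) * g)⁻¹ = (k : G) * v * (k : G)⁻¹ by rw [hv]; group,
        mem_centralizer_singleton_iff.1 k.2, mul_inv_cancel_right]
    · have h1 : (⟨g * x * g⁻¹, hE'H ⟨x, hx, rfl⟩⟩ : H) ∈ (Q : Subgroup H) := hQ ⟨x, hx, rfl⟩
      have h2 := Subgroup.smul_mem_pointwise_smul _ (MulAut.conj k) _ h1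
      rw [← Sylow.coe_subgroup_smul, hk, Sylow.coe_subtype] at h2
      have h3 : (k : G) * (g * x * g⁻¹) * (k : G)⁻¹ ∈ (T : Subgroup G) := h2
      rwa [show (k : G) * g * x * ((k : G) * g)⁻¹ = (k : G) * (g * x * g⁻¹) * (k : G)⁻¹ by group]
  -- conjugation of `E` by the elements of order four
  have hflip : ∀ b : G, (∀ x ∈ E, b * x * b⁻¹ ∈ (T : Subgroup G)) → ∀ y ∈ X, y ^ 4 = 1 → ∀ x ∈ E,
      b⁻¹ * (y * (b * x * b⁻¹) * y⁻¹) * b ∈ E := by
    intro b hb y hy hy4 x hx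
    rcases hcover _ (hb x hx) with h1 | h1
    · rw [hXab y hy _ h1, mul_inv_cancel_right, show b⁻¹ * (b * x * b⁻¹) * b = x by group]
      exact hx
    · have h2 : c * y⁻¹ * c⁻¹ = y := by
        have := hinv y hy hy4
        rw [show c * y⁻¹ * c⁻¹ = (c * y * c⁻¹)⁻¹ by group, this, inv_inv]
      set f := b * x * b⁻¹ with hf
      have h3 : y * f * y⁻¹ = y ^ 2 * f := by
        have h4 : f * y⁻¹ = y * f := by
          calc f * y⁻¹ = f * c * (c⁻¹ * y⁻¹ * c) * c⁻¹ := by group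
            _ = f * c * (c * y⁻¹ * c⁻¹) * c⁻¹ := by rw [hcc]
            _ = y * (f * c) * c⁻¹ := by rw [h2, hXab _ h1 y hy]
            _ = y * f := by group
        rw [mul_assoc, h4, ← mul_assoc, pow_two]
      rw [h3, show b⁻¹ * (y ^ 2 * f) * b = b⁻¹ * y ^ 2 * b * x by rw [hf]; group]
      refine mul_mem (hcontains b hb _ ⟨pow_mem hy 2, ?_⟩) hx
      rw [← pow_mul]; exact hy4
  -- the elements `e₁` and `e₂`
  have hHV : ∀ w ∈ V, a⁻¹ * w * a ∈ E := hcontains a haT
  obtain ⟨e₁, he₁V, he₁1, he₁a⟩ : ∃ e ∈ V, e ≠ 1 ∧ a * e * a⁻¹ ∈ V := by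
    obtain ⟨w, hwV, hw1, hwv⟩ : ∃ w ∈ V, w ≠ 1 ∧ w ≠ v := by
      by_contra hno
      push Not at hno
      have h1 : Nat.card V ≤ ({1, v} : Finset G).card := by
        rw [← Nat.card_eq_finsetCard]
        refine Nat.card_le_card_of_injective (fun k => ⟨k.1, ?_⟩) fun k l e =>
          Subtype.ext (congrArg (fun t : ({1, v} : Finset G) => (t : G)) e)
        simp only [Finset.mem_insert, Finset.mem_singleton]
        exact (em _).imp_right fun hk => hno k k.2 hk
      have h2 : ({1, v} : Finset G).card ≤ 2 := Finset.card_le_two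
      omega
    have hwa : a * (a⁻¹ * w * a) * a⁻¹ = w := by group
    rcases hmemE _ (hHV w hwV) with h1 | h1
    · exact ⟨_, h1, fun e => hw1 (by rw [← hwa, e, mul_one, mul_inv_cancel]), by rwa [hwa]⟩
    · refine ⟨_, h1, fun e => hwv ?_, ?_⟩
      · have h2 : a⁻¹ * w * a = c := by rw [eq_inv_of_mul_eq_one_left e, hcc]
        rw [← hwa, h2, hav]
      · rw [show a * (a⁻¹ * w * a * c) * a⁻¹ = w * (a * c * a⁻¹) by group, hav]
        exact mul_mem hwV hgV
  obtain ⟨e₂, he₂V, he₂a⟩ : ∃ e ∈ V, a * e * a⁻¹ ∉ V := by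
    by_contra hno
    push Not at hno
    have h1 : V.map (MulAut.conj a).toMonoidHom = V := eq_of_le_of_card_ge
      (by rintro _ ⟨x, hx, rfl⟩; exact hno x hx)
      (card_map_of_injective (f := (MulAut.conj a).toMonoidHom) (MulAut.conj a).injective).ge
    obtain ⟨x, hx, hxv⟩ : v ∈ V.map (MulAut.conj a).toMonoidHom := h1.symm ▸ hgV
    have : x = c := (MulAut.conj a).injective (hxv.trans hav.symm)
    exact hcV (this ▸ hx)
  obtain ⟨y, hyX, hy4, hy2⟩ := hroot _ he₁a.1 he₁a.2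
  set t := a⁻¹ * y * a with ht
  have hconjt : ∀ x : G, t * x * t⁻¹ = a⁻¹ * (y * (a * x * a⁻¹) * y⁻¹) * a := fun x => by
    rw [ht]; group
  have ht1 : t * e₁ * t⁻¹ = e₁ := by
    rw [hconjt, hXab y hyX _ he₁a.1, mul_inv_cancel_right]; group
  have ht2 : t * e₂ * t⁻¹ = e₁ * e₂ := by
    have hT2 := haT e₂ (mem_sup_left he₂V)
    rcases hcover _ hT2 with h1 | h1
    · refine absurd ⟨h1, ?_⟩ he₂a
      rw [conj_pow, he₂V.2, mul_one, mul_inv_cancel]
    · have h2 : c * y⁻¹ * c⁻¹ = y := by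
        have := hinv y hyX hy4
        rw [show c * y⁻¹ * c⁻¹ = (c * y * c⁻¹)⁻¹ by group, this, inv_inv]
      set f := a * e₂ * a⁻¹ with hf
      have h4 : f * y⁻¹ = y * f := by
        calc f * y⁻¹ = f * c * (c⁻¹ * y⁻¹ * c) * c⁻¹ := by group
          _ = f * c * (c * y⁻¹ * c⁻¹) * c⁻¹ := by rw [hcc]
          _ = y * (f * c) * c⁻¹ := by rw [h2, hXab _ h1 y hyX]
          _ = y * f := by group
      rw [hconjt, ← hf, mul_assoc y f y⁻¹, h4, ← mul_assoc y y f, ← pow_two, hy2, hf]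
      group
  -- a 2-group normalizing `E` and `V` with an element of order four and one moving `V`
  set L : Subgroup G := normalizer (E : Set G) ⊓ normalizer (V : Set G) with hL
  have hnormE : ∀ x : G, (∀ e ∈ E, x * e * x⁻¹ ∈ E) → x ∈ normalizer (E : Set G) := fun x hx =>
    mem_normalizer_iff_map_conj_eq.2 (eq_of_le_of_card_ge (by rintro _ ⟨e, he, rfl⟩; exact hx e he)
      (card_map_of_injective (f := (MulAut.conj x).toMonoidHom) (MulAut.conj x).injective).ge)
  have hnormV : ∀ x : G, (∀ e ∈ V, x * e * x⁻¹ ∈ V) → x ∈ normalizer (V : Set G) := fun x hx =>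
    mem_normalizer_iff_map_conj_eq.2 (eq_of_le_of_card_ge (by rintro _ ⟨e, he, rfl⟩; exact hx e he)
      (card_map_of_injective (f := (MulAut.conj x).toMonoidHom) (MulAut.conj x).injective).ge)
  obtain ⟨u, huX, hu4, hu2⟩ : ∃ u ∈ X, u ^ 4 = 1 ∧ u ^ 2 ≠ 1 := by
    obtain ⟨u, hu, hu4, hu2⟩ := hroot _ he₁V.1 he₁V.2
    exact ⟨u, hu, hu4, fun e => he₁1 (hu2.symm.trans e)⟩
  have huL : u ∈ L := by
    refine ⟨hnormE u fun e he => ?_, hnormV u fun e he => ?_⟩
    · have := hflip 1 (fun x hx => by rw [one_mul, inv_one, mul_one]; exact hET hx) u huX hu4 e he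
      simpa using this
    · rw [hXab u huX e he.1, mul_inv_cancel_right]; exact he
  have he12V : ∀ x ∈ V, x = 1 ∨ x = e₁ ∨ x = e₂ ∨ x = e₁ * e₂ := by
    intro x hx
    by_contra hne
    push Not at hne
    have n1 : e₂ ≠ 1 := fun e => he₂a (by rw [e, mul_one, mul_inv_cancel]; exact one_mem _)
    have n2 : e₁ ≠ e₂ := fun e => he₂a (e ▸ he₁a)
    have n3 : e₁ * e₂ ≠ 1 := fun e => n2 (by
      calc e₁ = e₁ * (e₂ * e₂) := by rw [← pow_two, he₂V.2, mul_one]
        _ = e₂ := by rw [← mul_assoc, e, one_mul])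
    have h5 : ({1, e₁, e₂, e₁ * e₂, x} : Finset G).card = 5 := by
      rw [Finset.card_insert_of_notMem, Finset.card_insert_of_notMem,
        Finset.card_insert_of_notMem, Finset.card_pair hne.2.2.2.symm]
      · simp only [Finset.mem_insert, Finset.mem_singleton, not_or]
        exact ⟨fun e => he₁1 (right_eq_mul.1 e), hne.2.2.1.symm⟩
      · simp only [Finset.mem_insert, Finset.mem_singleton, not_or]
        exact ⟨n2, fun e => n1 (left_eq_mul.1 e), hne.2.1.symm⟩
      · simp only [Finset.mem_insert, Finset.mem_singleton, not_or]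
        exact ⟨he₁1.symm, n1.symm, n3.symm, hne.1.symm⟩
    have h6 : ({1, e₁, e₂, e₁ * e₂, x} : Finset G).card ≤ Nat.card V := by
      rw [← Nat.card_eq_finsetCard]
      refine Nat.card_le_card_of_injective (fun k => ⟨k.1, ?_⟩) fun k l e =>
        Subtype.ext (congrArg (fun t : V => (t : G)) e)
      have := k.2
      simp only [Finset.mem_insert, Finset.mem_singleton] at this
      rcases this with e | e | e | e | e <;> rw [e]
      exacts [one_mem _, he₁V, he₂V, mul_mem he₁V he₂V, hx]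
    omega
  have htL : t ∈ L := by
    refine ⟨hnormE t fun e he => ?_, hnormV t fun e he => ?_⟩
    · rw [hconjt]; exact hflip a haT y hyX hy4 e he
    · rcases he12V e he with rfl | rfl | rfl | rfl
      · simp
      · rw [ht1]; exact he₁V
      · rw [ht2]; exact mul_mem he₁V he₂V
      · rw [show t * (e₁ * e₂) * t⁻¹ = (t * e₁ * t⁻¹) * (t * e₂ * t⁻¹) by group, ht1, ht2,
          ← mul_assoc, ← pow_two, he₁V.2, one_mul]
        exact he₂V
  have hz : ∀ x ∈ X, IsPGroup 2 (zpowers x) := fun x hx => T.2.to_le (zpowers_le.2 (hXT hx))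
  obtain ⟨R, hR⟩ : ∃ R : Sylow 2 L, (⟨u, huL⟩ : L) ∈ (R : Subgroup L) := by
    have hp : IsPGroup 2 ((zpowers u).subgroupOf L) := fun k => by
      obtain ⟨i, hi⟩ := hz u huX ⟨k.1, k.2⟩
      exact ⟨i, Subtype.ext (Subtype.ext (congrArg Subtype.val hi :))⟩
    obtain ⟨R, hR⟩ := hp.exists_le_sylow
    exact ⟨R, hR (mem_zpowers u)⟩
  obtain ⟨l, hl⟩ : ∃ l : L, l * ⟨t, htL⟩ * l⁻¹ ∈ (R : Subgroup L) := by
    have hp : IsPGroup 2 ((zpowers t).subgroupOf L) := fun k => by
      have hzt : IsPGroup 2 (zpowers t) := by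
        have h1 : t ^ 4 = 1 := by
          rw [ht, show a⁻¹ * y * a = a⁻¹ * y * a⁻¹⁻¹ by rw [inv_inv], conj_pow, hy4, mul_one,
            inv_inv, inv_mul_cancel]
        obtain ⟨j, -, hj⟩ := (Nat.dvd_prime_pow Nat.prime_two).1
          (orderOf_dvd_of_pow_eq_one (show t ^ 2 ^ 2 = 1 from h1))
        exact IsPGroup.of_card (n := j) (by rw [Nat.card_zpowers, hj])
      obtain ⟨i, hi⟩ := hzt ⟨k.1, k.2⟩
      exact ⟨i, Subtype.ext (Subtype.ext (congrArg Subtype.val hi :))⟩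
    obtain ⟨Q, hQ⟩ := hp.exists_le_sylow
    obtain ⟨l, hl⟩ := MulAction.exists_smul_eq L Q R
    refine ⟨l, ?_⟩
    have h2 := Subgroup.smul_mem_pointwise_smul _ (MulAut.conj l) _ (hQ (mem_zpowers t : (⟨t, htL⟩ : L) ∈ _))
    rw [← Sylow.coe_subgroup_smul, hl] at h2
    exact h2
  set n' : L := l * ⟨t, htL⟩ * l⁻¹ with hn'
  obtain ⟨w, hwV, hmove⟩ : ∃ w ∈ V, (n' : G) * w * (n' : G)⁻¹ ≠ w := by
    refine ⟨(l : G) * e₂ * (l : G)⁻¹, (mem_normalizer_iff.1 l.2.2 e₂).1 he₂V, ?_⟩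
    show (l : G) * t * (l : G)⁻¹ * ((l : G) * e₂ * (l : G)⁻¹) *
      ((l : G) * t * (l : G)⁻¹)⁻¹ ≠ _
    rw [show (l : G) * t * (l : G)⁻¹ * ((l : G) * e₂ * (l : G)⁻¹) * ((l : G) * t * (l : G)⁻¹)⁻¹ =
      (l : G) * (t * e₂ * t⁻¹) * (l : G)⁻¹ by group, ht2]
    intro e
    exact he₁1 (mul_eq_right.1 (mul_left_cancel (mul_right_cancel e)))
  -- carry `R E` into `T`
  set RE : Subgroup G := (R : Subgroup L).map L.subtype ⊔ E with hRE
  have hEp : IsPGroup 2 E := T.2.to_le hET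
  have hRp : IsPGroup 2 ↥((R : Subgroup L).map L.subtype) := R.2.map _
  have hREp : IsPGroup 2 RE := hRp.to_sup_of_normal_right' hEp (by
    rintro _ ⟨k, -, rfl⟩
    exact k.2.1)
  obtain ⟨Q, hQ⟩ := hREp.exists_le_sylow
  obtain ⟨b, hb⟩ := MulAction.exists_smul_eq G Q T
  have hbT : ∀ x ∈ RE, b * x * b⁻¹ ∈ (T : Subgroup G) := fun x hx => by
    have h2 := Subgroup.smul_mem_pointwise_smul _ (MulAut.conj b) _ (hQ hx)
    rw [← Sylow.coe_subgroup_smul, hb] at h2
    exact h2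
  have hbE : ∀ x ∈ E, b * x * b⁻¹ ∈ (T : Subgroup G) := fun x hx => hbT x (mem_sup_right hx)
  set H3 : Subgroup G := V.map (MulAut.conj b⁻¹).toMonoidHom with hH3
  have hfixRE : ∀ p ∈ RE, ∀ x ∈ H3, p * x = x * p := by
    rintro p hp _ ⟨w, hw, rfl⟩
    show p * (b⁻¹ * w * b⁻¹⁻¹) = b⁻¹ * w * b⁻¹⁻¹ * p
    have h1 := (hVc w hw _ (hbT p hp)).eq
    calc p * (b⁻¹ * w * b⁻¹⁻¹) = b⁻¹ * (b * p * b⁻¹ * w) * b := by group
      _ = b⁻¹ * (w * (b * p * b⁻¹)) * b := by rw [h1]
      _ = b⁻¹ * w * b⁻¹⁻¹ * p := by group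
  have hH3V : H3 = V := by
    refine eq_of_le_of_card_ge ?_
      (card_map_of_injective (f := (MulAut.conj b⁻¹).toMonoidHom) (MulAut.conj b⁻¹).injective).ge
    rintro _ ⟨w, hw, rfl⟩
    have hwE : (MulAut.conj b⁻¹).toMonoidHom w ∈ E := by
      show b⁻¹ * w * b⁻¹⁻¹ ∈ E
      rw [inv_inv]; exact hcontains b hbE w hw
    rcases hmemE _ hwE with h1 | h1
    · exact h1
    · exfalso
      set x := (MulAut.conj b⁻¹).toMonoidHom w
      have hu' := hfixRE u (mem_sup_left ⟨⟨u, huL⟩, hR, rfl⟩) x ⟨w, hw, rfl⟩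
      have hxc : Commute u c := by
        have hux : Commute u x := hu'
        have h2 : Commute u (x * c) := hXab u huX _ h1.1
        have h3 := hux.inv_right.mul_right h2
        rwa [inv_mul_cancel_left] at h3
      have h5 := hinv u huX hu4
      rw [← hxc.eq, mul_inv_cancel_right] at h5
      exact hu2 (by rw [pow_two]; exact eq_inv_iff_mul_eq_one.1 h5)
  refine hmove (mul_inv_eq_iff_eq_mul.2 ?_)
  exact hfixRE _ (mem_sup_left ⟨n', hl, rfl⟩) w (hH3V ▸ hwV)

end Fusion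

/-- An abelian moved subgroup without fixed points and with central involutions: the Sylow
2-subgroup of a simple group is a four-group. -/
theorem homocyclic_case {G : Type*} [Group G] [Finite G] [IsSimpleGroup G]
    (hna : ¬ IsMulCommutative G) (T : Sylow 2 G) (φ : MulAut ↥T) (h : Hyp φ) (g : G)
    (_hg : g ∈ Subgroup.normalizer ((T : Subgroup G) : Set G))
    (_hφ : ∀ x : ↥T, (φ x : G) = g * x * g⁻¹)
    (hab : ∀ a ∈ moved φ, ∀ b ∈ moved φ, a * b = b * a) (hne : moved φ ≠ ⊥)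
    (hfix : ∀ x ∈ moved φ, φ x = x → x = 1)
    (hV : ∀ x ∈ moved φ, x ^ 2 = 1 → x ∈ Subgroup.center ↥T)
    (hcent : ∀ e ∈ Subgroup.center ↥T, e ^ 2 = 1 → e ∈ moved φ) :
    Nat.card ↥T = 4 := by
  classical
  haveI : Fact (Nat.Prime 2) := ⟨Nat.prime_two⟩
  rcases homocyclic_shape h hab hne hfix hV hcent with h4 | ⟨m, hm, ⟨e⟩⟩ | ⟨c, hc2, hcX, hcover, hinv, hroot, hV4⟩
  · exact h4
  · exfalso
    have hO : ∀ N : Subgroup G, N.Normal → Odd (Nat.card N) → N = ⊥ := fun N hN hodd =>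
      hN.eq_bot_or_eq_top.resolve_right fun ht => by
        subst ht
        rw [card_top] at hodd
        have hd : Nat.card ↥T ∣ Nat.card G := card_subgroup_dvd_card _
        rw [Nat.card_congr e.toEquiv, Nat.card_congr Multiplicative.toAdd, Nat.card_prod,
          Nat.card_zmod] at hd
        refine Nat.not_even_iff_odd.2 hodd (even_iff_two_dvd.2 ((dvd_mul_of_dvd_left ?_ _).trans hd))
        exact dvd_pow_self 2 (by omega)
    obtain ⟨hn, -, -⟩ := Cfsg.Agent.S0949.result T m hm e hO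
    rcases hn.eq_bot_or_eq_top with hb | ht
    · have h1 : Nat.card ↥T = 1 := by
        show Nat.card (T : Subgroup G) = 1
        rw [hb]; exact card_bot
      rw [Nat.card_congr e.toEquiv, Nat.card_congr Multiplicative.toAdd, Nat.card_prod,
        Nat.card_zmod, mul_eq_one, Nat.pow_eq_one] at h1
      omega
    · have hT : ∀ x : G, x ∈ T := fun x => by
        show x ∈ (T : Subgroup G)
        rw [ht]; exact mem_top x
      refine hna ⟨⟨fun a b => ?_⟩⟩
      have := e.injective (show e (⟨a, hT a⟩ * ⟨b, hT b⟩) =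
        e (⟨b, hT b⟩ * ⟨a, hT a⟩) by rw [map_mul, map_mul, mul_comm])
      exact congrArg Subtype.val this
  · exfalso
    set XG : Subgroup G := (moved φ).map (T : Subgroup G).subtype with hXG
    have hmem : ∀ p : ↥T, (p : G) ∈ XG ↔ p ∈ moved φ := fun p =>
      ⟨fun ⟨q, hq, e⟩ => by rwa [← (Subtype.ext e : q = p)], fun hp => ⟨p, hp, rfl⟩⟩
    refine false_of_inverting hna T XG (map_subtype_le _) ?_ c.2 (congrArg Subtype.val hc2)
      (fun hc => hcX ((hmem c).1 hc)) (fun p hp => ?_) ?_ ?_ ?_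
    · rintro _ ⟨a, ha, rfl⟩ _ ⟨b, hb, rfl⟩
      exact congrArg Subtype.val (hab a ha b hb)
    · exact (hcover ⟨p, hp⟩).imp (fun hx => ⟨_, hx, rfl⟩) fun hx => ⟨_, hx, rfl⟩
    · rintro _ ⟨x, hx, rfl⟩ hx4
      exact congrArg Subtype.val (hinv x hx (Subtype.ext hx4))
    · rintro _ ⟨v, hv, rfl⟩ hv2
      obtain ⟨y, hy, hy4, hy2⟩ := hroot v hv (Subtype.ext hv2)
      exact ⟨y, ⟨y, hy, rfl⟩, congrArg Subtype.val hy4, congrArg Subtype.val hy2⟩
    · rw [← hV4]
      exact Nat.card_congr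
        { toFun := fun k => ⟨⟨k.1, map_subtype_le _ k.2.1⟩, (hmem _).1 k.2.1, Subtype.ext k.2.2⟩
          invFun := fun k => ⟨k.1, (hmem _).2 k.2.1, congrArg Subtype.val k.2.2⟩
          left_inv := fun _ => rfl
          right_inv := fun _ => rfl }

end CfsgLib.NormalRankTwo
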