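import Cfsg.Agent.NormalRankTwo.ClassTwo

/-!
Involutions of abelian invariant subgroups.
-/

set_option autoImplicit false
set_option linter.unusedSectionVars false
set_option linter.style.haveILetI false

namespace CfsgLib.NormalRankTwo

open Subgroup

variable {P : Type*} [Group P] [Finite P] {φ : MulAut P}

/-- The elements of an abelian subgroup killed by two. -/
def omega (N : Subgroup P) (hc : ∀ a ∈ N, ∀ b ∈ N, a * b = b * a) : Subgroup P where
  carrier := {x | x ∈ N ∧ x ^ 2 = 1}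
  one_mem' := ⟨N.one_mem, one_pow 2⟩
  mul_mem' := fun {a b} ha hb => ⟨mul_mem ha.1 hb.1, by
    rw [Commute.mul_pow (hc a ha.1 b hb.1), ha.2, hb.2, one_mul]⟩
  inv_mem' := fun {a} ha => ⟨inv_mem ha.1, by rw [inv_pow, ha.2, inv_one]⟩

theorem mem_omega {N : Subgroup P} {hc : ∀ a ∈ N, ∀ b ∈ N, a * b = b * a} {x : P} :
    x ∈ omega N hc ↔ x ∈ N ∧ x ^ 2 = 1 := Iff.rfl

theorem omega_inv {N : Subgroup P} (hN : Inv φ N) (hc : ∀ a ∈ N, ∀ b ∈ N, a * b = b * a) :
    Inv φ (omega N hc) :=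
  ⟨⟨fun x hx g => ⟨hN.nrm.conj_mem x hx.1 g, by rw [conj_pow, hx.2, mul_one, mul_inv_cancel]⟩⟩,
    fun x hx => ⟨hN.inv x hx.1, by rw [← map_pow, hx.2, map_one]⟩⟩

theorem omega_small (h : Hyp φ) {N : Subgroup P} (hN : Inv φ N)
    (hc : ∀ a ∈ N, ∀ b ∈ N, a * b = b * a) : Nat.card (omega N hc) ≤ 4 :=
  h.small _ (omega_inv hN hc).nrm ⟨⟨fun a b => Subtype.ext (hc a a.2.1 b b.2.1)⟩⟩ fun _ ha => ha.2

theorem four_mem {E : Subgroup P} (h4 : Nat.card E ≤ 4) (hsq : ∀ e ∈ E, e ^ 2 = 1) {a b y : P}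
    (ha : a ∈ E) (hb : b ∈ E) (ha1 : a ≠ 1) (hb1 : b ≠ 1) (hab : a ≠ b) (hy : y ∈ E) :
    y = 1 ∨ y = a ∨ y = b ∨ y = a * b := by
  classical
  have hab1 : a * b ≠ 1 := fun e => hab (by
    rw [mul_eq_one_iff_eq_inv.1 e, inv_eq_iff_mul_eq_one, ← pow_two, hsq b hb])
  have hne1 : a * b ≠ a := fun e => hb1 (mul_eq_left.1 e)
  have hne2 : a * b ≠ b := fun e => ha1 (mul_eq_right.1 e)
  by_contra hne
  push Not at hne
  obtain ⟨h1, h2, h3, h4'⟩ := hne
  have hcard : ({1, a, b, a * b, y} : Finset P).card = 5 := by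
    rw [Finset.card_insert_of_notMem, Finset.card_insert_of_notMem, Finset.card_insert_of_notMem,
      Finset.card_insert_of_notMem, Finset.card_singleton]
    · rw [Finset.mem_singleton]; exact Ne.symm h4'
    · simp only [Finset.mem_insert, Finset.mem_singleton, not_or]
      exact ⟨Ne.symm hne2, Ne.symm h3⟩
    · simp only [Finset.mem_insert, Finset.mem_singleton, not_or]
      exact ⟨hab, Ne.symm hne1, Ne.symm h2⟩
    · simp only [Finset.mem_insert, Finset.mem_singleton, not_or]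
      exact ⟨ha1.symm, hb1.symm, hab1.symm, Ne.symm h1⟩
  have hle : ({1, a, b, a * b, y} : Finset P).card ≤ Nat.card E := by
    rw [← Nat.card_eq_finsetCard]
    refine Nat.card_le_card_of_injective (fun z => (⟨z.1, ?_⟩ : E)) fun u v e =>
      Subtype.ext (id (congrArg Subtype.val e :))
    have hz := z.2
    simp only [Finset.mem_insert, Finset.mem_singleton] at hz
    rcases hz with e | e | e | e | e <;> rw [e] <;>
      first | exact E.one_mem | assumption | exact E.mul_mem ha hb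
  omega

end CfsgLib.NormalRankTwo
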