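import Cfsg.Agent.NormalRankTwo.FixedCentre

/-!
When the moved subgroup has elementary centre with quotient of order 16 it has index at most two.
-/

set_option autoImplicit false
set_option linter.unusedSectionVars false
set_option linter.style.haveILetI false

namespace CfsgLib.NormalRankTwo

open Subgroup
open scoped commutatorElement

variable {P : Type*} [Group P] [Finite P] {φ : MulAut P}

namespace Big

variable (b : Big φ) (h : Hyp φ)
include b h

theorem br_zc {x y : P} (hx : x ∈ moved φ) (hy : y ∈ moved φ) : br x y ∈ zc φ :=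
  haveI := (zc_inv φ).nrm
  br_mem_of_sq b.sq hx hy

theorem no_fixed_coset {E : Subgroup P} (hE : Inv φ E) (hEX : E ≤ moved φ) (hZE : zc φ ≤ E) {x : P}
    (hx : x ∈ moved φ) (hxE : x⁻¹ * φ x ∈ E) : x ∈ E :=
  h.mem_of_fixed_coset hE hEX
    (Subgroup.commutator_le.2 fun u hu v hv => by
      rw [commutatorElement_def]; exact hZE (b.br_zc h hu hv)) hx hxE

theorem fixed_mem_zc {x : P} (hx : x ∈ moved φ) (hf : φ x = x) : x ∈ zc φ :=
  b.no_fixed_coset h (zc_inv φ) (zc_le φ) le_rfl hx (by rw [hf, inv_mul_cancel]; exact one_mem _)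

theorem moved_ne_bot : moved φ ≠ ⊥ := fun e => by
  have := b.sixteen
  rw [e, card_bot] at this
  have : 0 < Nat.card (zc φ) := Nat.card_pos
  omega

theorem exists_z0 : ∃ z0 : P, z0 ∈ center P ∧ (∀ g : P, ∀ z ∈ zc φ, br g z ∈ zpowers z0) ∧
    2 * orderOf z0 ≤ Nat.card (zc φ) := by
  have hZ := zc_inv φ
  haveI := (moved_inv φ).nrm
  haveI := hZ.nrm
  obtain ⟨z1, hz1, hz1c, hz12, hz11⟩ := exists_central_invol h.two (moved φ) (b.moved_ne_bot h)
  have hz1Z : z1 ∈ zc φ := ⟨hz1, mem_centralizer_iff.2 fun g _ => mem_center_iff.1 hz1c g⟩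
  have hcard2 : 2 ≤ Nat.card (zc φ) := by
    have := card_sup_invol (E := (⊥ : Subgroup P)) (c := z1) fun e => hz11 (mem_bot.1 e)
    rw [card_bot, bot_sup_eq] at this
    exact this.trans (card_le_of_le (zpowers_le.2 hz1Z))
  by_cases hcen : zc φ ≤ center P
  · refine ⟨1, one_mem _, fun g z hz => ?_, by rw [orderOf_one]; exact hcard2⟩
    rw [br_eq_one.2 (mem_center_iff.1 (hcen hz) g)]; exact one_mem _
  obtain ⟨u, hu, huc⟩ := SetLike.not_le_iff_exists.1 hcen
  refine ⟨z1, hz1c, ?_, ?_⟩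
  · intro g z hz
    have hz1u : z1 ≠ u := fun e => huc (e ▸ hz1c)
    have hu1 : u ≠ 1 := fun e => huc (e ▸ one_mem _)
    have hcomm : ∀ a ∈ zc φ, ∀ c ∈ zc φ, a * c = c * a := fun a ha c hc => (zc_comm ha hc.1).eq
    have four := fun y hy => four_mem (h.small _ hZ.nrm ⟨⟨fun a c => Subtype.ext (hcomm a a.2 c c.2)⟩⟩ b.el)
      b.el hz1Z hu hz11 hu1 hz1u (y := y) hy
    have hout : ∀ y ∈ zc φ, y ∉ center P → y = u ∨ y = z1 * u := fun y hy hyc => by
      rcases four y hy with e | e | e | e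
      · exact absurd (e ▸ one_mem _) hyc
      · exact absurd (e ▸ hz1c) hyc
      · exact Or.inl e
      · exact Or.inr e
    by_cases hzc : z ∈ center P
    · rw [br_eq_one.2 (mem_center_iff.1 hzc g)]; exact one_mem _
    have hgc : g * z * g⁻¹ ∉ center P := fun hm => hzc (by
      have := (inferInstance : (center P).Normal).conj_mem _ hm g⁻¹
      rwa [show g⁻¹ * (g * z * g⁻¹) * g⁻¹⁻¹ = z by group] at this)
    have hgz := hout _ (hZ.nrm.conj_mem z hz g) hgc
    show g * z * g⁻¹ * z⁻¹ ∈ _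
    rcases hgz with e | e <;> rcases hout z hz hzc with e' | e' <;> rw [e] <;> subst e'
    · rw [mul_inv_cancel]; exact one_mem _
    · rw [mul_inv_rev, mul_inv_cancel_left]; exact inv_mem (mem_zpowers _)
    · rw [mul_inv_cancel_right]; exact mem_zpowers _
    · rw [mul_inv_cancel]; exact one_mem _
  · have hord : orderOf z1 = 2 := orderOf_eq_prime (p := 2) hz12 hz11
    have := card_sup_invol (E := zpowers z1) (c := u)
      fun e => huc ((zpowers_le.2 hz1c) e)
    rw [Nat.card_zpowers] at this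
    exact this.trans (card_le_of_le (sup_le (zpowers_le.2 hz1Z) (zpowers_le.2 hu)))

/-- A fixed element centralizing the moved subgroup modulo its centre lies in it. -/
theorem mem_of_cent {c : P} (hc : φ c = c) (hcx : ∀ x ∈ moved φ, br c x ∈ zc φ) : c ∈ moved φ := by
  have hZ := zc_inv φ
  haveI := hZ.nrm
  haveI := (moved_inv φ).nrm
  obtain ⟨k, hk⟩ := h.two c
  induction k generalizing c with
  | zero => rw [show c = 1 by simpa using hk]; exact one_mem _
  | succ k ih =>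
    have hc2 : c ^ 2 ∈ moved φ := ih (by rw [map_pow, hc]) (fun x hx => by
      have e : br (c ^ 2) x = c * br c x * c⁻¹ * br c x := by simp only [br, pow_two]; group
      rw [e]; exact mul_mem (hZ.nrm.conj_mem _ (hcx x hx) c) (hcx x hx))
      (by rw [← pow_mul, ← pow_succ']; exact hk)
    by_contra hcX
    have hc2Z : c ^ 2 ∈ zc φ := b.fixed_mem_zc h hc2 (by rw [map_pow, hc])
    have hsq : ∀ y ∈ moved φ ⊔ zpowers c, y ^ 2 ∈ zc φ := fun y hy => by
      obtain ⟨x, hx, rfl | rfl⟩ := mem_sup_invol hc2 hy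
      · exact b.sq _ hx
      · have e : (x * c) ^ 2 = x * br c x * x * c ^ 2 := by simp only [br, pow_two]; group
        rw [e, (zc_comm (hcx x hx) hx).symm.eq, mul_assoc (br c x), ← pow_two]
        exact mul_mem (mul_mem (hcx x hx) (b.sq x hx)) hc2Z
    have h1 := h.card_le_of_sq (le_sup_of_le_left (zc_le φ)) hsq
    have h2 := card_sup_invol hcX
    have := b.sixteen
    have : 0 < Nat.card (zc φ) := Nat.card_pos
    omega

theorem index_le_two : (moved φ).index ≤ 2 := by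
  classical
  have hX := moved_inv φ
  have hZ := zc_inv φ
  haveI := hX.nrm
  haveI := hZ.nrm
  have hpos : 0 < Nat.card (zc φ) := Nat.card_pos
  refine NormalRankTwo.index_le_two _ fun a a' ha ha' => ?_
  by_contra haa
  obtain ⟨c₁, hc₁, hac₁⟩ := h.exists_fixed_mul a
  obtain ⟨c₂, hc₂, hac₂⟩ := h.exists_fixed_mul a'
  have hout : ∀ g c : P, g * c⁻¹ ∈ moved φ → c ∈ moved φ → g ∈ moved φ := fun g c h1 h2 => by
    have := mul_mem h1 h2; rwa [inv_mul_cancel_right] at this
  have h₁ : c₁ ∉ moved φ := fun e => ha (hout _ _ hac₁ e)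
  have h₂ : c₂ ∉ moved φ := fun e => ha' (hout _ _ hac₂ e)
  have h₃ : c₁ * c₂ ∉ moved φ := fun e => haa (by
    have := mul_mem (mul_mem hac₁ (hX.nrm.conj_mem _ hac₂ c₁)) e
    rwa [show a * c₁⁻¹ * (c₁ * (a' * c₂⁻¹) * c₁⁻¹) * (c₁ * c₂) = a * a' by group] at this)
  have hfix₃ : φ (c₁ * c₂) = c₁ * c₂ := by rw [map_mul, hc₁, hc₂]
  -- the elements central modulo the centre
  have htop : Inv φ (⊤ : Subgroup P) := ⟨inferInstance, fun x _ => mem_top _⟩
  set W := moved φ ⊓ centModIn ⊤ (zc φ) with hW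
  have hWi : Inv φ W := hX.inf (htop.centModIn hZ)
  haveI := hWi.nrm
  have hWX : W ≤ moved φ := inf_le_left
  have hZW : zc φ ≤ W := fun z hz => ⟨hz.1, fun g _ => br_mem_of_mem hz g⟩
  have hcardX := b.sixteen
  have hWne : Nat.card W ≠ Nat.card (moved φ) := fun e => h₁ (b.mem_of_cent h hc₁ fun x hx => by
    rw [← eq_of_le_of_card_ge hWX e.ge] at hx
    rw [br_swap]; exact inv_mem (hx.2 c₁ (mem_top _)))
  have hWcard : Nat.card W = 4 * Nat.card (zc φ) := by
    obtain ⟨i, hi⟩ := exists_two_pow h.two hZW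
    have hle := card_le_of_le hWX
    have hi4 : i ≤ 4 := by
      by_contra hi4
      have := Nat.mul_le_mul_right (Nat.card (zc φ))
        (Nat.pow_le_pow_right (show 0 < 2 by norm_num) (show 5 ≤ i by omega))
      rw [← hi] at this
      norm_num at this
      omega
    rcases (show i = 0 ∨ i = 1 ∨ i = 2 ∨ i = 3 ∨ i = 4 by omega) with rfl | rfl | rfl | rfl | rfl
    · exfalso
      have hlt : zc φ < moved φ := lt_of_le_of_ne (zc_le φ) fun e => by rw [← e] at hcardX; omega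
      obtain ⟨x, hx, hxZ, hxc⟩ := exists_central h.two (zc φ) (moved φ) hlt
      have heq : zc φ = W := eq_of_le_of_card_ge hZW (by simpa using hi.le)
      exact hxZ (heq ▸ (⟨hx, fun g _ => hxc g⟩ : x ∈ W))
    · exact (h.no_step hZ hWi.inv hZW (by simpa using hi) fun x hx =>
        b.no_fixed_coset h hZ (zc_le φ) le_rfl (hWX hx)).elim
    · simpa using hi
    · exact (h.no_index_two hWi.inv hWX (by rw [hcardX, hi]; ring)).elim
    · exact absurd (by rw [hcardX, hi]; norm_num) hWne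
  -- commutators with the moved subgroup lie in `W`
  set W₁ := moved φ ⊓ centModIn ⊤ W with hW₁
  have hW₁i : Inv φ W₁ := hX.inf (htop.centModIn hWi)
  have hWW₁ : W ≤ W₁ := fun w hw => ⟨hWX hw, fun g _ => br_mem_of_mem hw g⟩
  have hlt : W < moved φ := lt_of_le_of_ne hWX fun e => hWne (by rw [e])
  have hW₁X : W₁ = moved φ := by
    obtain ⟨x, hx, hxW, hxc⟩ := exists_central h.two W (moved φ) hlt
    have hne : Nat.card W₁ ≠ Nat.card W := fun e =>
      hxW (eq_of_le_of_card_ge hWW₁ e.le ▸ (⟨hx, fun g _ => hxc g⟩ : x ∈ W₁))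
    obtain ⟨j, hj⟩ := exists_two_pow h.two hWW₁
    have hle : Nat.card W₁ ≤ Nat.card (moved φ) := card_le_of_le inf_le_left
    have hj2 : j ≤ 2 := by
      by_contra hj2
      have := Nat.mul_le_mul_right (Nat.card W)
        (Nat.pow_le_pow_right (show 0 < 2 by norm_num) (show 3 ≤ j by omega))
      rw [← hj] at this
      norm_num at this
      omega
    refine eq_of_le_of_card_ge inf_le_left ?_
    rcases (show j = 0 ∨ j = 1 ∨ j = 2 by omega) with rfl | rfl | rfl
    · exact absurd (by simpa using hj) hne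
    · exact (h.no_index_two hW₁i.inv inf_le_left (by rw [hcardX, hj, hWcard]; ring)).elim
    · show Nat.card (moved φ) ≤ Nat.card W₁
      rw [hcardX, hj, hWcard]; omega
  have hbrW : ∀ g : P, ∀ x ∈ moved φ, br g x ∈ W := fun g x hx => by
    rw [← hW₁X] at hx
    rw [br_swap]; exact inv_mem (hx.2 g (mem_top _))
  have hbrWZ : ∀ g : P, ∀ w ∈ W, br g w ∈ zc φ := fun g w hw => by
    rw [br_swap]; exact inv_mem (hw.2 g (mem_top _))
  -- fixed elements outside move every element outside `W` modulo the centre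
  have hdet : ∀ c, φ c = c → c ∉ moved φ → ∀ x ∈ moved φ, br c x ∈ zc φ → x ∈ W := by
    intro c hc hcX x hx hxZ
    let K : Subgroup P :=
      { carrier := {y | y ∈ moved φ ∧ br c y ∈ zc φ}
        one_mem' := ⟨one_mem _, by simp [br, one_mem]⟩
        mul_mem' := by
          rintro u v ⟨hu, huZ⟩ ⟨hv, hvZ⟩
          refine ⟨mul_mem hu hv, ?_⟩
          have e : br c (u * v) = br c u * (u * br c v * u⁻¹) := by simp only [br]; group
          rw [e]; exact mul_mem huZ (hZ.nrm.conj_mem _ hvZ u)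
        inv_mem' := by
          rintro u ⟨hu, huZ⟩
          refine ⟨inv_mem hu, ?_⟩
          have e : br c u⁻¹ = u⁻¹ * (br c u)⁻¹ * u⁻¹⁻¹ := by simp only [br]; group
          rw [e]; exact hZ.nrm.conj_mem _ (inv_mem huZ) u⁻¹ }
    have hK : ∀ y ∈ K, φ y ∈ K := fun y hy =>
      ⟨hX.inv y hy.1, by
        have := hZ.inv _ hy.2
        rwa [map_br, hc] at this⟩
    have hWK : W ≤ K := fun w hw => ⟨hWX hw, hbrWZ c w hw⟩
    have hKX : K ≤ moved φ := fun y hy => hy.1
    obtain ⟨j, hj⟩ := exists_two_pow h.two hWK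
    have hle := card_le_of_le hKX
    have hj2 : j ≤ 2 := by
      by_contra hj2
      have := Nat.mul_le_mul_right (Nat.card W)
        (Nat.pow_le_pow_right (show 0 < 2 by norm_num) (show 3 ≤ j by omega))
      rw [← hj] at this
      norm_num at this
      omega
    rcases (show j = 0 ∨ j = 1 ∨ j = 2 by omega) with rfl | rfl | rfl
    · have heq : W = K := eq_of_le_of_card_ge hWK (by simpa using hj.le)
      exact heq ▸ (⟨hx, hxZ⟩ : x ∈ K)
    · exact (h.no_index_two hK hKX (by rw [hcardX, hj, hWcard]; ring)).elim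
    · have heq : K = moved φ := eq_of_le_of_card_ge hKX (by rw [hcardX, hj, hWcard]; omega)
      exact absurd (b.mem_of_cent h hc fun y hy => (heq.symm ▸ hy : y ∈ K).2) hcX
  obtain ⟨z₀, hz₀c, hz₀, hz₀card⟩ := b.exists_z0 h
  have hη : ∀ g : P, ∀ z ∈ zc φ, ∀ y, Commute (br g z) y := fun g z hz y =>
    (mem_center_iff.1 ((zpowers_le.2 hz₀c) (hz₀ g z hz)) y).symm
  have hcZ : ∀ {z : P}, z ∈ zc φ → ∀ {x : P}, x ∈ moved φ → Commute z x := fun hz _ hx => zc_comm hz hx
  have key : ∀ v ∈ moved φ, v ∉ W →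
      (∀ u ∈ W, ∀ w ∈ W, u * w = w * u) ∧ ∀ w ∈ W, br v w * w ^ 2 ∈ zpowers z₀ := by
    intro v hv hvW
    set w₁ := br c₁ v with hw₁
    set w₂ := br c₂ v with hw₂
    have m₁ : w₁ ∈ W := hbrW _ _ hv
    have m₂ : w₂ ∈ W := hbrW _ _ hv
    have n₁ : w₁ ∉ zc φ := fun e => hvW (hdet c₁ hc₁ h₁ v hv e)
    have n₂ : w₂ ∉ zc φ := fun e => hvW (hdet c₂ hc₂ h₂ v hv e)
    have n₃ : br (c₁ * c₂) v ∉ zc φ := fun e => hvW (hdet _ hfix₃ h₃ v hv e)
    set ζ := br c₁ w₂ with hζ
    have hζZ : ζ ∈ zc φ := hbrWZ _ _ m₂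
    have h₃eq : br (c₁ * c₂) v = ζ * (w₂ * w₁) := by
      simp only [hζ, hw₁, hw₂, br]; group
    have heqn : ∀ c, br v (br c v) * br c v ^ 2 = br c (v ^ 2) := fun c => by
      have hbz := b.br_zc h hv (hWX (hbrW c v hv))
      set w := br c v with hw
      have hwX : w ∈ moved φ := hWX (hbrW c v hv)
      have e : br c (v ^ 2) = w * br v w * w := by
        simp only [hw, br, pow_two]; group
      rw [e, (hcZ hbz hwX).symm.eq, mul_assoc, ← pow_two]
    have hw₂X := hWX m₂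
    have hw₁X := hWX m₁
    have e12 : br w₁ w₂ = 1 := by
      have E3 := heqn (c₁ * c₂)
      have hadd : br (c₁ * c₂) (v ^ 2) = br c₂ (v ^ 2) * br c₁ (v ^ 2) := by
        have e : br (c₁ * c₂) (v ^ 2) = c₁ * br c₂ (v ^ 2) * c₁⁻¹ * br c₁ (v ^ 2) := by
          simp only [br]; group
        rw [e, ← (hη c₂ _ (b.sq v hv) c₁).eq, mul_inv_cancel_right]
      rw [hadd, ← heqn c₁, ← heqn c₂, h₃eq, ← hw₁, ← hw₂] at E3
      have hbv : br v (ζ * (w₂ * w₁)) = br v w₂ * br v w₁ := by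
        have e : br v (ζ * (w₂ * w₁)) = br v ζ * (ζ * (br v w₂ * (w₂ * br v w₁ * w₂⁻¹)) * ζ⁻¹) := by
          simp only [br]; group
        have hz1 := b.br_zc h hv hw₁X
        have hz2 := b.br_zc h hv hw₂X
        rw [e, br_eq_one.2 (hcZ hζZ hv).symm.eq, one_mul, (hcZ hz1 hw₂X).symm.eq, mul_inv_cancel_right,
          (hcZ hζZ (mul_mem hz2.1 hz1.1)).eq, mul_inv_cancel_right]
      have hsq : (ζ * (w₂ * w₁)) ^ 2 = br w₁ w₂ * (w₂ ^ 2 * w₁ ^ 2) := by
        rw [(hcZ hζZ (mul_mem hw₂X hw₁X)).mul_pow, b.el ζ hζZ, one_mul]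
        calc (w₂ * w₁) ^ 2 = w₂ * br w₁ w₂ * w₂ * w₁ * w₁ := by rw [pow_two, br]; group
          _ = br w₁ w₂ * w₂ * w₂ * w₁ * w₁ := by rw [(hcZ (b.br_zc h hw₁X hw₂X) hw₂X).symm.eq]
          _ = _ := by simp only [pow_two, mul_assoc]
      rw [hbv, hsq] at E3
      letI : CommGroup (zc φ) :=
        { (inferInstance : Group (zc φ)) with mul_comm := fun u w => Subtype.ext (hcZ u.2 w.2.1).eq }
      have E4 : (⟨_, b.br_zc h hw₁X hw₂X⟩ : zc φ) *
          ((⟨_, b.br_zc h hv hw₂X⟩ * ⟨_, b.br_zc h hv hw₁X⟩) * (⟨_, b.sq _ hw₂X⟩ * ⟨_, b.sq _ hw₁X⟩)) =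
          (⟨_, b.br_zc h hv hw₂X⟩ * ⟨_, b.sq _ hw₂X⟩) * (⟨_, b.br_zc h hv hw₁X⟩ * ⟨_, b.sq _ hw₁X⟩) := by
        rw [mul_left_comm]
        exact Subtype.ext E3
      rw [mul_mul_mul_comm, mul_eq_right] at E4
      exact congrArg Subtype.val E4
    have hgen : W ≤ (zc φ ⊔ zpowers w₁) ⊔ zpowers w₂ := by
      have h1 := card_sup_invol n₁
      have hw2 : w₂ ∉ zc φ ⊔ zpowers w₁ := fun hm => by
        obtain ⟨e, he, h' | h'⟩ := mem_sup_invol (b.sq _ hw₁X) hm
        · exact n₂ (h' ▸ he)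
        · refine n₃ ?_
          rw [h₃eq, h', mul_assoc e, ← pow_two]
          exact mul_mem hζZ (mul_mem he (b.sq _ hw₁X))
      have h2 := card_sup_invol hw2
      refine (eq_of_le_of_card_ge (sup_le (sup_le hZW (zpowers_le.2 m₁)) (zpowers_le.2 m₂)) ?_).ge
      omega
    have hWc : ∀ u ∈ W, ∀ w ∈ W, u * w = w * u := by
      have hc := comm_closure (S := (zc φ : Set P) ∪ {w₁, w₂}) (by
        rintro u (hu | rfl | rfl) w (hw | rfl | rfl)
        exacts [(hcZ hu hw.1).eq, (hcZ hu hw₁X).eq, (hcZ hu hw₂X).eq, (hcZ hw hw₁X).eq.symm, rfl,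
          br_eq_one.1 e12, (hcZ hw hw₂X).eq.symm, (br_eq_one.1 e12).symm, rfl])
      have hle : (zc φ ⊔ zpowers w₁) ⊔ zpowers w₂ ≤ closure ((zc φ : Set P) ∪ {w₁, w₂}) :=
        sup_le (sup_le (fun z hz => subset_closure (Or.inl hz))
          (zpowers_le.2 (subset_closure (Or.inr (Or.inl rfl)))))
          (zpowers_le.2 (subset_closure (Or.inr (Or.inr rfl))))
      exact fun u hu w hw => hc u (hle (hgen hu)) w (hle (hgen hw))
    refine ⟨hWc, ?_⟩
    have hmul : ∀ u ∈ W, ∀ w ∈ W, br v (u * w) * (u * w) ^ 2 = br v u * u ^ 2 * (br v w * w ^ 2) := by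
      intro u hu w hw
      have hbu := b.br_zc h hv (hWX hu)
      have hbw := b.br_zc h hv (hWX hw)
      have e : br v (u * w) = br v u * (u * br v w * u⁻¹) := by simp only [br]; group
      rw [e, (hcZ hbw (hWX hu)).symm.eq, mul_inv_cancel_right,
        Commute.mul_pow (hWc u hu w hw), (hcZ hbw (pow_mem (hWX hu) 2)).mul_mul_mul_comm]
    let S : Subgroup P :=
      { carrier := {w | w ∈ W ∧ br v w * w ^ 2 ∈ zpowers z₀}
        one_mem' := ⟨one_mem _, by simp [br, one_mem]⟩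
        mul_mem' := by
          rintro u w ⟨hu, hu'⟩ ⟨hw, hw'⟩
          exact ⟨mul_mem hu hw, by rw [hmul u hu w hw]; exact mul_mem hu' hw'⟩
        inv_mem' := by
          rintro u ⟨hu, hu'⟩
          refine ⟨inv_mem hu, ?_⟩
          have e := hmul u hu u⁻¹ (inv_mem hu)
          rw [mul_inv_cancel, show br v (1 : P) = 1 from br_eq_one.2 (by simp), one_pow, mul_one] at e
          rw [eq_inv_of_mul_eq_one_right e.symm]
          exact inv_mem hu' }
    have hS : (zc φ ⊔ zpowers w₁) ⊔ zpowers w₂ ≤ S :=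
      sup_le (sup_le (fun z hz => ⟨hZW hz, by
          rw [br_eq_one.2 (hcZ hz hv).symm.eq, b.el z hz, one_mul]; exact one_mem _⟩)
        (zpowers_le.2 ⟨m₁, by rw [heqn c₁]; exact hz₀ _ _ (b.sq v hv)⟩))
        (zpowers_le.2 ⟨m₂, by rw [heqn c₂]; exact hz₀ _ _ (b.sq v hv)⟩)
    exact fun w hw => (hS (hgen hw)).2
  obtain ⟨v, hv, hvW⟩ := SetLike.exists_of_lt hlt
  obtain ⟨hy, hyy, -⟩ := h.four_cosets hWi hX.inv hWX (by rw [hcardX, hWcard]; ring)
    (fun x hx => b.no_fixed_coset h hWi hWX hZW hx) hv hvW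
  have hvy : v * φ v ∉ W := fun e => by
    have h1 := mul_mem e hyy
    rw [mul_inv_cancel_left] at h1
    exact hy ((hWi.mem_iff _).1 h1)
  have hv' := hX.inv v hv
  obtain ⟨hWc, k1⟩ := key v hv hvW
  obtain ⟨-, k2⟩ := key _ hv' hy
  obtain ⟨-, k3⟩ := key _ (mul_mem hv hv') hvy
  have hq : ∀ w ∈ W, w ^ 2 ∈ zpowers z₀ := by
    intro w hw
    have a1 := b.br_zc h hv (hWX hw)
    have a2 := b.br_zc h hv' (hWX hw)
    have a3 := b.sq w (hWX hw)
    have e : br (v * φ v) w = br (φ v) w * br v w := br_mul_left (hcZ a2 hv).symm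
    have := mul_mem (mul_mem (k3 w hw) (k2 w hw)) (k1 w hw)
    rw [e] at this
    have hc1 : Commute (br v w) (w ^ 2 * br (φ v) w) :=
      (hcZ a1 a3.1).mul_right (hcZ a1 a2.1)
    have h2 : br (φ v) w * br v w * w ^ 2 * (br (φ v) w * w ^ 2) * (br v w * w ^ 2) =
        br (φ v) w ^ 2 * br v w ^ 2 * (w ^ 2) ^ 3 := by
      letI : CommGroup (zc φ) :=
        { (inferInstance : Group (zc φ)) with mul_comm := fun u w => Subtype.ext (hcZ u.2 w.2.1).eq }
      have E : ∀ A B C : zc φ, B * A * C * (B * C) * (A * C) = B ^ 2 * A ^ 2 * C ^ 3 := fun A B C => by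
        simp only [pow_succ, pow_zero, one_mul]
        simp only [mul_comm, mul_left_comm]
      exact congrArg Subtype.val (E ⟨_, a1⟩ ⟨_, a2⟩ ⟨_, a3⟩)
    rw [h2, b.el _ a2, b.el _ a1, one_mul, one_mul, pow_succ, b.el _ a3, one_mul] at this
    exact this
  -- the involutions of `W` are too many
  let f : W →* P :=
    { toFun := fun w => (w : P) ^ 2
      map_one' := one_pow 2
      map_mul' := fun u w => Commute.mul_pow (hWc u u.2 w w.2) 2 }
  have hE := h.small (omega W hWc) (omega_inv hWi hWc).nrm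
    ⟨⟨fun u w => Subtype.ext (hWc u u.2.1 w w.2.1)⟩⟩ fun u hu => hu.2
  have h1 : Nat.card f.ker ≤ Nat.card (omega W hWc) :=
    Nat.card_le_card_of_injective (fun k => ⟨k.1.1, k.1.2, MonoidHom.mem_ker.1 k.2⟩)
      fun u w e => Subtype.ext (Subtype.ext (congrArg (fun t : omega W hWc => (t : P)) e))
  have h2 : Nat.card f.range ≤ orderOf z₀ := by
    rw [← Nat.card_zpowers]
    exact card_le_of_le (by rintro _ ⟨w, rfl⟩; exact hq w w.2)
  have h3 := f.ker.card_mul_index
  rw [Subgroup.index_ker, hWcard] at h3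
  have h4 := Nat.mul_le_mul (h1.trans hE) h2
  rw [h3] at h4
  omega

end Big

end CfsgLib.NormalRankTwo
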