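import Cfsg.Agent.NormalRankTwo.RotatedBig
import Cfsg.Agent.NormalRankTwo.Outer
import Cfsg.Agent.NormalRankTwo.Homocyclic
import Cfsg.Agent.NormalRankTwo.Fusion

/-!
Simple groups whose Sylow 2-subgroup has normal rank two and an automorphism of odd order from its
normalizer: the Sylow 2-subgroup has order 4, 64 or 128.
-/

set_option autoImplicit false
set_option linter.unusedSectionVars false
set_option linter.style.haveILetI false

namespace CfsgLib.NormalRankTwo

open Subgroup
open scoped commutatorElement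

variable {G : Type*} [Group G] [Finite G]

/-- A subgroup containing all elements of prime power order of `N` contains `N`. -/
theorem le_of_prime_pow (N S : Subgroup G)
    (h : ∀ q k : ℕ, q.Prime → ∀ g ∈ N, g ^ q ^ k = 1 → g ∈ S) : N ≤ S := by
  intro g hg
  induction hn : orderOf g using Nat.strong_induction_on generalizing g with
  | _ n ih =>
    by_cases hn1 : n = 1
    · rw [orderOf_eq_one_iff.1 (hn.trans hn1)]; exact one_mem _
    have hn0 : n ≠ 0 := hn ▸ (orderOf_pos g).ne'
    have hq : n.minFac.Prime := Nat.minFac_prime hn1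
    obtain ⟨k, m, hm, hnm⟩ := Nat.exists_eq_pow_mul_and_not_dvd hn0 n.minFac hq.ne_one
    have hk : k ≠ 0 := fun e => hm (by
      rw [e, pow_zero, one_mul] at hnm
      exact hnm ▸ Nat.minFac_dvd n)
    have hpow : g ^ (n.minFac ^ k * m) = 1 := by rw [← hnm, ← hn]; exact pow_orderOf_eq_one g
    have h1 : g ^ m ∈ S := h n.minFac k hq _ (pow_mem hg m) (by rw [← pow_mul, mul_comm]; exact hpow)
    have h2 : g ^ (n.minFac ^ k) ∈ S := by
      refine ih _ ?_ (pow_mem hg _) rfl
      have hd : orderOf (g ^ (n.minFac ^ k)) ∣ m :=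
        orderOf_dvd_of_pow_eq_one (by rw [← pow_mul]; exact hpow)
      have hm0 : 0 < m := Nat.pos_of_ne_zero fun e => hn0 (by rw [hnm, e, mul_zero])
      refine lt_of_le_of_lt (Nat.le_of_dvd hm0 hd) ?_
      conv_rhs => rw [hnm]
      exact lt_mul_of_one_lt_left hm0 (Nat.one_lt_pow hk hq.one_lt)
    have hcop : Nat.Coprime (n.minFac ^ k) m := (hq.coprime_iff_not_dvd.2 hm).pow_left k
    have hb := Nat.gcd_eq_gcd_ab (n.minFac ^ k) m
    rw [hcop.gcd_eq_one, Nat.cast_one] at hb
    have := mul_mem (zpow_mem h2 (Nat.gcdA (n.minFac ^ k) m)) (zpow_mem h1 (Nat.gcdB (n.minFac ^ k) m))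
    rwa [← zpow_natCast g, ← zpow_natCast g, ← zpow_mul, ← zpow_mul, ← zpow_add, ← hb, zpow_one]
      at this

variable [IsSimpleGroup G]

theorem card_cases (hna : ¬ IsMulCommutative G) (T : Sylow 2 G)
    (hsmall : ∀ A : Subgroup ↥T, A.Normal → IsMulCommutative A → (∀ u ∈ A, u ^ 2 = 1) → Nat.card A ≤ 4)
    (hN : ¬ normalizer ((T : Subgroup G) : Set G) ≤
      (T : Subgroup G) ⊔ centralizer ((T : Subgroup G) : Set G)) :
    Nat.card ↥T = 4 ∨ Nat.card ↥T = 64 ∨ Nat.card ↥T = 128 := by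
  classical
  haveI : Fact (Nat.Prime 2) := ⟨Nat.prime_two⟩
  set N := normalizer ((T : Subgroup G) : Set G) with hNdef
  have htwo : ∀ g ∈ N, ∀ k, g ^ 2 ^ k = 1 → g ∈ (T : Subgroup G) := fun g hg k hk => by
    have hgp : IsPGroup 2 (zpowers g) := fun y => by
      obtain ⟨j, hj⟩ := mem_zpowers_iff.1 y.2
      exact ⟨k, Subtype.ext (by
        rw [Subgroup.coe_pow, ← hj, ← zpow_natCast, ← zpow_mul, mul_comm, zpow_mul, zpow_natCast, hk,
          one_zpow, Subgroup.coe_one])⟩
    have h1 : g ∈ zpowers g ⊓ normalizer ((T : Subgroup G) : Set G) := ⟨mem_zpowers g, hg⟩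
    exact ((hgp.inf_normalizer_sylow T).le h1).2
  -- automorphisms induced by the normalizer
  have hauto : ∀ g ∈ N, ∀ p k : ℕ, p.Prime → p ≠ 2 → g ^ p ^ k = 1 →
      ∃ φ : MulAut ↥T, (∀ x : ↥T, (φ x : G) = g * x * g⁻¹) ∧ Hyp φ := by
    intro g hg p k hp hp2 hk
    let φ : MulAut ↥T :=
      { toFun := fun x => ⟨g * x * g⁻¹, (mem_normalizer_iff.1 hg _).1 x.2⟩
        invFun := fun x => ⟨g⁻¹ * x * g, (mem_normalizer_iff.1 hg _).2 (by
          show g * (g⁻¹ * (x : G) * g) * g⁻¹ ∈ (T : Subgroup G)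
          rw [show g * (g⁻¹ * (x : G) * g) * g⁻¹ = x by group]; exact x.2)⟩
        left_inv := fun x => Subtype.ext (show g⁻¹ * (g * (x : G) * g⁻¹) * g = x by group)
        right_inv := fun x => Subtype.ext (show g * (g⁻¹ * (x : G) * g) * g⁻¹ = x by group)
        map_mul' := fun x y => Subtype.ext (show g * ((x : G) * y) * g⁻¹ = g * x * g⁻¹ * (g * y * g⁻¹) by
          group) }
    refine ⟨φ, fun x => rfl, T.2, hsmall, p, k, hp, hp2, ?_⟩
    have key : ∀ (j : ℕ) (x : ↥T), (((φ ^ j) x : ↥T) : G) = g ^ j * x * (g ^ j)⁻¹ := fun j => by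
      induction j with
      | zero => intro x; simp
      | succ j ih =>
        intro x
        rw [pow_succ', MulAut.mul_apply]
        show g * (((φ ^ j) x : ↥T) : G) * g⁻¹ = _
        rw [ih, pow_succ']; group
    exact MulEquiv.ext fun x => Subtype.ext (by rw [key, hk]; simp)
  by_cases hrot : ∃ g ∈ N, (∃ p k : ℕ, p.Prime ∧ p ≠ 2 ∧ g ^ p ^ k = 1) ∧
      ∃ e ∈ center ↥T, e ^ 2 = 1 ∧ g * (e : G) * g⁻¹ ≠ e
  · obtain ⟨g, hg, ⟨p, k, hp, hp2, hk⟩, e, hec, he2, hee⟩ := hrot
    obtain ⟨φ, hφ, hyp⟩ := hauto g hg p k hp hp2 hk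
    have r : Rotated φ := ⟨hyp, e, hec, he2, fun h => hee (by rw [← hφ, h])⟩
    by_cases hab : ∀ a ∈ moved φ, ∀ b ∈ moved φ, a * b = b * a
    · left
      refine homocyclic_case hna T φ hyp g hg hφ hab ?_ ?_ ?_ ?_
      · intro hb
        have := card_le_of_le r.vz_le_moved
        rw [r.card_vz, hb, card_bot] at this
        omega
      · intro x hx hfx
        refine mem_bot.1 (hyp.fixed_mem (bot_inv φ) (Subgroup.commutator_le.2 fun a ha b hb => ?_) hx hfx)
        rw [mem_bot, commutatorElement_def]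
        exact br_eq_one.2 (hab a ha b hb)
      · exact fun x hx hx2 => (r.invol_mem (moved_inv φ) hab hx hx2).1
      · exact fun u huc hu2 => r.vz_le_moved ⟨huc, hu2⟩
    · push Not at hab
      obtain ⟨hB, h4⟩ := r.big hab
      have hidx := hB.index_le_two hyp
      have hc := (moved φ).card_mul_index
      rw [hB.sixteen, h4] at hc
      have h0 : (moved φ).index ≠ 0 := index_ne_zero_of_finite
      rcases (show (moved φ).index = 1 ∨ (moved φ).index = 2 by omega) with hi | hi <;> rw [hi] at hc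
      · exact Or.inr (Or.inl hc.symm)
      · exact Or.inr (Or.inr hc.symm)
  · push Not at hrot
    have hfixN : ∀ g : G, g ∈ N → ∀ e ∈ center ↥T, e ^ 2 = 1 → g * (e : G) * g⁻¹ = e := by
      let S : Subgroup G := centralizer {u : G | ∃ e ∈ center ↥T, e ^ 2 = 1 ∧ (e : G) = u}
      have hS : N ≤ S := le_of_prime_pow N S fun q k hq g hg hk => by
        refine mem_centralizer_iff.2 ?_
        rintro _ ⟨e, he, he2, rfl⟩
        by_cases hq2 : q = 2
        · subst hq2
          have hgT := htwo g hg k hk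
          exact congrArg Subtype.val (mem_center_iff.1 he ⟨g, hgT⟩).symm
        · exact (mul_inv_eq_iff_eq_mul.1 (hrot g hg ⟨q, k, hq, hq2, hk⟩ e he he2)).symm
      intro g hg e he he2
      rw [← mem_centralizer_iff.1 (hS hg) (e : G) ⟨e, he, he2, rfl⟩, mul_inv_cancel_right]
    obtain ⟨q, k, hq, g, hg, hk, hgTC⟩ : ∃ q k : ℕ, q.Prime ∧ ∃ g ∈ N, g ^ q ^ k = 1 ∧
        g ∉ (T : Subgroup G) ⊔ centralizer ((T : Subgroup G) : Set G) := by
      by_contra hno
      push Not at hno
      exact hN (le_of_prime_pow N _ hno)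
    have hq2 : q ≠ 2 := fun e => hgTC (mem_sup_left (htwo g hg k (e ▸ hk)))
    obtain ⟨φ, hφ, hyp⟩ := hauto g hg q k hq hq2 hk
    have c : FixedCentre φ := ⟨hyp, fun e he he2 => Subtype.ext (by rw [hφ]; exact hfixN g hg e he he2)⟩
    have hne : moved φ ≠ ⊥ := fun hb => hgTC (mem_sup_right (mem_centralizer_iff.2 fun x hx => by
      have h1 := mem_moved φ (⟨x, hx⟩ : ↥T)
      rw [hb, mem_bot, inv_mul_eq_one] at h1
      have h2 : g * x * g⁻¹ = x := by rw [← hφ ⟨x, hx⟩, ← h1]
      exact (mul_inv_eq_iff_eq_mul.1 h2).symm))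
    rcases c.cases hne with ⟨a, qa⟩ | ⟨hB, h24⟩
    · exact (quat_false hna T φ c qa hfixN).elim
    have hidx := hB.index_le_two hyp
    have hc := (moved φ).card_mul_index
    rw [hB.sixteen] at hc
    have h0 : (moved φ).index ≠ 0 := index_ne_zero_of_finite
    rcases h24 with h4 | h4 <;> rw [h4] at hc <;>
      rcases (show (moved φ).index = 1 ∨ (moved φ).index = 2 by omega) with hi | hi <;> rw [hi] at hc
    · exfalso
      have htop : moved φ = ⊤ := index_eq_one.1 hi
      haveI := (moved_inv φ).nrm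
      obtain ⟨a, haX, hac, ha2, ha1⟩ := exists_central_invol hyp.two (moved φ) hne
      have haZ : a ∈ zc φ := ⟨haX, mem_centralizer_iff.2 fun u _ => mem_center_iff.1 hac u⟩
      have hZ : ∀ z ∈ zc φ, z = 1 ∨ z = a := fun z hz => by
        have hle : zpowers a ≤ zc φ := zpowers_le.2 haZ
        have heq : zpowers a = zc φ := eq_of_le_of_card_ge hle (by
          rw [h4, Nat.card_zpowers, orderOf_eq_prime (p := 2) ha2 ha1])
        rw [← heq] at hz
        obtain ⟨j, rfl⟩ := mem_zpowers_iff.1 hz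
        rcases Int.even_or_odd j with ⟨i, rfl⟩ | ⟨i, rfl⟩
        · left; rw [← two_mul, zpow_mul, zpow_ofNat, ha2, one_zpow]
        · right; rw [zpow_add, zpow_mul, zpow_ofNat, ha2, one_zpow, one_mul, zpow_one]
      exact thirtytwo_false hna T hc.symm ha1
        (fun z hz => hZ z ⟨htop ▸ mem_top z, mem_centralizer_iff.2 fun u _ => mem_center_iff.1 hz u⟩)
        hac (fun x => hZ _ (hB.sq x (htop ▸ mem_top x))) hsmall
    · exact Or.inr (Or.inl hc.symm)
    · exact Or.inr (Or.inl hc.symm)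
    · exact Or.inr (Or.inr hc.symm)

end CfsgLib.NormalRankTwo
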