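import Cfsg.Agent.NormalRankTwo.Invols
import Cfsg.Agent.ScnThree.Module

/-!
The case in which the automorphism rotates the central four-group.
-/

set_option autoImplicit false
set_option linter.unusedSectionVars false
set_option linter.style.haveILetI false

namespace CfsgLib.NormalRankTwo

open Subgroup
open scoped IsMulCommutative

variable {P : Type*} [Group P] [Finite P] {φ : MulAut P}

theorem center_comm : ∀ a ∈ center P, ∀ b ∈ center P, a * b = b * a := fun a _ _ hb =>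
  mem_center_iff.1 hb a

theorem center_inv (φ : MulAut P) : Inv φ (center P) :=
  ⟨inferInstance, fun x hx => mem_center_iff.2 fun g => by
    obtain ⟨g, rfl⟩ := φ.surjective g
    rw [← map_mul, mem_center_iff.1 hx, map_mul]⟩

/-- The central involutions and the identity. -/
def vz (P : Type*) [Group P] [Finite P] : Subgroup P := omega (center P) center_comm

theorem mem_vz {x : P} : x ∈ vz P ↔ x ∈ center P ∧ x ^ 2 = 1 := Iff.rfl

theorem vz_inv (φ : MulAut P) : Inv φ (vz P) := omega_inv (center_inv φ) _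

theorem vz_le_center : vz P ≤ center P := fun _ hx => hx.1

/-- A central involution is moved. -/
structure Rotated (φ : MulAut P) : Prop where
  hyp : Hyp φ
  moves : ∃ e ∈ center P, e ^ 2 = 1 ∧ φ e ≠ e

namespace Rotated

variable (r : Rotated φ)
include r

theorem card_vz_le : Nat.card (vz P) ≤ 4 := omega_small r.hyp (center_inv φ) _

theorem exists_gen : ∃ e ∈ vz P, e ≠ 1 ∧ φ e ≠ e ∧ φ (φ (φ e)) = e ∧
    ∀ y ∈ vz P, y = 1 ∨ y = e ∨ y = φ e ∨ y = φ (φ e) := by
  obtain ⟨e, hec, he2, hee⟩ := r.moves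
  have he : e ∈ vz P := ⟨hec, he2⟩
  have he1 : e ≠ 1 := fun e' => hee (by rw [e', map_one])
  have hf := (vz_inv φ).inv e he
  have hf1 : φ e ≠ 1 := fun e' => he1 (φ.map_eq_one_iff.1 e')
  have four := fun y hy => four_mem r.card_vz_le (fun _ h => h.2) he hf he1 hf1 (Ne.symm hee) (y := y) hy
  have hff : φ (φ e) = e * φ e := by
    rcases four _ ((vz_inv φ).inv _ hf) with e' | e' | e' | e'
    · exact absurd (φ.map_eq_one_iff.1 e') hf1
    · exact absurd (r.hyp.fixed_of_sq e') hee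
    · exact absurd (φ.injective e') hee
    · exact e'
  refine ⟨e, he, he1, hee, ?_, hff ▸ four⟩
  rw [hff, map_mul, hff, ← mul_assoc, mem_center_iff.1 hec (φ e), mul_assoc, ← pow_two, hf.2, mul_one]

theorem fixed_vz {v : P} (hv : v ∈ vz P) (h : φ v = v) : v = 1 := by
  obtain ⟨e, -, -, hee, -, four⟩ := r.exists_gen
  rcases four v hv with rfl | rfl | rfl | rfl
  · rfl
  · exact absurd h hee
  · exact absurd (φ.injective h) hee
  · exact absurd (φ.injective (φ.injective h)) hee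

theorem cube_vz {v : P} (hv : v ∈ vz P) : φ (φ (φ v)) = v := by
  obtain ⟨e, -, -, -, h3, four⟩ := r.exists_gen
  rcases four v hv with rfl | rfl | rfl | rfl
  · simp
  · exact h3
  · rw [h3]
  · rw [h3]

theorem four_vz {v : P} (hv : v ∈ vz P) (hv1 : v ≠ 1) :
    ∀ y ∈ vz P, y = 1 ∨ y = v ∨ y = φ v ∨ y = φ (φ v) := by
  obtain ⟨e, -, -, -, h3, four⟩ := r.exists_gen
  intro y hy
  rcases four v hv with rfl | rfl | rfl | rfl
  · exact absurd rfl hv1
  · exact four y hy
  · rw [h3]; rcases four y hy with h' | h' | h' | h' <;> simp [h']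
  · rw [h3]; rcases four y hy with h' | h' | h' | h' <;> simp [h']

theorem card_vz : Nat.card (vz P) = 4 := by
  classical
  refine le_antisymm r.card_vz_le ?_
  obtain ⟨e, he, he1, hee, -, -⟩ := r.exists_gen
  have hf := (vz_inv φ).inv e he
  have hg := (vz_inv φ).inv _ hf
  have n1 : φ e ≠ 1 := fun e' => he1 (φ.map_eq_one_iff.1 e')
  have n2 : φ (φ e) ≠ 1 := fun e' => n1 (φ.map_eq_one_iff.1 e')
  have n3 : φ (φ e) ≠ φ e := fun e' => hee (φ.injective e')
  have n4 : φ (φ e) ≠ e := fun e' => hee (r.hyp.fixed_of_sq e')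
  have hd : ({1, e, φ e, φ (φ e)} : Finset P).card = 4 := by
    rw [Finset.card_insert_of_notMem, Finset.card_insert_of_notMem, Finset.card_pair n3.symm]
    · simp only [Finset.mem_insert, Finset.mem_singleton, not_or]
      exact ⟨Ne.symm hee, n4.symm⟩
    · simp only [Finset.mem_insert, Finset.mem_singleton, not_or]
      exact ⟨he1.symm, n1.symm, n2.symm⟩
  rw [← hd, ← Nat.card_eq_finsetCard]
  refine Nat.card_le_card_of_injective (fun z => (⟨z.1, ?_⟩ : vz P)) fun u v e' =>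
    Subtype.ext (id (congrArg Subtype.val e' :))
  have hz := z.2
  simp only [Finset.mem_insert, Finset.mem_singleton] at hz
  rcases hz with e' | e' | e' | e' <;> rw [e'] <;> first | exact (vz P).one_mem | assumption

theorem vz_le_moved : vz P ≤ moved φ := by
  obtain ⟨e, he, he1, hee, -, four⟩ := r.exists_gen
  have hu : e⁻¹ * φ e ∈ vz P := mul_mem (inv_mem he) ((vz_inv φ).inv e he)
  have hu1 : e⁻¹ * φ e ≠ 1 := fun e' => hee (inv_mul_eq_one.1 e').symm
  have hm := mem_moved φ e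
  intro y hy
  rcases r.four_vz hu hu1 y hy with e' | e' | e' | e' <;> rw [e']
  · exact one_mem _
  · exact hm
  · exact (moved_inv φ).inv _ hm
  · exact (moved_inv φ).inv _ ((moved_inv φ).inv _ hm)

theorem omega_eq {N : Subgroup P} (hN : Inv φ N) (hc : ∀ a ∈ N, ∀ b ∈ N, a * b = b * a) (hne : N ≠ ⊥) :
    omega N hc = vz P := by
  have hO := omega_inv hN hc
  haveI := hO.nrm
  have hone : omega N hc ≠ ⊥ := fun hb => by
    obtain ⟨n, hn, hn1⟩ := (bot_or_exists_ne_one N).resolve_left hne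
    obtain ⟨k, hk⟩ := r.hyp.two n
    induction k generalizing n with
    | zero => exact hn1 (by simpa using hk)
    | succ k ih =>
      by_cases h2 : n ^ 2 = 1
      · exact hn1 (mem_bot.1 (hb ▸ (⟨hn, h2⟩ : n ∈ omega N hc)))
      · exact ih (n ^ 2) (pow_mem hn 2) h2 (by rw [← pow_mul, ← pow_succ']; exact hk)
  obtain ⟨z, hz, hzc, hz2, hz1⟩ := exists_central_invol r.hyp.two (omega N hc) hone
  refine (eq_of_le_of_card_ge (fun y hy => ?_) ((omega_small r.hyp hN hc).trans r.card_vz.ge)).symm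
  rcases r.four_vz ⟨hzc, hz2⟩ hz1 y hy with e | e | e | e <;> rw [e]
  · exact one_mem _
  · exact hz
  · exact hO.inv _ hz
  · exact hO.inv _ (hO.inv _ hz)

theorem invol_mem {N : Subgroup P} (hN : Inv φ N) (hc : ∀ a ∈ N, ∀ b ∈ N, a * b = b * a) {x : P}
    (hx : x ∈ N) (hx2 : x ^ 2 = 1) : x ∈ vz P := by
  by_cases hne : N = ⊥
  · rw [hne, mem_bot] at hx; rw [hx]; exact one_mem _
  rw [← r.omega_eq hN hc hne]; exact ⟨hx, hx2⟩

theorem vz_le {N : Subgroup P} (hN : Inv φ N) (hc : ∀ a ∈ N, ∀ b ∈ N, a * b = b * a) (hne : N ≠ ⊥) :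
    vz P ≤ N := by
  rw [← r.omega_eq hN hc hne]; exact fun _ hx => hx.1

theorem fpf {N : Subgroup P} (hN : Inv φ N) (hc : ∀ a ∈ N, ∀ b ∈ N, a * b = b * a) {n : P}
    (hn : n ∈ N) (hf : φ n = n) : n = 1 := by
  obtain ⟨k, hk⟩ := r.hyp.two n
  induction k generalizing n with
  | zero => simpa using hk
  | succ k ih =>
    have h2 := ih (pow_mem hn 2) (by rw [map_pow, hf]) (by rw [← pow_mul, ← pow_succ']; exact hk)
    exact r.fixed_vz (r.invol_mem hN hc hn h2) hf

theorem cube {N : Subgroup P} (hN : Inv φ N) (hc : ∀ a ∈ N, ∀ b ∈ N, a * b = b * a) {n : P}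
    (hn : n ∈ N) : φ (φ (φ n)) = n := by
  obtain ⟨p, k, hp, hp2, hk⟩ := r.hyp.order
  have h' : Hyp (φ ^ 3) :=
    ⟨r.hyp.two, r.hyp.small, p, k, hp, hp2, by rw [← pow_mul, mul_comm, pow_mul, hk, one_pow]⟩
  have hN3 : Inv (φ ^ 3) N := ⟨hN.nrm, fun x hx => hN.pow_mem 3 hx⟩
  exact h'.fix_of_invol hN3 hc (fun e he he2 => r.cube_vz (r.invol_mem hN hc he he2)) n hn

theorem three : ∃ k : ℕ, φ ^ 3 ^ k = 1 := by
  obtain ⟨p, k, hp, hp2, hk⟩ := r.hyp.order
  obtain ⟨e, he, -, hee, h3, -⟩ := r.exists_gen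
  suffices p = 3 from ⟨k, this ▸ hk⟩
  by_contra hp3
  refine hee ?_
  have hd : Function.minimalPeriod φ e ∣ Nat.gcd 3 (p ^ k) := Nat.dvd_gcd
    (Function.IsPeriodicPt.minimalPeriod_dvd (show φ^[3] e = e from h3))
    (Function.IsPeriodicPt.minimalPeriod_dvd (show φ^[p ^ k] e = e by
      have key : ∀ j, φ^[j] e = (φ ^ j) e := fun j => by
        induction j with
        | zero => rfl
        | succ j ih => rw [Function.iterate_succ_apply', pow_succ', MulAut.mul_apply, ih]
      rw [key, hk]; rfl))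
  rw [show Nat.gcd 3 (p ^ k) = 1 from
    ((Nat.coprime_primes Nat.prime_three hp).2 (Ne.symm hp3)).pow_right k, Nat.dvd_one,
    Function.minimalPeriod_eq_one_iff_isFixedPt] at hd
  exact hd

/-- The restriction of the automorphism to an invariant abelian subgroup. -/
def tau {M : Subgroup P} [IsMulCommutative M] (hM : Inv φ M) : M ≃* M where
  toFun m := ⟨φ m.1, hM.inv _ m.2⟩
  invFun m := ⟨φ (φ m.1), hM.inv _ (hM.inv _ m.2)⟩
  left_inv m := Subtype.ext (r.cube hM (fun a ha b hb => congrArg Subtype.val (mul_comm (⟨a, ha⟩ : M) ⟨b, hb⟩)) m.2)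
  right_inv m := Subtype.ext (r.cube hM (fun a ha b hb => congrArg Subtype.val (mul_comm (⟨a, ha⟩ : M) ⟨b, hb⟩)) m.2)
  map_mul' a b := Subtype.ext (map_mul φ a.1 b.1)

theorem tau_coe {M : Subgroup P} [IsMulCommutative M] (hM : Inv φ M) (m : M) :
    ((r.tau hM m : M) : P) = φ (m : P) := rfl

theorem rot3 {M : Subgroup P} [IsMulCommutative M] (hM : Inv φ M) :
    CfsgLib.ScnThree.Rot3 (r.tau hM) := by
  have hc : ∀ a ∈ M, ∀ b ∈ M, a * b = b * a := fun a ha b hb =>
    congrArg Subtype.val (mul_comm (⟨a, ha⟩ : M) ⟨b, hb⟩)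
  refine ⟨r.hyp.two.to_subgroup M, fun m => Subtype.ext (r.cube hM hc m.2),
    fun m hm => Subtype.ext (r.fpf hM hc m.2 (congrArg Subtype.val hm)), fun e he he1 y hy => ?_⟩
  have memV : ∀ z : M, z ^ 2 = 1 → (z : P) ∈ vz P := fun z hz =>
    r.invol_mem hM hc z.2 (by rw [← Subgroup.coe_pow, hz, Subgroup.coe_one])
  rcases r.four_vz (memV e he) (fun e' => he1 (Subtype.ext e')) _ (memV y hy) with h | h | h | h
  · exact Or.inl (Subtype.ext h)
  · exact Or.inr (Or.inl (Subtype.ext h))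
  · exact Or.inr (Or.inr (Or.inl (Subtype.ext h)))
  · exact Or.inr (Or.inr (Or.inr (Subtype.ext h)))

end Rotated

end CfsgLib.NormalRankTwo
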