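import Cfsg.Agent.NormalRankTwo.Exponent
import Cfsg.Agent.NormalRankTwo.FixedCentre

/-!
The rotated case with nonabelian moved subgroup: it has order 64 with centre the central four-group.
-/

set_option autoImplicit false
set_option linter.unusedSectionVars false
set_option linter.style.haveILetI false

namespace CfsgLib.NormalRankTwo

open Subgroup
open CfsgLib.ScnThree (Expo D D_coe D_comp D_eq_one_iff D_mem)
open scoped IsMulCommutative commutatorElement

variable {P : Type*} [Group P] [Finite P] {φ : MulAut P} {M : Subgroup P}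

namespace Rotated

variable (r : Rotated φ)
include r

theorem central_case (c : Central φ) (hm : MaxAb φ (zc φ))
    (hna : ∃ a ∈ moved φ, ∃ b ∈ moved φ, a * b ≠ b * a) : Big φ ∧ Nat.card (zc φ) = 4 := by
  rcases hm.block r (moved_inv φ) (zc_le φ) le_rfl (fun k hk m hm' => (zc_comm hm' hk).eq.symm)
      (fun k hk => c.sq_mem hk) (fun k hk x hx => c.br_mem hk hx) with h | ⟨h, h64⟩
  · obtain ⟨a, ha, b, hb, hab⟩ := hna
    exact absurd (zc_comm (h ▸ ha) hb).eq hab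
  · have h4 : Nat.card (zc φ) = 4 := h ▸ r.card_vz
    exact ⟨⟨fun z hz => (h ▸ hz : z ∈ vz P).2, fun x hx => c.sq_mem hx, by rw [h64, h4]⟩, h4⟩

theorem self_cent (hm : MaxAb φ M) (hMV : M ≠ vz P) {x : P} (hx : x ∈ moved φ)
    (hxc : ∀ m ∈ M, x * m = m * x) : x ∈ M := by
  haveI := hm.inv.nrm
  haveI := (moved_inv φ).nrm
  set C := moved φ ⊓ centralizer (M : Set P) with hC
  have hCi : Inv φ C := (moved_inv φ).inf hm.inv.centralizer
  haveI := hCi.nrm
  have hcC : ∀ {k}, k ∈ C → ∀ m ∈ M, k * m = m * k := fun {k} hk m hm' =>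
    (mem_centralizer_iff.1 hk.2 m hm').symm
  have hMC : M ≤ C := fun m hm' => ⟨hm.le hm', mem_centralizer_iff.2 fun n hn => hm.comm n hn m hm'⟩
  by_contra hxM
  have hlt : M < C := lt_of_le_of_ne hMC fun e => hxM (e.symm ▸
    ⟨hx, mem_centralizer_iff.2 fun m hm' => (hxc m hm').symm⟩)
  obtain ⟨y, hyC, hyM, hy2, hyc⟩ := exists_central_sq r.hyp.two M C hlt
  let K : Subgroup P :=
    { carrier := {k | k ∈ C ∧ k ^ 2 ∈ M ∧ ∀ g : P, br k g ∈ M}
      one_mem' := ⟨one_mem _, by simp [one_mem], fun g => by simp [br_one_left, one_mem]⟩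
      mul_mem' := by
        rintro a b ⟨ha, ha2, hac⟩ ⟨hb, hb2, hbc⟩
        refine ⟨mul_mem ha hb, ?_, fun g => ?_⟩
        · have e : (a * b) ^ 2 = br b a * (a ^ 2 * b ^ 2) := by
            calc (a * b) ^ 2 = a * br b a * a * b * b := by rw [pow_two, br]; group
              _ = br b a * a * a * b * b := by rw [hcC ha _ (hbc a)]
              _ = _ := by simp only [pow_two, mul_assoc]
          rw [e]; exact mul_mem (hbc a) (mul_mem ha2 hb2)
        · have e : br (a * b) g = a * br b g * a⁻¹ * br a g := by simp only [br]; group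
          rw [e]; exact mul_mem (hm.inv.nrm.conj_mem _ (hbc g) a) (hac g)
      inv_mem' := by
        rintro a ⟨ha, ha2, hac⟩
        refine ⟨inv_mem ha, by rw [inv_pow]; exact inv_mem ha2, fun g => ?_⟩
        have e : br a⁻¹ g = a⁻¹ * (br a g)⁻¹ * a⁻¹⁻¹ := by simp only [br]; group
        rw [e]; exact hm.inv.nrm.conj_mem _ (inv_mem (hac g)) a⁻¹ }
  have hK : Inv φ K := by
    refine ⟨⟨?_⟩, ?_⟩
    · rintro a ⟨ha, ha2, hac⟩ g
      refine ⟨hCi.nrm.conj_mem a ha g, by rw [conj_pow]; exact hm.inv.nrm.conj_mem _ ha2 g, fun h => ?_⟩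
      have e : br (g * a * g⁻¹) h = g * br a (g⁻¹ * h * g) * g⁻¹ := by simp only [br]; group
      rw [e]; exact hm.inv.nrm.conj_mem _ (hac _) g
    · rintro a ⟨ha, ha2, hac⟩
      refine ⟨hCi.inv a ha, by rw [← map_pow]; exact hm.inv.inv _ ha2, fun g => ?_⟩
      obtain ⟨h, rfl⟩ := φ.surjective g
      rw [← map_br]; exact hm.inv.inv _ (hac h)
  have hMK : M ≤ K := fun m hm' => ⟨hMC hm', pow_mem hm' 2, fun g => br_mem_of_mem hm' g⟩
  rcases hm.block r hK hMK (fun k hk => hk.1.1) (fun k hk => hcC hk.1) (fun k hk => hk.2.1)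
      (fun k hk g _ => hk.2.2 g) with h | ⟨h, -⟩
  · exact hyM (h ▸ (⟨hyC, hy2, hyc⟩ : y ∈ K))
  · exact hMV h

theorem noncentral_case (hm : MaxAb φ M) (hnc : ¬ M ≤ zc φ) : Big φ ∧ Nat.card (zc φ) = 4 := by
  haveI := hm.inv.nrm
  haveI : IsMulCommutative M := ⟨⟨fun a b => Subtype.ext (hm.comm a a.2 b b.2)⟩⟩
  have hMV : M ≠ vz P := fun e => hnc (e ▸ vz_le_zc r)
  have hV := hm.vz_le r
  have hC : ∀ x ∈ moved φ, (∀ m ∈ M, x * m = m * x) → x ∈ M := fun x hx h => r.self_cent hm hMV hx h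
  have hlt : M < moved φ := lt_of_le_of_ne hm.le fun e => hnc fun m hm' =>
    ⟨hm.le hm', mem_centralizer_iff.2 fun g hg => hm.comm g (e ▸ hg) m hm'⟩
  have R3 := r.rot3 hm.inv
  haveI : Nontrivial M := by
    refine M.nontrivial_iff_ne_bot.2 fun hb => ?_
    have := card_le_of_le hV
    rw [r.card_vz, hb, card_bot] at this
    omega
  obtain ⟨n, hn⟩ := CfsgLib.ScnThree.exists_expo R3.two
  have hn1 : 1 ≤ n := Nat.one_le_iff_ne_zero.2 fun h0 => hMV (le_antisymm (fun m hm' =>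
    r.invol_mem hm.inv hm.comm hm' (by simpa [h0] using congrArg Subtype.val (hn.1 ⟨m, hm'⟩))) hV)
  obtain rfl : n = 1 := le_antisymm (r.exponent_le_four hm.inv hn hV hlt hC) hn1
  set τ := r.tau hm.inv with hτ
  have hinvol : ∀ p : M, p ^ 2 = 1 → (p : P) ∈ vz P := fun p hp =>
    r.invol_mem hm.inv hm.comm p.2 (by rw [← Subgroup.coe_pow, hp, Subgroup.coe_one])
  have hD2 : ∀ (x : P) (p : M), D x p ^ 2 = 1 := fun x p => by
    rw [← map_pow]
    refine D_eq_one_iff.2 (mem_center_iff.1 (hinvol (p ^ 2) ?_).1 x)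
    rw [← pow_mul]; exact hn.1 p
  have hD1 : ∀ (x : P) (p : M), p ^ 2 = 1 → D x p = 1 := fun x p hp =>
    D_eq_one_iff.2 (mem_center_iff.1 (hinvol p hp).1 x)
  have hhom : ∀ (x y : P) (p : M), D (x * y) p = D x p * D y p := fun x y p => by
    rw [D_comp, hD1 x _ (hD2 y p), mul_one]
  have hT : ∀ x ∈ moved φ, ∀ p : M, D x p * τ (D x (τ (τ p))) * τ (τ (D x (τ p))) = 1 :=
    fun x hx p => by
    refine Subgroup.mem_bot.1 (r.T_mem hm.inv ⊥ (fun q hq => ?_) (fun y _ z _ s => ?_) hx p)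
    · rw [Subgroup.mem_bot.1 hq, map_one]; exact one_mem _
    · rw [hD1 y _ (hD2 z s)]; exact one_mem _
  have hinv2 : ∀ e : M, e ^ 2 = 1 → e⁻¹ = e := fun e he =>
    inv_eq_of_mul_eq_one_right (by rw [← pow_two]; exact he)
  have hzero : ∀ x ∈ moved φ, ∀ s : M, s ^ 2 ≠ 1 → D x s = 1 → x ∈ M := by
    intro x hx s hs hs1
    have h1 := hT x hx s
    rw [hs1, one_mul, R3.tt s, map_inv, map_mul, hs1, one_mul, hinv2 _ (hD2 x _)] at h1
    set e := D x (τ s) with he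
    have he1 : e = 1 := by
      refine R3.fixed e (τ.injective ?_)
      have := eq_inv_of_mul_eq_one_right h1
      rw [this, hinv2 _ (by rw [← map_pow, hD2, map_one])]
    refine hC x hx fun m hm' => (D_eq_one_iff (p := (⟨m, hm'⟩ : M))).1 ?_
    have htop := R3.gen hn s (by simpa using hs) (D x).ker hs1 he1
    exact MonoidHom.mem_ker.1 (htop ▸ mem_top (⟨m, hm'⟩ : M))
  obtain ⟨s, hs⟩ := hn.2
  rw [pow_one] at hs
  let f : ↥(moved φ) →* M :=
    { toFun := fun x => D (x : P) s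
      map_one' := D_mem M.one_mem s
      map_mul' := fun x y => hhom x y s }
  have hker : f.ker = M.subgroupOf (moved φ) :=
    le_antisymm (fun (x : moved φ) hx => hzero (x : P) x.2 s hs hx)
      fun (x : moved φ) hx => D_mem (mem_subgroupOf.1 hx) s
  set π := (powMonoidHom 2 : M →* M)
  have hπker : Nat.card π.ker = 4 := by
    rw [← r.card_vz]
    exact Nat.card_congr ⟨fun e => ⟨e.1.1, hinvol e.1 (MonoidHom.mem_ker.1 e.2)⟩,
      fun e => ⟨⟨e.1, hV e.2⟩, MonoidHom.mem_ker.2 (Subtype.ext e.2.2)⟩, fun e => rfl, fun e => rfl⟩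
  have hMcard : Nat.card M = 16 := by
    have h1 := π.ker.card_mul_index
    rw [Subgroup.index_ker] at h1
    have h2 : Nat.card (powMonoidHom (2 ^ 1) : M →* M).range = Nat.card π.ker := by
      rw [R3.range_top hn]
    rw [show (2 : ℕ) ^ 1 = 2 from rfl] at h2
    rw [h2, hπker] at h1
    omega
  have hXle : Nat.card (moved φ) ≤ 16 * 4 := by
    rw [← f.ker.card_mul_index, Subgroup.index_ker, hker,
      Nat.card_congr (subgroupOfEquivOfLe hm.le).toEquiv, hMcard, ← hπker]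
    exact Nat.mul_le_mul_left _ (card_le_of_le fun y ⟨x, hx⟩ => hx ▸ MonoidHom.mem_ker.2 (hD2 (x : P) s))
  obtain ⟨i, hi⟩ := exists_two_pow r.hyp.two hm.le
  rw [hMcard] at hi
  have hi2 : i ≤ 2 := by
    by_contra hi2
    have := Nat.mul_le_mul_right 16 (Nat.pow_le_pow_right (show 0 < 2 by norm_num) (show 3 ≤ i by omega))
    rw [← hi] at this
    norm_num at this
    omega
  have hX64 : Nat.card (moved φ) = 64 := by
    rcases (show i = 0 ∨ i = 1 ∨ i = 2 by omega) with rfl | rfl | rfl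
    · exact absurd (eq_of_le_of_card_ge hm.le (by rw [hi, hMcard]; norm_num)) hlt.ne
    · exact (r.hyp.no_index_two hm.inv.inv hm.le (by rw [hi, hMcard]; norm_num)).elim
    · rw [hi]; norm_num
  obtain ⟨x, hx, hxM⟩ : ∃ x ∈ moved φ, x ∉ M := SetLike.exists_of_lt hlt
  have hzc : zc φ = vz P := by
    refine le_antisymm (fun z hz => ?_) (vz_le_zc r)
    have hzM := hm.zle hz
    refine r.invol_mem hm.inv hm.comm hzM ?_
    by_contra hz2
    exact hxM (hzero x hx ⟨z, hzM⟩ (fun e => hz2 (congrArg Subtype.val e))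
      (D_eq_one_iff.2 (zc_comm hz hx).eq.symm))
  have h4 : Nat.card (zc φ) = 4 := hzc ▸ r.card_vz
  refine ⟨⟨fun z hz => (hzc ▸ hz : z ∈ vz P).2, fun y hy => ?_, by rw [hX64, h4]⟩, h4⟩
  have hy2 : y ^ 2 ∈ M := by
    have h : (⟨y, hy⟩ : moved φ) ^ 2 ∈ f.ker := by rw [MonoidHom.mem_ker, map_pow]; exact hD2 y s
    rw [hker] at h
    exact h
  rw [hzc]
  refine r.invol_mem hm.inv hm.comm hy2 ?_
  by_contra h4'
  have hyM : y ∈ M := hzero y hy ⟨y ^ 2, hy2⟩ (fun e => h4' (congrArg Subtype.val e))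
    (D_eq_one_iff.2 (Commute.pow_right (Commute.refl y) 2))
  exact h4' (by rw [← pow_mul]; exact congrArg Subtype.val (hn.1 ⟨y, hyM⟩))

theorem big (hna : ∃ a ∈ moved φ, ∃ b ∈ moved φ, a * b ≠ b * a) :
    Big φ ∧ Nat.card (zc φ) = 4 := by
  classical
  have hzc : ∀ a ∈ zc φ, ∀ b ∈ zc φ, a * b = b * a := fun a ha b hb => (zc_comm ha hb.1).eq
  by_cases hc : ∀ N : Subgroup P, Inv φ N → N ≤ moved φ → (∀ a ∈ N, ∀ b ∈ N, a * b = b * a) → N ≤ zc φ
  · exact r.central_case ⟨r.hyp, hc⟩ ⟨zc_inv φ, zc_le φ, hzc, le_rfl,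
      fun N h1 h2 h3 h4 => le_antisymm (hc N h1 h2 h3) h4⟩ hna
  push Not at hc
  obtain ⟨N, hN, hNX, hNc, hNz⟩ := hc
  set S := {L : Subgroup P | Inv φ L ∧ L ≤ moved φ ∧ (∀ a ∈ L, ∀ b ∈ L, a * b = b * a) ∧ N ≤ L ∧ zc φ ≤ L}
  have hmem : N ⊔ zc φ ∈ S := by
    haveI := hN.nrm
    haveI := (zc_inv φ).nrm
    refine ⟨⟨inferInstance, fun x hx => ?_⟩, sup_le hNX (zc_le φ), ?_, le_sup_left, le_sup_right⟩
    · have : (N ⊔ zc φ).map φ.toMonoidHom ≤ N ⊔ zc φ := by
        rw [Subgroup.map_sup, hN.map_eq, (zc_inv φ).map_eq]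
      exact this (mem_map_of_mem φ.toMonoidHom hx)
    · rw [sup_eq_closure]
      refine comm_closure ?_
      rintro a (ha | ha) b (hb | hb)
      exacts [hNc a ha b hb, (zc_comm hb (hNX ha)).eq.symm, (zc_comm ha (hNX hb)).eq, hzc a ha b hb]
  obtain ⟨M, ⟨hM, hMX, hMc, hNM, hzM⟩, hmax⟩ :=
    Set.exists_max_image S (fun L => Nat.card L) (Set.toFinite _) ⟨_, hmem⟩
  refine r.noncentral_case (M := M) ⟨hM, hMX, hMc, hzM, fun L h1 h2 h3 h4 =>
    (eq_of_le_of_card_ge h4 (hmax L ⟨h1, h2, h3, hNM.trans h4, hzM.trans h4⟩)).symm⟩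
    fun h => hNz (hNM.trans h)

end Rotated

end CfsgLib.NormalRankTwo
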