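import Cfsg.Agent.NormalRankTwo.Basic
import Cfsg.Agent.NoNormalEight.Main

/-!
Counting tools for the subgroup moved by an automorphism.
-/

set_option autoImplicit false
set_option linter.unusedSectionVars false
set_option linter.style.haveILetI false

namespace CfsgLib.NormalRankTwo

open Subgroup
open scoped commutatorElement

variable {P : Type*} [Group P] [Finite P] {φ : MulAut P}

theorem br_one_left (y : P) : br 1 y = 1 := br_eq_one.2 (by simp)

/-- Commutators of elements of a normal subgroup. -/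
theorem br_mem_of_mem {N : Subgroup P} [hN : N.Normal] {x : P} (hx : x ∈ N) (g : P) : br x g ∈ N := by
  rw [br, show x * g * x⁻¹ * g⁻¹ = x * (g * x⁻¹ * g⁻¹) by group]
  exact mul_mem hx (hN.conj_mem _ (inv_mem hx) g)

theorem br_mul_left {a b y : P} (hc : Commute a (br b y)) : br (a * b) y = br b y * br a y := by
  have e : br (a * b) y = a * br b y * a⁻¹ * br a y := by simp only [br]; group
  rw [e, hc.eq, mul_inv_cancel_right]

/-- If all squares of `H` lie in `N`, so do the commutators. -/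
theorem br_mem_of_sq {H N : Subgroup P} [N.Normal] (hsq : ∀ x ∈ H, x ^ 2 ∈ N) {x y : P} (hx : x ∈ H)
    (hy : y ∈ H) : br x y ∈ N := by
  set q := QuotientGroup.mk' N
  have h2 : ∀ z ∈ H, q z * q z = 1 := fun z hz => by
    rw [← map_mul, ← pow_two]; exact (QuotientGroup.eq_one_iff _).2 (hsq z hz)
  have hinv : ∀ z ∈ H, (q z)⁻¹ = q z := fun z hz => inv_eq_of_mul_eq_one_right (h2 z hz)
  refine (QuotientGroup.eq_one_iff _).1 ?_
  show q (br x y) = 1
  rw [br, map_mul, map_mul, map_mul, map_inv, map_inv, hinv x hx, hinv y hy, mul_assoc (q x * q y),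
    ← map_mul]
  exact h2 _ (mul_mem hx hy)

/-- A nontrivial normal subgroup contains a central involution. -/
theorem exists_central_invol (hP : IsPGroup 2 P) (N : Subgroup P) [N.Normal] (hN : N ≠ ⊥) :
    ∃ z ∈ N, z ∈ center P ∧ z ^ 2 = 1 ∧ z ≠ 1 := by
  obtain ⟨x, hx, hx1, hxc⟩ := exists_central hP ⊥ N (bot_lt_iff_ne_bot.2 hN)
  have hxZ : x ∈ center P := mem_center_iff.2 fun g =>
    (br_eq_one.1 (mem_bot.1 (hxc g))).symm
  have hx1' : x ≠ 1 := fun e => hx1 (e ▸ one_mem _)
  obtain ⟨k, hk⟩ := hP x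
  induction k generalizing x with
  | zero => exact absurd (by simpa using hk) hx1'
  | succ k ih =>
    by_cases h2 : x ^ 2 = 1
    · exact ⟨x, hx, hxZ, h2, hx1'⟩
    · refine ih (x ^ 2) (pow_mem hx 2) (fun e => h2 (mem_bot.1 e)) (fun g => ?_) (pow_mem hxZ 2) h2
        (by rw [← pow_mul, ← pow_succ']; exact hk)
      exact mem_bot.2 (br_eq_one.2 (mem_center_iff.1 (pow_mem hxZ 2) g).symm)

/-- An element central modulo `N` whose square lies in `N`. -/
theorem exists_central_sq (hP : IsPGroup 2 P) (N K : Subgroup P) [N.Normal] [K.Normal] (h : N < K) :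
    ∃ x ∈ K, x ∉ N ∧ x ^ 2 ∈ N ∧ ∀ g : P, br x g ∈ N := by
  obtain ⟨x, hxK, hxN, hx⟩ := exists_central hP N K h
  have hx' : x ∈ centModIn ⊤ N := fun g _ => hx g
  obtain ⟨k, hk⟩ := hP x
  clear hx
  induction k generalizing x with
  | zero => exact absurd (by rw [show x = 1 by simpa using hk]; exact one_mem _) hxN
  | succ k ih =>
    by_cases h2 : x ^ 2 ∈ N
    · exact ⟨x, hxK, hxN, h2, fun g => hx' g (mem_top g)⟩
    · exact ih (x ^ 2) (pow_mem hxK 2) h2 (pow_mem hx' 2) (by rw [← pow_mul, ← pow_succ']; exact hk)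

theorem exists_two_pow {A B : Subgroup P} (hP : IsPGroup 2 P) (hAB : A ≤ B) :
    ∃ i : ℕ, Nat.card B = 2 ^ i * Nat.card A := by
  obtain ⟨a, ha⟩ := (hP.to_subgroup A).exists_card_eq
  obtain ⟨b, hb⟩ := (hP.to_subgroup B).exists_card_eq
  refine ⟨b - a, ?_⟩
  rw [ha, hb, ← pow_add, Nat.sub_add_cancel]
  have := card_le_of_le hAB
  rw [ha, hb] at this
  exact (Nat.pow_le_pow_iff_right (by norm_num)).1 this

theorem card_map_mk {A B : Subgroup P} [A.Normal] (hAB : A ≤ B) :
    Nat.card (B.map (QuotientGroup.mk' A)) * Nat.card A = Nat.card B := by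
  have h1 := (A.subgroupOf B).card_mul_index
  have h2 : (A.subgroupOf B).index = Nat.card (B.map (QuotientGroup.mk' A)) := by
    rw [← relIndex_ker, QuotientGroup.ker_mk']; rfl
  rw [h2, Nat.card_congr (subgroupOfEquivOfLe hAB).toEquiv] at h1
  rw [mul_comm]; exact h1

/-- A subgroup all pairs outside which have their product inside has index at most two. -/
theorem index_le_two (H : Subgroup P) (h : ∀ a b, a ∉ H → b ∉ H → a * b ∈ H) : H.index ≤ 2 := by
  by_cases hH : H = ⊤
  · rw [hH, index_top]; norm_num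
  obtain ⟨a, ha⟩ : ∃ a, a ∉ H := by
    by_contra hno; push Not at hno; exact hH (eq_top_iff.2 fun g _ => hno g)
  refine (index_eq_two_iff.2 ⟨a, fun b => ?_⟩).le
  by_cases hb : b ∈ H
  · exact Or.inr ⟨hb, fun hba => ha ((H.mul_mem_cancel_left hb).1 hba)⟩
  · exact Or.inl ⟨h b a hb ha, hb⟩

namespace Hyp

/-- A homomorphism from the moved subgroup invariant under `φ` is trivial. -/
theorem hom_const (h : Hyp φ) {H : Type*} [Group H] (f : ↥(moved φ) →* H)
    (hf : ∀ x : moved φ, f ⟨φ x, (moved_inv φ).inv x x.2⟩ = f x) (x : moved φ) : f x = 1 := by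
  have hle : moved φ ≤ f.ker.map (moved φ).subtype := h.moved_le fun y hy =>
    ⟨(⟨y, hy⟩ : moved φ)⁻¹ * ⟨φ y, (moved_inv φ).inv y hy⟩, by
      rw [SetLike.mem_coe, MonoidHom.mem_ker, map_mul, map_inv, hf ⟨y, hy⟩, inv_mul_cancel], rfl⟩
  obtain ⟨y, hy, hyx⟩ := hle x.2
  rw [← Subtype.ext hyx]
  exact hy

/-- A coset of `E` in the moved subgroup fixed by `φ` is `E`. -/
theorem mem_of_fixed_coset (h : Hyp φ) {E : Subgroup P} (hE : Inv φ E) (hEX : E ≤ moved φ)
    (hcom : ⁅moved φ, moved φ⁆ ≤ E) {x : P} (hx : x ∈ moved φ) (hxE : x⁻¹ * φ x ∈ E) : x ∈ E := by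
  obtain ⟨c, hc, hxc⟩ := h.fix_coset hE.inv hxE
  have hcX : c ∈ moved φ := by
    have := mul_mem hx (hEX hxc)
    rwa [mul_inv_cancel_left] at this
  have := mul_mem (h.fixed_mem hE hcom hcX hc) (inv_mem hxc)
  rwa [mul_inv_rev, inv_inv, mul_inv_cancel_left] at this

/-- An invariant subgroup of index two in an invariant subgroup gives a fixed coset. -/
theorem no_step (_h : Hyp φ) {A B : Subgroup P} (hA : Inv φ A) (hB : ∀ x ∈ B, φ x ∈ B) (hAB : A ≤ B)
    (h2 : Nat.card B = 2 * Nat.card A) (hfix : ∀ x ∈ B, x⁻¹ * φ x ∈ A → x ∈ A) : False := by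
  have hidx : (A.subgroupOf B).index = 2 := by
    have h1 := (A.subgroupOf B).card_mul_index
    rw [Nat.card_congr (subgroupOfEquivOfLe hAB).toEquiv, h2, mul_comm 2] at h1
    exact Nat.eq_of_mul_eq_mul_left Nat.card_pos h1
  have hall : ∀ x ∈ B, x ∈ A := fun x hx => by
    by_contra hxA
    refine hxA (hfix x hx ?_)
    have hm := (mul_mem_iff_of_index_two hidx (a := (⟨x, hx⟩ : B)⁻¹) (b := ⟨φ x, hB x hx⟩)).2
      (by
        simp only [mem_subgroupOf, inv_mem_iff, hA.mem_iff])
    simpa [mem_subgroupOf] using hm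
  have := card_le_of_le (show B ≤ A from hall)
  have : 0 < Nat.card A := Nat.card_pos
  omega

/-- The moved subgroup has no invariant subgroup of index two. -/
theorem no_index_two (h : Hyp φ) {S : Subgroup P} (hS : ∀ x ∈ S, φ x ∈ S) (hSX : S ≤ moved φ)
    (h2 : Nat.card (moved φ) = 2 * Nat.card S) : False := by
  have hidx : (S.subgroupOf (moved φ)).index = 2 := by
    have h1 := (S.subgroupOf (moved φ)).card_mul_index
    rw [Nat.card_congr (subgroupOfEquivOfLe hSX).toEquiv, h2, mul_comm 2] at h1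
    exact Nat.eq_of_mul_eq_mul_left Nat.card_pos h1
  have hmap : S.map φ.toMonoidHom = S := eq_of_le_of_card_ge
    (by rintro _ ⟨x, hx, rfl⟩; exact hS x hx) (card_map_of_injective φ.injective).ge
  have hle : moved φ ≤ S := h.moved_le fun x hx => by
    have hiff : φ x ∈ S ↔ x ∈ S := ⟨fun he => by
      rw [← hmap] at he; obtain ⟨y, hy, hye⟩ := he; rwa [← φ.injective hye], hS x⟩
    have hm := (mul_mem_iff_of_index_two hidx (a := (⟨x, hx⟩ : moved φ)⁻¹)
      (b := ⟨φ x, (moved_inv φ).inv x hx⟩)).2 (by simp only [mem_subgroupOf, inv_mem_iff, hiff])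
    simpa [mem_subgroupOf] using hm
  have := card_le_of_le hle
  have : 0 < Nat.card S := Nat.card_pos
  omega

/-- The cosets of `A` in `B` when there are four and none is fixed. -/
theorem four_cosets (h : Hyp φ) {A B : Subgroup P} (hA : Inv φ A) (hB : ∀ x ∈ B, φ x ∈ B)
    (hAB : A ≤ B) (h4 : Nat.card B = 4 * Nat.card A) (hfix : ∀ x ∈ B, x⁻¹ * φ x ∈ A → x ∈ A)
    {x : P} (hx : x ∈ B) (hxA : x ∉ A) :
    φ x ∉ A ∧ (x * φ x)⁻¹ * φ (φ x) ∈ A ∧
      ∀ y ∈ B, ∃ a ∈ A, y = a ∨ y = x * a ∨ y = φ x * a ∨ y = x * φ x * a := by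
  classical
  haveI := hA.nrm
  set q := QuotientGroup.mk' A with hq
  have hker : ∀ u v : P, q u = q v → u⁻¹ * v ∈ A := fun u v e => QuotientGroup.eq.1 e
  have hone : ∀ u : P, q u = 1 → u ∈ A := fun u e => (QuotientGroup.eq_one_iff u).1 e
  have hc := card_map_mk hAB
  rw [h4, ← hq] at hc
  have hc4 : Nat.card (B.map q) = 4 := Nat.eq_of_mul_eq_mul_right Nat.card_pos hc
  have hne : ∀ u ∈ B, u ∉ A → q (φ u) ≠ q u := fun u hu huA e => huA (hfix u hu (hker _ _ e.symm))
  have hnA : ∀ u, u ∉ A → φ u ∉ A := fun u hu e => hu ((hA.mem_iff u).1 e)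
  have hx1 : q x ≠ 1 := fun e => hxA (hone x e)
  have hy1 : q (φ x) ≠ 1 := fun e => hnA x hxA (hone _ e)
  set S : Finset (P ⧸ A) := {1, q x, q (φ x), q (x * φ x)} with hS
  have hxy : q x * q (φ x) ≠ 1 := by
    intro e
    -- then the square of `φ` fixes the coset
    have e2 : q (φ (φ x)) = q x := by
      have e' : q (φ x) * q (φ (φ x)) = 1 := by
        rw [← map_mul, ← map_mul]
        refine (QuotientGroup.eq_one_iff _).2 (hA.inv _ (hone _ ?_))
        rw [map_mul]; exact e
      rw [eq_inv_of_mul_eq_one_right e', ← eq_inv_of_mul_eq_one_left e]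
    obtain ⟨m, ⟨l, rfl⟩, hm⟩ := h.exists_odd_period
    have key : ∀ j, q ((φ ^ (2 * j)) x) = q x := fun j => by
      induction j with
      | zero => rfl
      | succ j ih =>
        rw [show 2 * (j + 1) = (2 * j + 1) + 1 by ring, pow_succ', MulAut.mul_apply, pow_succ',
          MulAut.mul_apply]
        obtain ⟨a, ha, hja⟩ : ∃ a ∈ A, (φ ^ (2 * j)) x = x * a :=
          ⟨_, hker _ _ ih.symm, (mul_inv_cancel_left _ _).symm⟩
        rw [hja, map_mul, map_mul, map_mul, e2,
          show q (φ (φ a)) = 1 from (QuotientGroup.eq_one_iff _).2 (hA.inv _ (hA.inv _ ha)), mul_one]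
    obtain ⟨a, ha, hja⟩ : ∃ a ∈ A, (φ ^ (2 * l)) x = x * a :=
      ⟨_, hker _ _ (key l).symm, (mul_inv_cancel_left _ _).symm⟩
    have h0 := congrArg (fun f : MulAut P => q (f x)) hm
    simp only [MulAut.one_apply] at h0
    rw [pow_succ', MulAut.mul_apply, hja, map_mul, map_mul,
      show q (φ a) = 1 from (QuotientGroup.eq_one_iff _).2 (hA.inv _ ha), mul_one] at h0
    exact hne x hx hxA h0
  have hcard : S.card = 4 := by
    rw [hS, Finset.card_insert_of_notMem, Finset.card_insert_of_notMem, Finset.card_insert_of_notMem,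
      Finset.card_singleton]
    · rw [Finset.mem_singleton, map_mul]
      exact fun e => hx1 (mul_eq_right.1 e.symm)
    · simp only [Finset.mem_insert, Finset.mem_singleton, not_or, map_mul]
      exact ⟨Ne.symm (hne x hx hxA), fun e => hy1 (mul_eq_left.1 e.symm)⟩
    · simp only [Finset.mem_insert, Finset.mem_singleton, not_or, map_mul]
      exact ⟨hx1.symm, hy1.symm, hxy.symm⟩
  have hall : ∀ y ∈ B, q y ∈ S := by
    intro y hy
    by_contra hyS
    have hsub : ∀ z ∈ insert (q y) S, z ∈ B.map q := by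
      intro z hz
      simp only [hS, Finset.mem_insert, Finset.mem_singleton] at hz
      rcases hz with rfl | rfl | rfl | rfl | rfl
      · exact ⟨y, hy, rfl⟩
      · exact one_mem _
      · exact ⟨x, hx, rfl⟩
      · exact ⟨_, hB x hx, rfl⟩
      · exact ⟨_, mul_mem hx (hB x hx), rfl⟩
    have hle : (insert (q y) S).card ≤ Nat.card (B.map q) := by
      rw [← Nat.card_eq_finsetCard]
      exact Nat.card_le_card_of_injective (fun z => (⟨z.1, hsub z.1 z.2⟩ : B.map q))
        fun u v e => Subtype.ext (congrArg (fun w : B.map q => (w : P ⧸ A)) e)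
    rw [Finset.card_insert_of_notMem hyS, hcard, hc4] at hle
    omega
  refine ⟨hnA x hxA, ?_, fun y hy => ?_⟩
  · have hm := hall _ (hB _ (hB x hx))
    simp only [hS, Finset.mem_insert, Finset.mem_singleton] at hm
    rcases hm with e | e | e | e
    · exact absurd (hone _ e) (hnA _ (hnA x hxA))
    · exfalso
      obtain ⟨a, ha, hxa⟩ : ∃ a ∈ A, φ (φ x) = x * a :=
        ⟨_, hker _ _ e.symm, (mul_inv_cancel_left _ _).symm⟩
      obtain ⟨m, ⟨l, rfl⟩, hm⟩ := h.exists_odd_period
      have key : ∀ j, q ((φ ^ (2 * j)) x) = q x := fun j => by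
        induction j with
        | zero => rfl
        | succ j ih =>
          rw [show 2 * (j + 1) = 2 + 2 * j by ring, pow_add, MulAut.mul_apply, pow_two,
            MulAut.mul_apply]
          obtain ⟨b, hb, hjb⟩ : ∃ b ∈ A, (φ ^ (2 * j)) x = x * b :=
            ⟨_, hker _ _ ih.symm, (mul_inv_cancel_left _ _).symm⟩
          rw [hjb, map_mul, map_mul, map_mul, e,
            show q (φ (φ b)) = 1 from (QuotientGroup.eq_one_iff _).2 (hA.inv _ (hA.inv _ hb)), mul_one]
      obtain ⟨b, hb, hjb⟩ : ∃ b ∈ A, (φ ^ (2 * l)) x = x * b :=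
        ⟨_, hker _ _ (key l).symm, (mul_inv_cancel_left _ _).symm⟩
      have h0 := congrArg (fun f : MulAut P => q (f x)) hm
      simp only [MulAut.one_apply] at h0
      rw [pow_succ', MulAut.mul_apply, hjb, map_mul, map_mul,
        show q (φ b) = 1 from (QuotientGroup.eq_one_iff _).2 (hA.inv _ hb), mul_one] at h0
      exact hne x hx hxA h0
    · exact absurd e (hne _ (hB x hx) (hnA x hxA))
    · exact hker _ _ e.symm
  · have hm := hall y hy
    simp only [hS, Finset.mem_insert, Finset.mem_singleton] at hm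
    rcases hm with e | e | e | e
    · exact ⟨y, hone y e, Or.inl rfl⟩
    · exact ⟨_, hker _ _ e.symm, Or.inr (Or.inl (mul_inv_cancel_left _ _).symm)⟩
    · exact ⟨_, hker _ _ e.symm, Or.inr (Or.inr (Or.inl (mul_inv_cancel_left _ _).symm))⟩
    · exact ⟨_, hker _ _ e.symm, Or.inr (Or.inr (Or.inr (mul_inv_cancel_left _ _).symm))⟩

/-- Sectional bound: squares of `H` in `N` give at most sixteen cosets. -/
theorem card_le_of_sq (h : Hyp φ) {H N : Subgroup P} [N.Normal] (hNH : N ≤ H)
    (hsq : ∀ x ∈ H, x ^ 2 ∈ N) : Nat.card H ≤ 16 * Nat.card N := by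
  haveI : Fact (Nat.Prime 2) := ⟨Nat.prime_two⟩
  have hle : frattini H ≤ N.subgroupOf H := by
    refine CfsgLib.PGroupBasic.frattini_le_of_elementary (p := 2) _ ?_ fun x => hsq x x.2
    rw [_root_.commutator_def, commutator_le]
    intro a _ b _
    rw [mem_subgroupOf, commutatorElement_def]
    exact br_mem_of_sq hsq a.2 b.2
  have h1 := CfsgLib.NoNormalEight.frattini_index h.two h.small H
  have h2 : (N.subgroupOf H).index ≤ 16 :=
    (Nat.le_of_dvd (Nat.pos_of_ne_zero index_ne_zero_of_finite) (index_dvd_of_le hle)).trans h1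
  calc Nat.card H = Nat.card (N.subgroupOf H) * (N.subgroupOf H).index :=
        (card_mul_index _).symm
    _ ≤ Nat.card N * 16 := by
        rw [Nat.card_congr (subgroupOfEquivOfLe hNH).toEquiv]; exact Nat.mul_le_mul_left _ h2
    _ = _ := mul_comm _ _

/-- An involution central modulo a central four-group lies in it. -/
theorem mem_of_four (h : Hyp φ) {E : Subgroup P} (hE : E ≤ center P) (hE2 : ∀ e ∈ E, e ^ 2 = 1)
    (hE4 : Nat.card E = 4) {v : P} (hv : v ^ 2 = 1) (hvX : ∀ y, br v y ∈ E) : v ∈ E := by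
  by_contra hvE
  haveI : E.Normal := ⟨fun e he g => by
    rw [mem_center_iff.1 (hE he) g, mul_inv_cancel_right]; exact he⟩
  have hv' : v ^ 2 ∈ E := hv ▸ one_mem _
  have hc := card_sup_invol hvE
  have hcv : ∀ e ∈ E, ∀ y, Commute e y := fun e he y => (mem_center_iff.1 (hE he) y).symm
  have hmem : ∀ e ∈ E, e * v ∈ E ⊔ zpowers v := fun e he =>
    mul_mem (mem_sup_left he) (mem_sup_right (mem_zpowers v))
  have hn : (E ⊔ zpowers v).Normal := ⟨fun a ha g => by
    obtain ⟨e, he, rfl | rfl⟩ := mem_sup_invol hv' ha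
    · rw [← (hcv _ he g).eq, mul_inv_cancel_right]; exact ha
    · have e2 : g * (e * v) * g⁻¹ = e * (br v g)⁻¹ * v := by
        rw [← mul_assoc g e v, ← (hcv e he g).eq, br]; group
      rw [e2]
      exact hmem _ (mul_mem he (inv_mem (hvX g)))⟩
  have hab : IsMulCommutative (E ⊔ zpowers v : Subgroup P) := ⟨⟨fun a b => Subtype.ext (by
    obtain ⟨e, he, ha'⟩ := mem_sup_invol hv' a.2
    obtain ⟨f, hf, hb'⟩ := mem_sup_invol hv' b.2
    show (a : P) * b = b * a
    rcases ha' with ha' | ha' <;> rcases hb' with hb' | hb' <;> rw [ha', hb']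
    · exact hcv e he _
    · exact hcv e he _
    · exact (hcv f hf _).symm
    · exact ((hcv e he f).mul_right (hcv e he v)).mul_left ((hcv f hf v).symm.mul_right (Commute.refl v)))⟩⟩
  have := h.small _ hn hab fun a ha => by
    obtain ⟨e, he, rfl | rfl⟩ := mem_sup_invol hv' ha
    · exact hE2 _ he
    · rw [(hcv e he v).mul_pow, hv, hE2 e he, one_mul]
  omega

end Hyp

end CfsgLib.NormalRankTwo
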